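import Cfsg.Agent.OstromWagner.Coord

/-!
# The Ostrom–Wagner theorem
-/

set_option autoImplicit false
set_option linter.style.haveILetI false
set_option linter.unusedSectionVars false

namespace Cfsg.Lib.OW

open Configuration

universe u v

/-- an anonymous copy of `Fin n` carrying the transported field -/
def FieldCarrier (n : ℕ) : Type := Fin n

instance (n : ℕ) : Fintype (FieldCarrier n) := inferInstanceAs (Fintype (Fin n))

lemma mk_le_iff {F : Type*} [Field F] {V : Type*} [AddCommGroup V] [Module F V] (v : V) (hv : v ≠ 0)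
    (W : Submodule F V) : (Projectivization.mk F v hv).submodule ≤ W ↔ v ∈ W := by
  rw [Projectivization.submodule_mk, Submodule.span_singleton_le_iff_mem]

/-- the functional with given coefficients -/
def func3 {F : Type*} [Field F] (a b c : F) : (Fin 3 → F) →ₗ[F] F where
  toFun w := a * w 0 + b * w 1 + c * w 2
  map_add' x y := by simp only [Pi.add_apply]; ring
  map_smul' r x := by simp only [Pi.smul_apply, smul_eq_mul, RingHom.id_apply]; ring

lemma finrank_ker_func3 {F : Type*} [Field F] {a b c : F} {w : Fin 3 → F}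
    (hw : func3 a b c w ≠ 0) : Module.finrank F (LinearMap.ker (func3 a b c)) = 2 := by
  have hsurj : Function.Surjective (func3 a b c) := fun x =>
    ⟨(x / func3 a b c w) • w, by rw [map_smul, smul_eq_mul, div_mul_cancel₀ _ hw]⟩
  have h := LinearMap.finrank_range_add_finrank_ker (func3 a b c)
  rw [LinearMap.range_eq_top.2 hsurj, finrank_top, Module.finrank_self, Module.finrank_fin_fun] at h
  omega

variable {P : Type u} {L : Type v} [Membership P L] [ProjectivePlane P L] [Finite P] [Finite L]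

/-- commutative ring structure on the coordinate ring -/
@[reducible] noncomputable def Frame.commRing (Φ : Frame P L) : CommRing Φ.R :=
  { (inferInstance : NonAssocRing Φ.R) with
    mul_assoc := Φ.R_assoc
    mul_comm := Φ.R_comm }

/-- the Ostrom–Wagner theorem -/
theorem ostrom_wagner (ht : TwoTrans P L) :
    ∃ (F : Type) (_ : Field F) (_ : Fintype F) (φ : P ≃ Projectivization F (Fin 3 → F)),
      (∀ l : L, ∃ W : Submodule F (Fin 3 → F), Module.finrank F W = 2 ∧
          ∀ p : P, p ∈ l ↔ (φ p).submodule ≤ W) ∧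
      (∀ W : Submodule F (Fin 3 → F), Module.finrank F W = 2 →
          ∃ l : L, ∀ p : P, p ∈ l ↔ (φ p).submodule ≤ W) := by
  classical
  obtain ⟨Φ⟩ := exists_frame ht
  letI := Φ.commRing
  haveI : IsDomain Φ.R := NoZeroDivisors.to_isDomain _
  letI fR : Field Φ.R := (Finite.isDomain_to_isField Φ.R).toField
  obtain ⟨F, fF, fFin, ⟨g⟩⟩ : ∃ (F : Type) (_ : Field F) (_ : Fintype F),
      Nonempty (F ≃+* Φ.R) := by
    let e : FieldCarrier (Nat.card Φ.R) ≃ Φ.R := (Finite.equivFin Φ.R).symm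
    letI fF : Field (FieldCarrier (Nat.card Φ.R)) := e.field
    exact ⟨FieldCarrier (Nat.card Φ.R), fF, inferInstance, ⟨e.ringEquiv⟩⟩
  -- coordinates of the points
  let j : (Φ.R × Φ.R) ⊕ (Φ.R ⊕ Unit) → P :=
    Sum.elim (fun q => Φ.pt q.1 q.2) (Sum.elim (fun m => (Φ.sl m).1) (fun _ => Φ.B))
  have hj : Function.Bijective j := by
    constructor
    · rintro (⟨x, y⟩ | m | ⟨⟩) (⟨x', y'⟩ | m' | ⟨⟩) h <;>
        simp only [j, Sum.elim_inl, Sum.elim_inr] at h
      · obtain ⟨rfl, rfl⟩ := Φ.pt_inj h; rfl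
      · exact absurd (h ▸ (Φ.sl m').2.1) (Φ.pt_off x y)
      · exact absurd (h ▸ Φ.hB) (Φ.pt_off x y)
      · exact absurd (h ▸ (Φ.sl m).2.1) (Φ.pt_off x' y')
      · rw [show m = m' from Φ.dirEquiv.symm.injective (Subtype.ext h)]
      · exact absurd h (Φ.sl m).2.2
      · exact absurd (h ▸ Φ.hB) (Φ.pt_off x' y')
      · exact absurd h.symm (Φ.sl m').2.2
      · rfl
    · intro p
      by_cases hp : p ∈ Φ.l
      · by_cases hpB : p = Φ.B
        · exact ⟨Sum.inr (Sum.inr ()), hpB.symm⟩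
        · refine ⟨Sum.inr (Sum.inl (Φ.slope ⟨p, hp, hpB⟩ Φ.e)), ?_⟩
          simp only [j, Sum.elim_inl, Sum.elim_inr, Φ.sl_slope]
      · obtain ⟨a, b, h⟩ := Φ.pt_surj hp
        exact ⟨Sum.inl (a, b), h⟩
  -- coordinates in the projective plane
  let vec : (Φ.R × Φ.R) ⊕ (Φ.R ⊕ Unit) → (Fin 3 → F) :=
    Sum.elim (fun q => ![g.symm q.1, g.symm q.2, 1])
      (Sum.elim (fun m => ![1, g.symm m, 0]) (fun _ => ![0, 1, 0]))
  have hvec : ∀ q, vec q ≠ 0 := by
    rintro (⟨x, y⟩ | m | ⟨⟩) h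
    · exact one_ne_zero (congrFun h 2)
    · exact one_ne_zero (congrFun h 0)
    · exact one_ne_zero (congrFun h 1)
  let k : (Φ.R × Φ.R) ⊕ (Φ.R ⊕ Unit) → Projectivization F (Fin 3 → F) :=
    fun q => Projectivization.mk F (vec q) (hvec q)
  have hk : Function.Bijective k := by
    refine (Nat.bijective_iff_injective_and_card k).2 ⟨?_, ?_⟩
    · intro q q' h
      obtain ⟨a, ha⟩ := (Projectivization.mk_eq_mk_iff' F _ _ (hvec q) (hvec q')).1 h
      have h0 := congrFun ha 0
      have h1 := congrFun ha 1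
      have h2 := congrFun ha 2
      rcases q with ⟨x, y⟩ | m | ⟨⟩ <;> rcases q' with ⟨x', y'⟩ | m' | ⟨⟩ <;>
        simp [vec] at h0 h1 h2 ⊢ <;> simp_all
    · rw [Projectivization.card_of_finrank F (Fin 3 → F) (n := 3) (by rw [Module.finrank_fin_fun]),
        Finset.sum_range_succ, Finset.sum_range_succ, Finset.sum_range_succ, Finset.sum_range_zero,
        Nat.card_sum, Nat.card_sum, Nat.card_prod, Nat.card_unique (α := Unit), Nat.card_congr g.toEquiv]
      ring
  let φ : P ≃ Projectivization F (Fin 3 → F) :=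
    (Equiv.ofBijective j hj).symm.trans (Equiv.ofBijective k hk)
  have hφ : ∀ q, φ (j q) = k q := fun q => by
    simp [φ, Equiv.ofBijective_symm_apply_apply]
  have crit : ∀ (l : L) (a b c : F), (∀ q, j q ∈ l ↔ func3 a b c (vec q) = 0) →
      ∀ p : P, p ∈ l ↔ (φ p).submodule ≤ LinearMap.ker (func3 a b c) := by
    intro l a b c h p
    obtain ⟨q, rfl⟩ := hj.2 p
    rw [hφ, mk_le_iff, LinearMap.mem_ker, h]
  have lines : ∀ l : L, ∃ W : Submodule F (Fin 3 → F), Module.finrank F W = 2 ∧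
      ∀ p : P, p ∈ l ↔ (φ p).submodule ≤ W := by
    intro l
    by_cases hl : l = Φ.l
    · refine ⟨_, finrank_ker_func3 (a := 0) (b := 0) (c := 1) (w := ![0, 0, 1]) (by simp [func3]),
        crit l 0 0 1 ?_⟩
      subst hl
      rintro (⟨x, y⟩ | m | ⟨⟩)
      · simp [j, vec, func3, Φ.pt_off x y]
      · simp [j, vec, func3, (Φ.sl m).2.1]
      · simp [j, vec, func3, Φ.hB]
    obtain ⟨C, hCl, hC⟩ := exists_point (P := P) l Φ.l
    obtain ⟨p, hp, hpC, -⟩ := exists_on_ne l C C
    have hpl : p ∉ Φ.l := fun e => hpC (point_unique hl hp e hCl hC)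
    obtain ⟨a₀, b₀, rfl⟩ := Φ.pt_surj hpl
    by_cases hCB : C = Φ.B
    · have hV := Φ.mem_vert_iff (hCB ▸ hCl) hp
      refine ⟨_, finrank_ker_func3 (a := 1) (b := 0) (c := -g.symm a₀) (w := ![1, 0, 0])
        (by simp [func3]), crit l 1 0 (-g.symm a₀) ?_⟩
      rintro (⟨x, y⟩ | m | ⟨⟩)
      · simp only [j, Sum.elim_inl, hV]
        simp [vec, func3, ← sub_eq_add_neg, sub_eq_zero, g.symm.injective.eq_iff]
      · simp only [j, Sum.elim_inr, Sum.elim_inl]
        simp [vec, func3]
        intro hm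
        exact (Φ.sl m).2.2 (point_unique hl hm (Φ.sl m).2.1 (hCB ▸ hCl) Φ.hB)
      · simp [j, vec, func3, ← hCB, hCl]
    · obtain ⟨m, hm⟩ : ∃ m, (Φ.sl m).1 = C :=
        ⟨Φ.slope ⟨C, hC, hCB⟩ Φ.e, by rw [Φ.sl_slope]⟩
      obtain ⟨k₀, hk₀, hk₀b, hk₀V⟩ := Φ.exists_lineS m (b₀ - a₀ * m)
      have hkl : k₀ = l := by
        refine line_unique (fun e => Φ.pt_off a₀ b₀ (e ▸ (Φ.sl m).2.1) : (Φ.sl m).1 ≠ Φ.pt a₀ b₀)
          hk₀ ((hk₀V _ _).2 ?_) (hm ▸ hCl) hp
        change b₀ = a₀ * m + (b₀ - a₀ * m)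
        ring
      subst hkl
      set b := b₀ - a₀ * m
      refine ⟨_, finrank_ker_func3 (a := g.symm m) (b := -1) (c := g.symm b) (w := ![0, 1, 0])
        (by simp [func3]), crit k₀ (g.symm m) (-1) (g.symm b) ?_⟩
      rintro (⟨x, y⟩ | m' | ⟨⟩)
      · simp only [j, Sum.elim_inl, hk₀V]
        simp only [vec, func3, Sum.elim_inl, LinearMap.coe_mk, AddHom.coe_mk, Matrix.cons_val_zero,
          Matrix.cons_val_one, Matrix.cons_val, neg_one_mul, mul_one]
        rw [← g.injective.eq_iff]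
        simp only [map_add, map_mul, map_neg, map_zero, RingEquiv.apply_symm_apply]
        change y = x * m + b ↔ _
        constructor
        · intro h; rw [h]; ring
        · intro h; linear_combination -h
      · simp only [j, Sum.elim_inr, Sum.elim_inl]
        simp only [vec, func3, Sum.elim_inl, Sum.elim_inr, LinearMap.coe_mk, AddHom.coe_mk,
          Matrix.cons_val_zero, Matrix.cons_val_one, Matrix.cons_val, neg_one_mul, mul_one, mul_zero,
          add_zero]
        rw [← sub_eq_add_neg, sub_eq_zero, g.symm.injective.eq_iff]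
        constructor
        · intro h
          exact Φ.dirEquiv.symm.injective (Subtype.ext
            (point_unique hl hk₀ (Φ.sl m).2.1 h (Φ.sl m').2.1))
        · rintro rfl; exact hk₀
      · simp only [j, Sum.elim_inr]
        simp [vec, func3]
        intro h
        exact hCB (point_unique hl hCl hC h Φ.hB)
  refine ⟨F, fF, fFin, φ, lines, fun W hW => ?_⟩
  obtain ⟨b⟩ : Nonempty (Module.Basis (Fin 2) F W) := ⟨Module.finBasisOfFinrankEq F W hW⟩
  have hb0 : ∀ i, (b i : Fin 3 → F) ≠ 0 := fun i h => b.ne_zero i (Subtype.ext h)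
  set p := φ.symm (Projectivization.mk F _ (hb0 0))
  set q := φ.symm (Projectivization.mk F _ (hb0 1))
  obtain ⟨l, hpl, hql⟩ := exists_line (L := L) p q
  obtain ⟨W', hW', hmem⟩ := lines l
  refine ⟨l, ?_⟩
  suffices W = W' by subst this; exact hmem
  refine Submodule.eq_of_le_of_finrank_eq ?_ (hW.trans hW'.symm)
  have h0 : (b 0 : Fin 3 → F) ∈ W' := by
    have := (hmem p).1 hpl
    rwa [show φ p = _ from φ.apply_symm_apply _, mk_le_iff] at this
  have h1 : (b 1 : Fin 3 → F) ∈ W' := by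
    have := (hmem q).1 hql
    rwa [show φ q = _ from φ.apply_symm_apply _, mk_le_iff] at this
  intro x hx
  have hx' := congrArg Subtype.val (b.sum_repr ⟨x, hx⟩)
  simp only [Fin.sum_univ_two, Submodule.coe_add, Submodule.coe_smul] at hx'
  rw [← hx']
  exact add_mem (W'.smul_mem _ h0) (W'.smul_mem _ h1)

end Cfsg.Lib.OW
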