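import Mathlib

/-!
# Finite alternative division rings are fields (Artin–Zorn)

Only two-generated associativity is needed, proved by induction on total degree from
left Moufang's identity and alternativity.
-/

set_option autoImplicit false
set_option linter.style.haveILetI false

namespace Cfsg.Lib.OW.Alt

variable {R : Type*} [NonAssocRing R]

/-- the associator -/
def asc (x y z : R) : R := x * y * z - x * (y * z)

lemma asc_add_left (x x' y z : R) : asc (x + x') y z = asc x y z + asc x' y z := by
  simp only [asc, add_mul]; abel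

lemma asc_add_mid (x y y' z : R) : asc x (y + y') z = asc x y z + asc x y' z := by
  simp only [asc, add_mul, mul_add]; abel

lemma asc_add_right (x y z z' : R) : asc x y (z + z') = asc x y z + asc x y z' := by
  simp only [asc, mul_add]; abel

lemma asc_eq_zero_iff {x y z : R} : asc x y z = 0 ↔ x * y * z = x * (y * z) := by
  simp [asc, sub_eq_zero]

variable (R)

/-- the identities of an alternative ring which are used -/
structure AltId : Prop where
  la : ∀ x y : R, x * x * y = x * (x * y)
  ra : ∀ x y : R, x * y * y = x * (y * y)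
  lm : ∀ x y z : R, x * (y * x) * z = x * (y * (x * z))

variable {R}

lemma AltId.asc_self12 (h : AltId R) (x y : R) : asc x x y = 0 := asc_eq_zero_iff.2 (h.la x y)

lemma AltId.asc_self23 (h : AltId R) (x y : R) : asc x y y = 0 := asc_eq_zero_iff.2 (h.ra x y)

lemma AltId.swap12 (h : AltId R) (x y z : R) : asc x y z = -asc y x z := by
  have := h.asc_self12 (x + y) z
  rw [asc_add_left, asc_add_mid, asc_add_mid, h.asc_self12, h.asc_self12, zero_add, add_zero] at this
  exact eq_neg_of_add_eq_zero_left this

lemma AltId.swap23 (h : AltId R) (x y z : R) : asc x y z = -asc x z y := by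
  have := h.asc_self23 x (y + z)
  rw [asc_add_mid, asc_add_right, asc_add_right, h.asc_self23, h.asc_self23, zero_add, add_zero]
    at this
  exact eq_neg_of_add_eq_zero_left this

lemma AltId.asc_self13 (h : AltId R) (x y : R) : asc x y x = 0 := by
  rw [h.swap12, h.asc_self23, neg_zero]

lemma AltId.moufang (h : AltId R) (x y z : R) : asc x (y * x) z = x * asc x y z := by
  rw [h.swap12 x y z]
  simp only [asc, h.lm]
  rw [mul_neg, mul_sub]; abel

lemma AltId.moufang_lin (h : AltId R) (x a y z : R) :
    asc x (y * a) z + asc a (y * x) z = x * asc a y z + a * asc x y z := by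
  have := h.moufang (x + a) y z
  simp only [mul_add, add_mul, asc_add_left, asc_add_mid, h.moufang x y z, h.moufang a y z] at this
  have e : asc x (y * a) z + asc a (y * x) z + (x * asc x y z + a * asc a y z) =
      x * asc a y z + a * asc x y z + (x * asc x y z + a * asc a y z) := by
    calc _ = x * asc x y z + asc a (y * x) z + (asc x (y * a) z + a * asc a y z) := by abel
      _ = _ := by rw [this]; abel
  exact add_right_cancel e

/-- monomials of given degree in two letters -/
inductive Mon (a b : R) : ℕ → R → Prop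
  | fst : Mon a b 1 a
  | snd : Mon a b 1 b
  | mul {i j : ℕ} {x y : R} : Mon a b i x → Mon a b j y → Mon a b (i + j) (x * y)

lemma Mon.pos {a b : R} {n : ℕ} {x : R} (h : Mon a b n x) : 1 ≤ n := by
  induction h <;> omega

/-- associativity of monomials of total degree at most `d` -/
def AssocUpTo (a b : R) (d : ℕ) : Prop :=
  ∀ i j k u v w, Mon a b i u → Mon a b j v → Mon a b k w → i + j + k ≤ d → asc u v w = 0

lemma Mon.exists_last {a b : R} {d : ℕ} (hd : AssocUpTo a b d) {n : ℕ} {x : R}
    (h : Mon a b n x) (hn : n ≤ d) :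
    (n = 1 ∧ (x = a ∨ x = b)) ∨
      ∃ m y c, (c = a ∨ c = b) ∧ Mon a b m y ∧ n = m + 1 ∧ x = y * c := by
  induction h with
  | fst => exact Or.inl ⟨rfl, Or.inl rfl⟩
  | snd => exact Or.inl ⟨rfl, Or.inr rfl⟩
  | @mul i j x y hx hy _ ihy =>
    rcases ihy (le_trans (Nat.le_add_left j i) hn) with ⟨rfl, hc⟩ | ⟨m, z, c, hc, hz, rfl, rfl⟩
    · exact Or.inr ⟨i, x, y, hc, hx, rfl, rfl⟩
    · refine Or.inr ⟨i + m, x * z, c, hc, Mon.mul hx hz, by omega, ?_⟩
      have hcm : Mon a b 1 c := by rcases hc with rfl | rfl <;> constructor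
      exact (asc_eq_zero_iff.1 (hd i m 1 x z c hx hz hcm (by omega))).symm

/-- `x` is `c` or ends with the letter `c` -/
def Ends (a b c : R) (n : ℕ) (x : R) : Prop :=
  (n = 1 ∧ x = c) ∨ ∃ m y, Mon a b m y ∧ n = m + 1 ∧ x = y * c

lemma pair_case (h : AltId R) {a b : R} {d : ℕ} (hd : AssocUpTo a b d)
    {c : R} (hc : c = a ∨ c = b) {i j k : ℕ} {u v w : R} (hu : Ends a b c i u)
    (hv : Ends a b c j v) (hw : Mon a b k w) (hs : i + j + k ≤ d + 1) : asc u v w = 0 := by
  have hcm : Mon a b 1 c := by rcases hc with rfl | rfl <;> constructor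
  have one : ∀ m y, Mon a b m y → m + 1 + k ≤ d → asc c (y * c) w = 0 := by
    intro m y hy hle
    rw [h.moufang, hd 1 m k c y w hcm hy hw (by omega), mul_zero]
  rcases hu with ⟨rfl, rfl⟩ | ⟨m, u', hu', rfl, rfl⟩ <;>
    rcases hv with ⟨rfl, rfl⟩ | ⟨m', v', hv', rfl, rfl⟩
  · exact h.asc_self12 _ _
  · exact one m' v' hv' (by omega)
  · rw [h.swap12, one m u' hu' (by omega), neg_zero]
  · have hk := hw.pos
    have key := h.moufang_lin c (u' * c) v' w
    have e : v' * (u' * c) = v' * u' * c :=
      (asc_eq_zero_iff.1 (hd m' m 1 v' u' c hv' hu' hcm (by omega))).symm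
    rw [e, one (m' + m) (v' * u') (Mon.mul hv' hu') (by omega),
      hd (m + 1) m' k (u' * c) v' w (Mon.mul hu' hcm) hv' hw (by omega),
      hd 1 m' k c v' w hcm hv' hw (by omega)] at key
    simpa using key

lemma assocUpTo (h : AltId R) (a b : R) : ∀ d, AssocUpTo a b d := by
  intro d
  induction d with
  | zero =>
    intro i j k u v w hu _ _ hs
    have := hu.pos
    omega
  | succ d ih =>
    intro i j k u v w hu hv hw hs
    have := hu.pos
    have := hv.pos
    have := hw.pos
    have ends : ∀ n x, Mon a b n x → n ≤ d → Ends a b a n x ∨ Ends a b b n x := by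
      intro n x hx hn
      rcases hx.exists_last ih hn with ⟨h1, rfl | rfl⟩ | ⟨m, y, c, hc, hy, hn', rfl⟩
      · exact Or.inl (Or.inl ⟨h1, rfl⟩)
      · exact Or.inr (Or.inl ⟨h1, rfl⟩)
      · rcases hc with rfl | rfl
        · exact Or.inl (Or.inr ⟨m, y, hy, hn', rfl⟩)
        · exact Or.inr (Or.inr ⟨m, y, hy, hn', rfl⟩)
    have uw : ∀ c, (c = a ∨ c = b) → Ends a b c i u → Ends a b c k w → asc u v w = 0 := by
      intro c hc h1 h2
      rw [h.swap23, pair_case h ih hc h1 h2 hv (by omega), neg_zero]
    have vw : ∀ c, (c = a ∨ c = b) → Ends a b c j v → Ends a b c k w → asc u v w = 0 := by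
      intro c hc h1 h2
      rw [h.swap12, h.swap23, neg_neg, pair_case h ih hc h1 h2 hu (by omega)]
    rcases ends i u hu (by omega) with h1 | h1 <;> rcases ends j v hv (by omega) with h2 | h2 <;>
      rcases ends k w hw (by omega) with h3 | h3 <;>
      first
        | exact pair_case h ih (Or.inl rfl) h1 h2 hw hs
        | exact pair_case h ih (Or.inr rfl) h1 h2 hw hs
        | exact uw a (Or.inl rfl) h1 h3
        | exact uw b (Or.inr rfl) h1 h3
        | exact vw a (Or.inl rfl) h2 h3
        | exact vw b (Or.inr rfl) h2 h3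

/-- monomials including `1` -/
def monSet (a b : R) : Set R := {x | x = 1 ∨ ∃ n, Mon a b n x}

/-- the subring generated by two elements -/
def gen (a b : R) : AddSubgroup R := AddSubgroup.closure (monSet a b)

lemma one_mem_gen (a b : R) : (1 : R) ∈ gen a b := AddSubgroup.subset_closure (Or.inl rfl)

lemma fst_mem_gen (a b : R) : a ∈ gen a b := AddSubgroup.subset_closure (Or.inr ⟨1, .fst⟩)

lemma snd_mem_gen (a b : R) : b ∈ gen a b := AddSubgroup.subset_closure (Or.inr ⟨1, .snd⟩)

lemma mul_mem_gen {a b x y : R} (hx : x ∈ gen a b) (hy : y ∈ gen a b) : x * y ∈ gen a b := by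
  induction hx using AddSubgroup.closure_induction with
  | mem x hx =>
    induction hy using AddSubgroup.closure_induction with
    | mem y hy =>
      apply AddSubgroup.subset_closure
      rcases hx with rfl | ⟨n, hx⟩
      · simpa using hy
      rcases hy with rfl | ⟨m, hy⟩
      · exact Or.inr ⟨n, by simpa using hx⟩
      · exact Or.inr ⟨n + m, hx.mul hy⟩
    | zero => simp
    | add y z _ _ h1 h2 => rw [mul_add]; exact add_mem h1 h2
    | neg y _ h1 => rw [mul_neg]; exact neg_mem h1
  | zero => simp
  | add x z _ _ h1 h2 => rw [add_mul]; exact add_mem h1 h2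
  | neg x _ h1 => rw [neg_mul]; exact neg_mem h1

lemma mul_assoc_gen (h : AltId R) {a b x y z : R} (hx : x ∈ gen a b) (hy : y ∈ gen a b)
    (hz : z ∈ gen a b) : x * y * z = x * (y * z) := by
  induction hx using AddSubgroup.closure_induction with
  | mem x hx =>
    induction hy using AddSubgroup.closure_induction with
    | mem y hy =>
      induction hz using AddSubgroup.closure_induction with
      | mem z hz =>
        rcases hx with rfl | ⟨i, hx⟩
        · simp
        rcases hy with rfl | ⟨j, hy⟩
        · simp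
        rcases hz with rfl | ⟨k, hz⟩
        · simp
        exact asc_eq_zero_iff.1 (assocUpTo h a b _ i j k x y z hx hy hz le_rfl)
      | zero => simp
      | add u v _ _ h1 h2 => simp only [mul_add, h1, h2]
      | neg u _ h1 => simp only [mul_neg, h1]
    | zero => simp
    | add u v _ _ h1 h2 => simp only [mul_add, add_mul, h1, h2]
    | neg u _ h1 => simp only [mul_neg, neg_mul, h1]
  | zero => simp
  | add u v _ _ h1 h2 => simp only [add_mul, h1, h2]
  | neg u _ h1 => simp only [neg_mul, h1]

/-- the associative ring generated by two elements -/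
@[reducible] def genRing (h : AltId R) (a b : R) : Ring (gen a b) :=
  { (inferInstance : AddCommGroup (gen a b)) with
    mul := fun x y => ⟨x.1 * y.1, mul_mem_gen x.2 y.2⟩
    one := ⟨1, one_mem_gen a b⟩
    mul_assoc := fun x y z => Subtype.ext (mul_assoc_gen h x.2 y.2 z.2)
    one_mul := fun x => Subtype.ext (one_mul x.1)
    mul_one := fun x => Subtype.ext (mul_one x.1)
    zero_mul := fun x => Subtype.ext (zero_mul x.1)
    mul_zero := fun x => Subtype.ext (mul_zero x.1)
    left_distrib := fun x y z => Subtype.ext (mul_add x.1 y.1 z.1)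
    right_distrib := fun x y z => Subtype.ext (add_mul x.1 y.1 z.1) }

/-- A finite alternative ring without zero divisors is a field. -/
theorem comm_assoc [Finite R] [Nontrivial R] [NoZeroDivisors R] (h : AltId R) :
    (∀ x y : R, x * y = y * x) ∧ ∀ x y z : R, x * y * z = x * (y * z) := by
  have fld : ∀ a b : R, ∃ g : gen a b, ∀ x : gen a b, x.1 = 0 ∨ x.1 ∈ gen g.1 g.1 := by
    intro a b
    letI := genRing h a b
    haveI : NoZeroDivisors (gen a b) := ⟨fun {x y} hxy =>
      (mul_eq_zero.1 (congrArg Subtype.val hxy)).imp Subtype.ext Subtype.ext⟩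
    haveI : Nontrivial (gen a b) :=
      ⟨⟨⟨1, one_mem_gen a b⟩, ⟨0, zero_mem _⟩, fun e => one_ne_zero (congrArg Subtype.val e)⟩⟩
    haveI : IsDomain (gen a b) := NoZeroDivisors.to_isDomain _
    letI := (Finite.isDomain_to_isField (gen a b)).toField
    haveI : IsCyclic (gen a b)ˣ := inferInstance
    obtain ⟨g, hg⟩ := IsCyclic.exists_monoid_generator (α := (gen a b)ˣ)
    refine ⟨(g : gen a b), fun x => ?_⟩
    by_cases hx : x = 0
    · exact Or.inl (congrArg Subtype.val hx)
    · refine Or.inr ?_
      obtain ⟨m, hm⟩ := Submonoid.mem_powers_iff _ _ |>.1 (hg (Units.mk0 x hx))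
      have hm' : (g : gen a b) ^ m = x := by
        simpa using congrArg Units.val hm
      rw [← hm']
      clear hm hm'
      induction m with
      | zero => rw [pow_zero]; exact one_mem_gen _ _
      | succ m ih => rw [pow_succ]; exact mul_mem_gen ih (fst_mem_gen _ _)
  have comm : ∀ x y : R, x * y = y * x := by
    intro a b
    letI := genRing h a b
    haveI : NoZeroDivisors (gen a b) := ⟨fun {x y} hxy =>
      (mul_eq_zero.1 (congrArg Subtype.val hxy)).imp Subtype.ext Subtype.ext⟩
    haveI : Nontrivial (gen a b) :=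
      ⟨⟨⟨1, one_mem_gen a b⟩, ⟨0, zero_mem _⟩, fun e => one_ne_zero (congrArg Subtype.val e)⟩⟩
    haveI : IsDomain (gen a b) := NoZeroDivisors.to_isDomain _
    exact congrArg Subtype.val ((Finite.isDomain_to_isField (gen a b)).mul_comm
      ⟨a, fst_mem_gen a b⟩ ⟨b, snd_mem_gen a b⟩)
  refine ⟨comm, fun a b c => ?_⟩
  obtain ⟨g, hg⟩ := fld a b
  have sub : ∀ x ∈ gen a b, x ∈ gen g.1 c := by
    intro x hx
    rcases hg ⟨x, hx⟩ with h0 | h1
    · have h0' : x = 0 := h0
      rw [h0']; exact zero_mem _
    · refine AddSubgroup.closure_induction (p := fun y _ => y ∈ gen g.1 c) ?_ (zero_mem _)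
        (fun _ _ _ _ h1 h2 => add_mem h1 h2) (fun _ _ h1 => neg_mem h1) h1
      rintro y (rfl | ⟨n, hy⟩)
      · exact one_mem_gen _ _
      · induction hy with
        | fst => exact fst_mem_gen _ _
        | snd => exact fst_mem_gen _ _
        | mul _ _ h1 h2 => exact mul_mem_gen h1 h2
  exact mul_assoc_gen h (sub a (fst_mem_gen a b)) (sub b (snd_mem_gen a b)) (snd_mem_gen g.1 c)

end Cfsg.Lib.OW.Alt
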