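import Mathlib

/-!
# Counting lemmas for the Ostrom–Wagner theorem
-/

set_option autoImplicit false
set_option linter.style.haveILetI false

namespace Cfsg.Lib.OW

open MulAction

section Parity

variable {α : Type*}

lemma even_ncard_of_involutive [Finite α] (s : Set α) (f : α → α) (hs : ∀ x ∈ s, f x ∈ s)
    (hff : ∀ x ∈ s, f (f x) = x) (hne : ∀ x ∈ s, f x ≠ x) : Even s.ncard := by
  classical
  haveI := Fintype.ofFinite α
  rw [Set.ncard_eq_toFinset_card', ← ZMod.natCast_eq_zero_iff_even, Finset.card_eq_sum_ones,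
    Nat.cast_sum]
  refine Finset.sum_involution (fun x _ => f x) ?_ ?_ ?_ ?_
  · intro x _; simpa using CharTwo.add_self_eq_zero (1 : ZMod 2)
  · intro x hx _; exact hne x (Set.mem_toFinset.1 hx)
  · intro x hx; exact Set.mem_toFinset.2 (hs x (Set.mem_toFinset.1 hx))
  · intro x hx; exact hff x (Set.mem_toFinset.1 hx)

lemma exists_fixed_of_odd [Finite α] (s : Set α) (f : α → α) (hs : ∀ x ∈ s, f x ∈ s)
    (hff : ∀ x ∈ s, f (f x) = x) (hodd : Odd s.ncard) : ∃ x ∈ s, f x = x := by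
  by_contra hc
  push Not at hc
  exact Nat.not_even_iff_odd.2 hodd (even_ncard_of_involutive s f hs hff hc)

lemma odd_ncard_of_one_fixed [Finite α] (s : Set α) (f : α → α) (hs : ∀ x ∈ s, f x ∈ s)
    (hff : ∀ x ∈ s, f (f x) = x) (c : α) (hc : c ∈ s) (hfc : f c = c)
    (huniq : ∀ x ∈ s, f x = x → x = c) : Odd s.ncard := by
  have he : Even (s \ {c}).ncard := by
    refine even_ncard_of_involutive _ f ?_ (fun x hx => hff x hx.1) ?_
    · rintro x ⟨hx, hxc⟩
      refine ⟨hs x hx, fun h => hxc ?_⟩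
      rw [Set.mem_singleton_iff] at h ⊢
      rw [← hff x hx, h, hfc]
    · rintro x ⟨hx, hxc⟩ h
      exact hxc (huniq x hx h)
  rw [← Set.ncard_sdiff_singleton_add_one hc]
  exact he.add_one

end Parity

section Group

variable {G : Type*} [Group G] {α : Type*} [MulAction G α]

lemma card_eq_orbit_mul_stab (x : α) :
    Nat.card G = (orbit G x).ncard * Nat.card (stabilizer G x) := by
  rw [← index_stabilizer, mul_comm, Subgroup.card_mul_index]

lemma card_stab_congr [Finite G] {x y : α} (h : ∃ g : G, g • x = y) :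
    Nat.card (stabilizer G x) = Nat.card (stabilizer G y) := by
  obtain ⟨g, rfl⟩ := h
  have h1 := card_eq_orbit_mul_stab (G := G) x
  have h2 := card_eq_orbit_mul_stab (G := G) (g • x)
  rw [orbit_smul] at h2
  have hne : (orbit G x).ncard ≠ 0 := fun h0 => by
    rw [h0, zero_mul] at h1; exact Nat.card_pos.ne' h1
  exact Nat.eq_of_mul_eq_mul_left (Nat.pos_of_ne_zero hne) (h1.symm.trans h2)

/-- A subgroup containing the full `p`-part is transitive on an orbit of `p`-power length. -/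
lemma transitive_of_full_p_part [Finite G] [Finite α] {p b e : ℕ} (hp : p.Prime)
    (H S : Subgroup G) (hSH : S ≤ H) (hS : Nat.card S = p ^ e)
    (hmax : ¬ p ^ (e + 1) ∣ Nat.card G) (s : Set α) (hs : s.ncard = p ^ b)
    (hinv : ∀ g ∈ H, ∀ x ∈ s, g • x ∈ s) (htr : ∀ x ∈ s, ∀ y ∈ s, ∃ g ∈ H, g • x = y)
    {x : α} (hx : x ∈ s) :
    (∀ y ∈ s, ∃ g ∈ S, g • x = y) ∧ Nat.card (stabilizer S x) * p ^ b = p ^ e := by
  have horb : orbit H x = s := by
    ext y
    refine ⟨?_, fun hy => ?_⟩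
    · rintro ⟨g, rfl⟩; exact hinv g g.2 x hx
    · obtain ⟨g, hg, rfl⟩ := htr x hx y hy; exact ⟨⟨g, hg⟩, rfl⟩
  have hS' := card_eq_orbit_mul_stab (G := S) x
  rw [hS] at hS'
  obtain ⟨j, -, hj⟩ := (Nat.dvd_prime_pow hp).1 (Dvd.intro_left _ hS'.symm)
  have hH := card_eq_orbit_mul_stab (G := H) x
  rw [horb, hs] at hH
  have hdiv : p ^ j ∣ Nat.card (stabilizer H x) := by
    rw [← hj]
    exact Subgroup.card_dvd_of_injective
      ({ toFun := fun g => ⟨⟨(g : S).1, hSH (g : S).2⟩, g.2⟩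
         map_one' := rfl
         map_mul' := fun _ _ => rfl } : stabilizer S x →* stabilizer H x)
      (fun a b hab => Subtype.ext (Subtype.ext (congrArg (fun t : stabilizer H x => (t : H).1) hab)))
  have hje : b + j ≤ e := by
    by_contra hc
    apply hmax
    refine (pow_dvd_pow p (show e + 1 ≤ b + j by omega)).trans ?_
    rw [pow_add]
    exact (mul_dvd_mul_left _ hdiv).trans (hH ▸ Subgroup.card_subgroup_dvd_card H)
  have hsub : orbit S x ⊆ s := by
    rintro y ⟨g, rfl⟩; exact hinv g (hSH g.2) x hx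
  have hle : p ^ b ≤ (orbit S x).ncard := by
    rw [hj] at hS'
    have : (orbit S x).ncard = p ^ (e - j) := by
      refine Nat.eq_of_mul_eq_mul_right (pow_pos hp.pos j) ?_
      rw [← hS', ← pow_add, Nat.sub_add_cancel (by omega)]
    rw [this]
    exact Nat.pow_le_pow_right hp.pos (by omega)
  have heq : orbit S x = s := Set.eq_of_subset_of_ncard_le hsub (by omega) (Set.toFinite s)
  refine ⟨fun y hy => ?_, ?_⟩
  · rw [← heq] at hy
    obtain ⟨g, rfl⟩ := hy
    exact ⟨g, g.2, rfl⟩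
  · rw [heq, hs] at hS'
    rw [mul_comm, ← hS']

lemma dvd_card_of_orbits [Finite α] {d : ℕ} (h : ∀ x : α, d ∣ (orbit G x).ncard) :
    d ∣ Nat.card α := by
  classical
  haveI := Fintype.ofFinite α
  haveI := Fintype.ofFinite (Quotient (orbitRel G α))
  rw [Nat.card_congr (selfEquivSigmaOrbits' G α), Nat.card_sigma]
  refine Finset.dvd_sum fun ω _ => ?_
  induction ω using Quotient.inductionOn' with
  | h x =>
    rw [orbitRel.Quotient.orbit_mk, Nat.card_coe_set_eq]
    exact h x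

lemma dvd_ncard_of_orbits [Finite α] {d : ℕ} (s : Set α) (hinv : ∀ g : G, ∀ x ∈ s, g • x ∈ s)
    (h : ∀ x ∈ s, d ∣ (orbit G x).ncard) : d ∣ s.ncard := by
  let M : SubMulAction G α := { carrier := s, smul_mem' := fun g _ hx => hinv g _ hx }
  rw [← Nat.card_coe_set_eq]
  refine dvd_card_of_orbits (G := G) (α := M) fun x => ?_
  have := h x.1 x.2
  rw [← Set.ncard_image_of_injective _ Subtype.val_injective, SubMulAction.val_image_orbit]
  exact this

/-- two `p`-subgroups of full order are conjugate. -/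
lemma exists_conj_of_full [Finite G] {p d : ℕ} [Fact p.Prime] (H A B : Subgroup G)
    (hA : A ≤ H) (hB : B ≤ H) (hAc : Nat.card A = p ^ d) (hBc : Nat.card B = p ^ d)
    (hmax : ¬ p ^ (d + 1) ∣ Nat.card H) :
    ∃ h ∈ H, ∀ x, x ∈ A ↔ h * x * h⁻¹ ∈ B := by
  have hd : (Nat.card H).factorization p = d := by
    have h1 : p ^ d ∣ Nat.card H := hAc ▸ Subgroup.card_dvd_of_le hA
    have h2 := ((Fact.out : p.Prime).pow_dvd_iff_le_factorization Nat.card_pos.ne').1 h1
    by_contra hne
    exact hmax (((Fact.out : p.Prime).pow_dvd_iff_le_factorization Nat.card_pos.ne').2 (by omega))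
  let SA : Sylow p H := Sylow.ofCard (A.subgroupOf H)
    (by rw [Nat.card_congr (Subgroup.subgroupOfEquivOfLe hA).toEquiv, hAc, hd])
  let SB : Sylow p H := Sylow.ofCard (B.subgroupOf H)
    (by rw [Nat.card_congr (Subgroup.subgroupOfEquivOfLe hB).toEquiv, hBc, hd])
  obtain ⟨h, hh⟩ := MulAction.exists_smul_eq H SA SB
  refine ⟨h.1, h.2, fun x => ?_⟩
  have key : ∀ y : H, y ∈ SA.1 ↔ h * y * h⁻¹ ∈ SB.1 := fun y => by
    rw [← hh, Sylow.coe_subgroup_smul]
    exact (Subgroup.smul_mem_pointwise_smul_iff (a := MulAut.conj h) (S := SA.1) (x := y)).symm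
  constructor
  · intro hx
    have := (key ⟨x, hA hx⟩).1 (by simpa [SA, Sylow.coe_ofCard, Subgroup.mem_subgroupOf] using hx)
    simpa [SB, Sylow.coe_ofCard, Subgroup.mem_subgroupOf] using this
  · intro hx
    have hxH : x ∈ H := by
      have := H.mul_mem (H.mul_mem (H.inv_mem h.2) (hB hx)) h.2
      simpa [mul_assoc] using this
    have := (key ⟨x, hxH⟩).2 (by simpa [SB, Sylow.coe_ofCard, Subgroup.mem_subgroupOf] using hx)
    simpa [SA, Sylow.coe_ofCard, Subgroup.mem_subgroupOf] using this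

lemma exists_double [Finite G] {d : ℕ} (H D : Subgroup G) (hDH : D ≤ H)
    (hD : Nat.card D = 2 ^ d) (hdvd : 2 ^ (d + 1) ∣ Nat.card H) :
    ∃ (e : G) (K : Subgroup G), K ≤ H ∧ D ≤ K ∧ Nat.card K = 2 ^ (d + 1) ∧ e ∈ K ∧ e ∉ D ∧
      e * e ∈ D ∧ e ∈ Subgroup.normalizer (D : Set G) ∧ ∀ k ∈ K, k ∈ D ∨ e⁻¹ * k ∈ D := by
  haveI : Fact (Nat.Prime 2) := ⟨Nat.prime_two⟩
  obtain ⟨K', hK', hDK'⟩ := Sylow.exists_subgroup_card_pow_succ hdvd
    (H := D.subgroupOf H) (by rw [Nat.card_congr (Subgroup.subgroupOfEquivOfLe hDH).toEquiv, hD])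
  set K := K'.map H.subtype with hKdef
  have hKc : Nat.card K = 2 ^ (d + 1) := by
    rw [hKdef, Subgroup.card_map_of_injective H.subtype_injective, hK']
  have hDK : D ≤ K := fun x hx => ⟨⟨x, hDH hx⟩, hDK' (Subgroup.mem_subgroupOf.2 hx), rfl⟩
  have hidx : (D.subgroupOf K).index = 2 := by
    have := Subgroup.card_mul_index (D.subgroupOf K)
    rw [Nat.card_congr (Subgroup.subgroupOfEquivOfLe hDK).toEquiv, hD, hKc, pow_succ] at this
    exact Nat.eq_of_mul_eq_mul_left (pow_pos two_pos d) this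
  haveI := Subgroup.normal_of_index_eq_two hidx
  obtain ⟨e, heK, heD⟩ : ∃ e ∈ K, e ∉ D := by
    by_contra hc
    push Not at hc
    have := Subgroup.card_le_of_le (show K ≤ D from hc)
    rw [hKc, hD] at this
    exact absurd this (not_le.2 (Nat.pow_lt_pow_right one_lt_two (Nat.lt_succ_self d)))
  refine ⟨e, K, Subgroup.map_subtype_le _, hDK, hKc, heK, heD, ?_, ?_, ?_⟩
  · simpa [Subgroup.mem_subgroupOf] using Subgroup.mul_self_mem_of_index_two hidx ⟨e, heK⟩
  · rw [Subgroup.mem_normalizer_iff]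
    intro x
    constructor
    · intro hx
      simpa [Subgroup.mem_subgroupOf] using
        (inferInstance : (D.subgroupOf K).Normal).conj_mem ⟨x, hDK hx⟩
          (Subgroup.mem_subgroupOf.2 hx) ⟨e, heK⟩
    · intro hx
      have := (inferInstance : (D.subgroupOf K).Normal).conj_mem ⟨_, hDK hx⟩
          (Subgroup.mem_subgroupOf.2 hx) ⟨e⁻¹, K.inv_mem heK⟩
      simpa [Subgroup.mem_subgroupOf, mul_assoc] using this
  · intro k hk
    by_cases h : k ∈ D
    · exact Or.inl h
    · refine Or.inr ?_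
      have := (Subgroup.mul_mem_iff_of_index_two hidx (a := ⟨e, heK⟩⁻¹) (b := ⟨k, hk⟩)).2
        (by simp [Subgroup.mem_subgroupOf, h, heD])
      simpa [Subgroup.mem_subgroupOf] using this

/-- The extension of a maximal two-group fixing points by an element fixing a pair. -/
theorem pair_extension [Finite G] [Finite α]
    (h2 : ∀ a b c d : α, a ≠ b → c ≠ d → ∃ g : G, g • a = c ∧ g • b = d)
    (D : Subgroup G) {d : ℕ} (hD : Nat.card D = 2 ^ d)
    (hinv : ∀ e ∈ Subgroup.normalizer (D : Set G), e * e ∈ D →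
      ∃ x y : α, x ≠ y ∧ (∀ g ∈ D, g • x = x) ∧ (∀ g ∈ D, g • y = y) ∧ e • x = x ∧ e • y = y)
    {a b : α} (hab : a ≠ b) (ha : ∀ g ∈ D, g • a = a) (hb : ∀ g ∈ D, g • b = b) :
    ∃ e ∈ Subgroup.normalizer (D : Set G), e ∉ D ∧ e * e ∈ D ∧ e • a = a ∧ e • b = b := by
  set S := fun q : α × α => stabilizer G q with hS
  have memS : ∀ g : G, ∀ q : α × α, g ∈ S q ↔ g • q.1 = q.1 ∧ g • q.2 = q.2 := fun g q => by
    simp [hS, Prod.ext_iff]
  by_cases hdvd : 2 ^ (d + 1) ∣ Nat.card (S (a, b))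
  · have hle : D ≤ S (a, b) := fun g hg => (memS g _).2 ⟨ha g hg, hb g hg⟩
    obtain ⟨e, K, hKH, -, -, heK, heD, hee, heN, -⟩ := exists_double _ D hle hD hdvd
    exact ⟨e, heN, heD, hee, ((memS e _).1 (hKH heK)).1, ((memS e _).1 (hKH heK)).2⟩
  exfalso
  set F := {x : α | ∀ g ∈ D, g • x = x} with hF
  have hcard : ∀ x y : α, x ≠ y → Nat.card (S (x, y)) = Nat.card (S (a, b)) := by
    intro x y hxy
    obtain ⟨g, h1, h2'⟩ := h2 a b x y hab hxy
    exact (card_stab_congr ⟨g, by simp [h1, h2']⟩).symm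
  set N := Subgroup.normalizer (D : Set G) with hN
  haveI : Fact (Nat.Prime 2) := ⟨Nat.prime_two⟩
  -- the orbit of `(a, b)` under the normaliser
  have horb : orbit N (a, b) = F.offDiag := by
    ext q
    constructor
    · rintro ⟨⟨g, hg⟩, rfl⟩
      have fix : ∀ x : α, (∀ h ∈ D, h • x = x) → ∀ h ∈ D, h • g • x = g • x := by
        intro x hx h hh
        have : g⁻¹ * h * g ∈ D := (Subgroup.mem_normalizer_iff''.1 hg h).1 hh
        calc h • g • x = g • ((g⁻¹ * h * g) • x) := by rw [smul_smul, smul_smul]; group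
          _ = g • x := by rw [hx _ this]
      exact ⟨fix a ha, fix b hb, fun h => hab (smul_left_cancel g h)⟩
    · rintro ⟨h1, h2', h12⟩
      obtain ⟨g, hga, hgb⟩ := h2 a b q.1 q.2 hab h12
      let D' := D.map (MulAut.conj g⁻¹).toMonoidHom
      have hD' : D' ≤ S (a, b) := by
        rintro _ ⟨h, hh, rfl⟩
        rw [memS]
        constructor <;>
          simp only [MulEquiv.coe_toMonoidHom, MulAut.conj_apply, inv_inv, mul_smul, inv_smul_eq_iff,
            hga, hgb]
        · exact h1 h hh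
        · exact h2' h hh
      have hle : D ≤ S (a, b) := fun x hx => (memS x _).2 ⟨ha x hx, hb x hx⟩
      obtain ⟨h, hhS, hconj⟩ := exists_conj_of_full (p := 2) (S (a, b)) D D' hle hD' hD
        (by rw [Subgroup.card_map_of_injective (MulEquiv.injective _), hD]) hdvd
      obtain ⟨hha, hhb⟩ := (memS h _).1 hhS
      refine ⟨⟨g * h, ?_⟩, ?_⟩
      · rw [hN, Subgroup.mem_normalizer_iff]
        intro x
        rw [hconj x]
        constructor
        · rintro ⟨y, hy, hy'⟩
          have : y = g * h * x * (g * h)⁻¹ := by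
            simp only [MulEquiv.coe_toMonoidHom, MulAut.conj_apply, inv_inv] at hy'
            calc y = g * (g⁻¹ * y * g) * g⁻¹ := by group
              _ = _ := by rw [hy']; group
          rwa [← this]
        · intro hx
          refine ⟨_, hx, ?_⟩
          simp only [MulEquiv.coe_toMonoidHom, MulAut.conj_apply, inv_inv]
          group
      · change (g * h) • (a, b) = q
        simp [mul_smul, hha, hhb, hga, hgb]
  have heven : 2 ∣ F.offDiag.ncard := by
    refine even_iff_two_dvd.1 (even_ncard_of_involutive _ Prod.swap ?_ (fun q _ => Prod.swap_swap q) ?_)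
    · rintro ⟨x, y⟩ ⟨h1, h2', h3⟩; exact ⟨h2', h1, fun h => h3 h.symm⟩
    · rintro ⟨x, y⟩ ⟨-, -, h3⟩ h
      exact h3 (congrArg Prod.snd h)
  have hN2 : 2 ^ (d + 1) ∣ Nat.card N := by
    rw [card_eq_orbit_mul_stab (G := N) (a, b), horb, pow_succ']
    refine mul_dvd_mul heven ?_
    have hle : D.subgroupOf N ≤ stabilizer N (a, b) := fun g hg => by
      have hg' : (g : G) ∈ D := hg
      exact (memS (g : G) (a, b)).2 ⟨ha _ hg', hb _ hg'⟩
    rw [← hD, ← Nat.card_congr (Subgroup.subgroupOfEquivOfLe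
      (show D ≤ N from Subgroup.le_normalizer)).toEquiv]
    exact Subgroup.card_dvd_of_le hle
  obtain ⟨e, K, hKN, -, hKc, heK, -, hee, -, hsplit⟩ :=
    exists_double N D Subgroup.le_normalizer hD hN2
  obtain ⟨x, y, hxy, hx, hy, hex, hey⟩ := hinv e (hKN heK) hee
  apply hdvd
  rw [← hcard x y hxy, ← hKc]
  refine Subgroup.card_dvd_of_le fun k hk => (memS k _).2 ?_
  rcases hsplit k hk with h | h
  · exact ⟨hx k h, hy k h⟩
  · have hk' : ∀ z : α, (e⁻¹ * k) • z = z → e • z = z → k • z = z := fun z h1 h2 => by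
      have := congrArg (e • ·) h1
      simpa [smul_smul, h2] using this
    exact ⟨hk' x (hx _ h) hex, hk' y (hy _ h) hey⟩

end Group

end Cfsg.Lib.OW
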