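import Mathlib
import Cfsg.Agent.OstromWagner.GroupAux

/-!
# Collineations of a finite projective plane
-/

set_option autoImplicit false
set_option linter.style.haveILetI false

namespace Cfsg.Lib.OW

open Configuration MulAction

universe u v

variable (P : Type u) (L : Type v) [Membership P L]

/-- incidence preserving pairs of permutations -/
def Coll : Subgroup (Equiv.Perm P × Equiv.Perm L) where
  carrier := {g | ∀ p l, g.1 p ∈ g.2 l ↔ p ∈ l}
  one_mem' := fun _ _ => Iff.rfl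
  mul_mem' := fun {a b} ha hb p l => (ha (b.1 p) (b.2 l)).trans (hb p l)
  inv_mem' := fun {a} ha p l => by
    have := ha (a.1.symm p) (a.2.symm l)
    simp only [Equiv.apply_symm_apply] at this
    exact this.symm

variable {P L}

instance instMulActionP : MulAction (Coll P L) P where
  smul g p := g.1.1 p
  one_smul _ := rfl
  mul_smul _ _ _ := rfl

instance instMulActionL : MulAction (Coll P L) L where
  smul g l := g.1.2 l
  one_smul _ := rfl
  mul_smul _ _ _ := rfl

@[simp] lemma smul_mem_smul (g : Coll P L) {p : P} {l : L} : g • p ∈ g • l ↔ p ∈ l := g.2 p l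

lemma mem_of_fix (g : Coll P L) {p : P} {l : L} (hl : g • l = l) : g • p ∈ l ↔ p ∈ l := by
  conv_lhs => rw [← hl]
  exact smul_mem_smul g

lemma mem_smul_line (g : Coll P L) {p : P} {l : L} : p ∈ g • l ↔ g⁻¹ • p ∈ l := by
  rw [← smul_mem_smul g (p := g⁻¹ • p), smul_inv_smul]

/-- duality on collineations -/
def dualEquiv : Coll P L ≃* Coll (Dual L) (Dual P) where
  toFun g := ⟨(g.1.2, g.1.1), fun l p => g.2 p l⟩
  invFun g := ⟨(g.1.2, g.1.1), fun p l => g.2 l p⟩
  left_inv _ := rfl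
  right_inv _ := rfl
  map_mul' _ _ := rfl

/-- the points fixed by a set of collineations -/
def fixP (K : Subgroup (Coll P L)) : Set P := {p | ∀ g ∈ K, g • p = p}

/-- the lines fixed by a set of collineations -/
def fixL (K : Subgroup (Coll P L)) : Set L := {l | ∀ g ∈ K, g • l = l}

/-- three points in no common line -/
def NC (L : Type v) [Membership P L] (A B C : P) : Prop := ∀ l : L, A ∈ l → B ∈ l → C ∉ l

/-- four points in general position -/
structure Quad (L : Type v) [Membership P L] (A B C D : P) : Prop where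
  abc : NC L A B C
  abd : NC L A B D
  acd : NC L A C D
  bcd : NC L B C D

/-- a set of points containing four in general position -/
def HasQuad (L : Type v) [Membership P L] (s : Set P) : Prop :=
  ∃ A ∈ s, ∃ B ∈ s, ∃ C ∈ s, ∃ D ∈ s, Quad L A B C D

/-- the collineation group is two-transitive on points -/
def TwoTrans (P : Type u) (L : Type v) [Membership P L] : Prop :=
  ∀ p₁ p₂ q₁ q₂ : P, p₁ ≠ p₂ → q₁ ≠ q₂ → ∃ g : Coll P L, g • p₁ = q₁ ∧ g • p₂ = q₂

lemma NC.swap12 {A B C : P} (h : NC L A B C) : NC L B A C := fun l h1 h2 => h l h2 h1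

lemma NC.swap23 {A B C : P} (h : NC L A B C) : NC L A C B := fun l h1 h2 h3 => h l h1 h3 h2

variable [ProjectivePlane P L]

lemma exists_line (p q : P) : ∃ l : L, p ∈ l ∧ q ∈ l := by
  by_cases h : p = q
  · subst h
    obtain ⟨a, b, c, -, l, -, -, -, -, hb, -, -, hc, hc'⟩ := @ProjectivePlane.exists_config P L _ _
    by_cases hp : p = b
    · exact ⟨l, hp ▸ hb, hp ▸ hb⟩
    · exact ⟨HasLines.mkLine hp, (HasLines.mkLine_ax hp).1, (HasLines.mkLine_ax hp).1⟩
  · exact ⟨HasLines.mkLine h, HasLines.mkLine_ax h⟩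

lemma line_unique {p q : P} (h : p ≠ q) {l m : L} (h1 : p ∈ l) (h2 : q ∈ l) (h3 : p ∈ m)
    (h4 : q ∈ m) : l = m :=
  (Nondegenerate.eq_or_eq h1 h2 h3 h4).resolve_left h

lemma point_unique {l m : L} (h : l ≠ m) {p q : P} (h1 : p ∈ l) (h2 : p ∈ m) (h3 : q ∈ l)
    (h4 : q ∈ m) : p = q :=
  (Nondegenerate.eq_or_eq h1 h3 h2 h4).resolve_right h

lemma exists_point (l m : L) : ∃ p : P, p ∈ l ∧ p ∈ m :=
  exists_line (P := Dual L) (L := Dual P) l m

lemma NC.ne12 {A B C : P} (h : NC L A B C) : A ≠ B := by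
  rintro rfl
  obtain ⟨l, hl1, hl2⟩ := exists_line (L := L) A C
  exact h l hl1 hl1 hl2

lemma NC.ne13 {A B C : P} (h : NC L A B C) : A ≠ C := h.swap23.ne12

lemma NC.ne23 {A B C : P} (h : NC L A B C) : B ≠ C := h.swap12.ne13

lemma nc_of_notMem {A B C : P} (h : A ≠ B) {l : L} (h1 : A ∈ l) (h2 : B ∈ l) (h3 : C ∉ l) :
    NC L A B C := fun _ m1 m2 m3 => h3 (line_unique h m1 m2 h1 h2 ▸ m3)

lemma coll_ext {g h : Coll P L} (hp : ∀ p : P, g • p = h • p) [Finite P] [Finite L] : g = h := by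
  have hl : ∀ l : L, g • l = h • l := by
    intro l
    have h3 : 2 < pointCount P l := ProjectivePlane.two_lt_pointCount P l
    obtain ⟨⟨a, ha⟩, ⟨b, hb⟩, hab⟩ := (Finite.one_lt_card_iff_nontrivial (α := {p : P // p ∈ l})).1
      (lt_trans one_lt_two h3) |>.exists_pair_ne
    have hab' : h • a ≠ h • b := fun e => hab (Subtype.ext (smul_left_cancel h e))
    exact line_unique hab' (hp a ▸ (smul_mem_smul g).2 ha) (hp b ▸ (smul_mem_smul g).2 hb)
      ((smul_mem_smul h).2 ha) ((smul_mem_smul h).2 hb)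
  exact Subtype.ext (Prod.ext (Equiv.ext hp) (Equiv.ext hl))

lemma fix_line_of_two (g : Coll P L) {p q : P} (h : p ≠ q) {l : L} (h1 : p ∈ l) (h2 : q ∈ l)
    (hp : g • p = p) (hq : g • q = q) : g • l = l :=
  line_unique h (hp ▸ (smul_mem_smul g).2 h1) (hq ▸ (smul_mem_smul g).2 h2) h1 h2

lemma fix_point_of_two (g : Coll P L) {l m : L} (h : l ≠ m) {p : P} (h1 : p ∈ l) (h2 : p ∈ m)
    (hl : g • l = l) (hm : g • m = m) : g • p = p :=
  point_unique h ((mem_of_fix g hl).2 h1) ((mem_of_fix g hm).2 h2) h1 h2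

lemma fixL_of_two {K : Subgroup (Coll P L)} {p q : P} (h : p ≠ q) {l : L} (h1 : p ∈ l)
    (h2 : q ∈ l) (hp : p ∈ fixP K) (hq : q ∈ fixP K) : l ∈ fixL K :=
  fun g hg => fix_line_of_two g h h1 h2 (hp g hg) (hq g hg)

lemma fixP_of_two {K : Subgroup (Coll P L)} {l m : L} (h : l ≠ m) {p : P} (h1 : p ∈ l)
    (h2 : p ∈ m) (hl : l ∈ fixL K) (hm : m ∈ fixL K) : p ∈ fixP K :=
  fun g hg => fix_point_of_two g h h1 h2 (hl g hg) (hm g hg)

/-- four points in general position give four lines in general position. -/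
lemma Quad.dual {A B C D : P} (h : Quad L A B C D) {a b c d : L} (haA : A ∈ a) (haB : B ∈ a)
    (hbB : B ∈ b) (hbC : C ∈ b) (hcC : C ∈ c) (hcD : D ∈ c) (hdD : D ∈ d) (hdA : A ∈ d) :
    Quad (P := Dual L) (Dual P) a b c d := by
  have hab : a ≠ b := fun e => h.abc a haA haB (e ▸ hbC)
  have hbc : b ≠ c := fun e => h.bcd b hbB hbC (e ▸ hcD)
  have hcd : c ≠ d := fun e => h.acd c (e ▸ hdA) hcC hcD
  have hda : d ≠ a := fun e => h.abd a haA haB (e ▸ hdD)
  refine ⟨?_, ?_, ?_, ?_⟩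
  · intro p h1 h2 h3
    have : p = B := point_unique hab h1 h2 haB hbB
    subst this
    exact h.bcd c h3 hcC hcD
  · intro p h1 h2 h3
    have : p = B := point_unique hab h1 h2 haB hbB
    subst this
    exact h.abd d hdA h3 hdD
  · intro p h1 h2 h3
    have : p = D := point_unique hcd h2 h3 hcD hdD
    subst this
    exact h.abd a haA haB h1
  · intro p h1 h2 h3
    have : p = D := point_unique hcd h2 h3 hcD hdD
    subst this
    exact h.bcd b hbB hbC h1

lemma hasQuad_fixL {K : Subgroup (Coll P L)} (h : HasQuad L (fixP K)) :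
    HasQuad (P := Dual L) (Dual P) (fixL (P := P) (L := L) K) := by
  obtain ⟨A, hA, B, hB, C, hC, D, hD, hq⟩ := h
  obtain ⟨a, haA, haB⟩ := exists_line (L := L) A B
  obtain ⟨b, hbB, hbC⟩ := exists_line (L := L) B C
  obtain ⟨c, hcC, hcD⟩ := exists_line (L := L) C D
  obtain ⟨d, hdD, hdA⟩ := exists_line (L := L) D A
  have ha := fixL_of_two hq.abc.ne12 haA haB hA hB
  have hb := fixL_of_two hq.abc.ne23 hbB hbC hB hC
  have hc := fixL_of_two hq.acd.ne23 hcC hcD hC hD
  have hd := fixL_of_two hq.acd.ne13.symm hdD hdA hD hA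
  exact ⟨a, ha, b, hb, c, hc, d, hd, hq.dual haA haB hbB hbC hcC hcD hdD hdA⟩

lemma quad_two {A B C x y : P} (h : NC L A B C) {c b : L} (hcA : A ∈ c) (hcB : B ∈ c)
    (hbA : A ∈ b) (hbC : C ∈ b) (hx : x ∈ c) (hxA : x ≠ A) (hxB : x ≠ B) (hy : y ∈ b)
    (hyA : y ≠ A) (hyC : y ≠ C) : Quad L B x C y := by
  have hbc : c ≠ b := fun e => h c hcA hcB (e ▸ hbC)
  have hCc : C ∉ c := h c hcA hcB
  have hBb : B ∉ b := fun e => h b hbA e hbC
  have hyc : y ∉ c := fun e => hyA (point_unique hbc e hy hcA hbA)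
  have hxb : x ∉ b := fun e => hxA (point_unique hbc hx e hcA hbA)
  exact ⟨nc_of_notMem (Ne.symm hxB) hcB hx hCc, nc_of_notMem (Ne.symm hxB) hcB hx hyc,
    (nc_of_notMem (Ne.symm hyC) hbC hy hBb).swap23.swap12,
    (nc_of_notMem (Ne.symm hyC) hbC hy hxb).swap23.swap12⟩

/-- a set without a quadrangle lies on a line and a further point. -/
lemma line_point_of_noQuad {s : Set P} (h : ¬ HasQuad L s) (hne : s.Nonempty) :
    ∃ (a : L) (C : P), ∀ x ∈ s, x ∈ a ∨ x = C := by
  by_cases htri : ∃ A ∈ s, ∃ B ∈ s, ∃ C ∈ s, NC L A B C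
  · obtain ⟨A, hA, B, hB, C, hC, hnc⟩ := htri
    have side : ∀ {A B C : P}, A ∈ s → B ∈ s → C ∈ s → NC L A B C → ∀ (c b a : L), A ∈ c →
        B ∈ c → A ∈ b → C ∈ b → B ∈ a → C ∈ a → ∀ x ∈ s, x ∈ c → x ≠ A → x ≠ B →
        (∀ y ∈ s, y ∈ c ∨ y ∈ b ∨ y ∈ a) → ∀ y ∈ s, y ∈ c ∨ y = C := by
      intro A B C hA hB hC hnc c b a hcA hcB hbA hbC haB haC x hx hxc hxA hxB hall y hy
      by_contra hcon
      push Not at hcon
      obtain ⟨hyc, hyC⟩ := hcon
      have hyA : y ≠ A := fun e => hyc (e ▸ hcA)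
      have hyB : y ≠ B := fun e => hyc (e ▸ hcB)
      rcases hall y hy with h1 | h1 | h1
      · exact hyc h1
      · exact h ⟨B, hB, x, hx, C, hC, y, hy, quad_two hnc hcA hcB hbA hbC hxc hxA hxB h1 hyA hyC⟩
      · exact h ⟨A, hA, x, hx, C, hC, y, hy,
          quad_two hnc.swap12 hcB hcA haB haC hxc hxB hxA h1 hyB hyC⟩
    obtain ⟨c, hcA, hcB⟩ := exists_line (L := L) A B
    obtain ⟨b, hbA, hbC⟩ := exists_line (L := L) A C
    obtain ⟨a, haB, haC⟩ := exists_line (L := L) B C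
    have hall : ∀ y ∈ s, y ∈ c ∨ y ∈ b ∨ y ∈ a := by
      intro y hy
      by_contra hcon
      push Not at hcon
      exact h ⟨A, hA, B, hB, C, hC, y, hy, hnc, nc_of_notMem hnc.ne12 hcA hcB hcon.1,
        nc_of_notMem hnc.ne13 hbA hbC hcon.2.1, nc_of_notMem hnc.ne23 haB haC hcon.2.2⟩
    by_cases h1 : ∃ x ∈ s, x ∈ c ∧ x ≠ A ∧ x ≠ B
    · obtain ⟨x, hx, hxc, hxA, hxB⟩ := h1
      exact ⟨c, C, side hA hB hC hnc c b a hcA hcB hbA hbC haB haC x hx hxc hxA hxB hall⟩
    by_cases h2 : ∃ x ∈ s, x ∈ b ∧ x ≠ A ∧ x ≠ C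
    · obtain ⟨x, hx, hxb, hxA, hxC⟩ := h2
      exact ⟨b, B, side hA hC hB hnc.swap23 b c a hbA hbC hcA hcB haC haB x hx hxb hxA hxC
        (fun y hy => by rcases hall y hy with r | r | r <;> simp [r])⟩
    push Not at h1 h2
    refine ⟨a, A, fun y hy => ?_⟩
    by_cases hyA : y = A
    · exact Or.inr hyA
    refine Or.inl ?_
    rcases hall y hy with r | r | r
    · exact (h1 y hy r hyA) ▸ haB
    · exact (h2 y hy r hyA) ▸ haC
    · exact r
  · push Not at htri
    obtain ⟨A, hA⟩ := hne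
    by_cases h2 : ∃ B ∈ s, B ≠ A
    · obtain ⟨B, hB, hBA⟩ := h2
      obtain ⟨a, h1, h3⟩ := exists_line (L := L) A B
      refine ⟨a, A, fun x hx => ?_⟩
      by_contra hcon
      push Not at hcon
      exact htri A hA B hB x hx (nc_of_notMem hBA.symm h1 h3 hcon.1)
    · push Not at h2
      obtain ⟨a, h1, -⟩ := exists_line (L := L) A A
      exact ⟨a, A, fun x hx => Or.inr (h2 x hx)⟩

variable [Finite P] [Finite L]

lemma card_on (l : L) : {p : P | p ∈ l}.ncard = ProjectivePlane.order P L + 1 := by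
  rw [← Nat.card_coe_set_eq]
  exact ProjectivePlane.pointCount_eq P l

lemma card_through (p : P) : {l : L | p ∈ l}.ncard = ProjectivePlane.order P L + 1 := by
  rw [← Nat.card_coe_set_eq]
  exact ProjectivePlane.lineCount_eq L p

lemma card_P : Nat.card P = ProjectivePlane.order P L ^ 2 + ProjectivePlane.order P L + 1 := by
  haveI := Fintype.ofFinite P
  rw [Nat.card_eq_fintype_card]
  exact ProjectivePlane.card_points P L

lemma card_L : Nat.card L = ProjectivePlane.order P L ^ 2 + ProjectivePlane.order P L + 1 := by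
  haveI := Fintype.ofFinite L
  rw [Nat.card_eq_fintype_card]
  exact ProjectivePlane.card_lines P L

lemma card_off (l : L) : {p : P | p ∉ l}.ncard = ProjectivePlane.order P L ^ 2 := by
  have h := Set.ncard_add_ncard_compl {p : P | p ∈ l}
  rw [card_on, card_P (L := L)] at h
  have : {p : P | p ∉ l} = {p : P | p ∈ l}ᶜ := rfl
  rw [this]; omega

lemma card_offL (p : P) : {l : L | p ∉ l}.ncard = ProjectivePlane.order P L ^ 2 := by
  have h := Set.ncard_add_ncard_compl {l : L | p ∈ l}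
  rw [card_through, card_L (P := P)] at h
  have : {l : L | p ∉ l} = {l : L | p ∈ l}ᶜ := rfl
  rw [this]; omega

lemma two_le_order : 2 ≤ ProjectivePlane.order P L := ProjectivePlane.one_lt_order P L

lemma exists_on_ne (l : L) (a b : P) : ∃ p : P, p ∈ l ∧ p ≠ a ∧ p ≠ b := by
  have h := card_on (P := P) l
  have h2 := two_le_order (P := P) (L := L)
  obtain ⟨p, hp, hp'⟩ := Set.exists_mem_notMem_of_ncard_lt_ncard
    (s := ({a, b} : Set P)) (t := {p : P | p ∈ l})
    (by rw [h]; exact lt_of_le_of_lt (Set.ncard_insert_le _ _) (by rw [Set.ncard_singleton]; omega))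
  simp at hp'
  exact ⟨p, hp, hp'.1, hp'.2⟩

lemma exists_through_ne (p : P) (a b : L) : ∃ l : L, p ∈ l ∧ l ≠ a ∧ l ≠ b :=
  exists_on_ne (P := Dual L) (L := Dual P) p a b

lemma exists_off_two (a b : L) : ∃ p : P, p ∉ a ∧ p ∉ b := by
  obtain ⟨x, hxa, hxb⟩ := exists_point (P := P) a b
  obtain ⟨l, hxl, hla, hlb⟩ := exists_through_ne x a b
  obtain ⟨p, hpl, hpx, -⟩ := exists_on_ne l x x
  exact ⟨p, fun h => hpx (point_unique hla hpl h hxl hxa),
    fun h => hpx (point_unique hlb hpl h hxl hxb)⟩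

lemma exists_off (a : L) : ∃ p : P, p ∉ a := (exists_off_two a a).imp fun _ h => h.1

lemma exists_offL (p : P) : ∃ l : L, p ∉ l := exists_off (P := Dual L) (L := Dual P) p

lemma exists_off_ne (a : L) (C : P) : ∃ p : P, p ∉ a ∧ p ≠ C := by
  obtain ⟨b, hb, -⟩ := exists_line (L := L) C C
  obtain ⟨p, h1, h2⟩ := exists_off_two (P := P) a b
  exact ⟨p, h1, fun e => h2 (e ▸ hb)⟩

lemma exists_ne_point (L : Type v) [Membership P L] [ProjectivePlane P L] [Finite L] (a : P) :
    ∃ p : P, p ≠ a := by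
  obtain ⟨l, h, -⟩ := exists_line (L := L) a a
  exact (exists_off_ne l a).imp fun _ h => h.2

/-- A collineation fixes as many points as lines. -/
lemma card_fixed_eq (g : Coll P L) :
    {p : P | g • p = p}.ncard = {l : L | g • l = l}.ncard := by
  classical
  haveI := Fintype.ofFinite P
  haveI := Fintype.ofFinite L
  set n := ProjectivePlane.order P L with hn
  let A : P → L → ℕ := fun p l => if p ∈ l ∧ g • p ∈ l then 1 else 0
  have hp : ∀ p, ∑ l, A p l = 1 + n * (if g • p = p then 1 else 0) := by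
    intro p
    simp only [A, Finset.sum_boole, Nat.cast_id]
    split_ifs with h
    · have := card_through (L := L) p
      rw [Set.ncard_eq_toFinset_card'] at this
      simp only [Set.toFinset_ofPred] at this
      simp only [h, and_self, mul_one]
      omega
    · obtain ⟨l, h1, h2⟩ := exists_line (L := L) p (g • p)
      rw [mul_zero, add_zero, Finset.card_eq_one]
      refine ⟨l, ?_⟩
      ext m
      simp only [Finset.mem_filter, Finset.mem_univ, true_and, Finset.mem_singleton]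
      exact ⟨fun hm => line_unique (Ne.symm h) hm.1 hm.2 h1 h2, fun e => e ▸ ⟨h1, h2⟩⟩
  have hl : ∀ l, ∑ p, A p l = 1 + n * (if g • l = l then 1 else 0) := by
    intro l
    simp only [A, Finset.sum_boole, Nat.cast_id]
    split_ifs with h
    · have := card_on (P := P) l
      rw [Set.ncard_eq_toFinset_card'] at this
      simp only [Set.toFinset_ofPred] at this
      simp only [mem_of_fix g h, and_self, mul_one]
      rw [add_comm, ← this]
    · have hne : l ≠ g⁻¹ • l := fun e => h (by conv_lhs => rw [e, smul_inv_smul])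
      obtain ⟨p, h1, h2⟩ := exists_point (P := P) l (g⁻¹ • l)
      rw [mul_zero, add_zero, Finset.card_eq_one]
      refine ⟨p, ?_⟩
      ext q
      simp only [Finset.mem_filter, Finset.mem_univ, true_and, Finset.mem_singleton]
      have key : ∀ q : P, g • q ∈ l ↔ q ∈ g⁻¹ • l := fun q => by rw [mem_smul_line, inv_inv]
      rw [key]
      exact ⟨fun hq => point_unique hne hq.1 hq.2 h1 h2, fun e => e ▸ ⟨h1, h2⟩⟩
  have := Finset.sum_comm (f := A) (s := Finset.univ) (t := Finset.univ)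
  simp only [hp, hl, Finset.sum_add_distrib, Finset.sum_const, Finset.card_univ, smul_eq_mul,
    mul_one, ← Finset.mul_sum, Finset.sum_boole, Nat.cast_id] at this
  rw [ProjectivePlane.card_points_eq_card_lines P L] at this
  have hn0 : 0 < n := by have := two_le_order (P := P) (L := L); omega
  have := Nat.eq_of_mul_eq_mul_left hn0 (Nat.add_left_cancel this)
  simpa [Set.ncard_eq_toFinset_card'] using this

lemma card_orbits_eq (H : Subgroup (Coll P L)) :
    Nat.card (Quotient (orbitRel H P)) = Nat.card (Quotient (orbitRel H L)) := by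
  classical
  haveI := Fintype.ofFinite H
  haveI := Fintype.ofFinite P
  haveI := Fintype.ofFinite L
  have h1 := sum_card_fixedBy_eq_card_orbits_mul_card_group H P
  have h2 := sum_card_fixedBy_eq_card_orbits_mul_card_group H L
  simp only [Nat.card_eq_fintype_card]
  refine Nat.eq_of_mul_eq_mul_right (Fintype.card_pos (α := H)) ?_
  rw [← h1, ← h2]
  refine Finset.sum_congr rfl fun g _ => ?_
  have := card_fixed_eq (g : Coll P L)
  rw [Fintype.card_eq_nat_card, Fintype.card_eq_nat_card]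
  simpa [← Nat.card_eq_fintype_card, ← Nat.card_coe_set_eq, fixedBy, Subgroup.smul_def] using this

/-- If a group has two orbits on points, each invariant proper set of lines is an orbit. -/
lemma transitive_of_two_orbits (H : Subgroup (Coll P L)) (s : Set P) (hs1 : ∃ x, x ∈ s)
    (hs2 : ∃ x, x ∉ s) (hsinv : ∀ g ∈ H, ∀ x, g • x ∈ s ↔ x ∈ s)
    (htr : ∀ x y, (x ∈ s ↔ y ∈ s) → ∃ g ∈ H, g • x = y)
    (t : Set L) (ht2 : ∃ l, l ∉ t) (htinv : ∀ g ∈ H, ∀ l, g • l ∈ t ↔ l ∈ t)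
    {l m : L} (hl : l ∈ t) (hm : m ∈ t) : ∃ g ∈ H, g • l = m := by
  classical
  haveI := Fintype.ofFinite P
  haveI := Fintype.ofFinite L
  let φ : Quotient (orbitRel H P) → Bool := Quotient.lift (fun x => decide (x ∈ s)) (by
    rintro a b ⟨g, rfl⟩
    simp [Subgroup.smul_def, hsinv g g.2])
  let ψ : Quotient (orbitRel H L) → Bool := Quotient.lift (fun x => decide (x ∈ t)) (by
    rintro a b ⟨g, rfl⟩
    simp [Subgroup.smul_def, htinv g g.2])
  have hφ : Function.Bijective φ := by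
    constructor
    · rintro ⟨a⟩ ⟨b⟩ h
      obtain ⟨g, hg, hgb⟩ := htr b a (decide_eq_decide.1 h).symm
      exact Quotient.sound ⟨⟨g, hg⟩, hgb⟩
    · intro b
      cases b
      · obtain ⟨x, hx⟩ := hs2
        exact ⟨Quotient.mk _ x, decide_eq_false hx⟩
      · obtain ⟨x, hx⟩ := hs1
        exact ⟨Quotient.mk _ x, decide_eq_true hx⟩
  have hψ : Function.Bijective ψ := by
    haveI := Fintype.ofFinite (Quotient (orbitRel H L))
    refine (Fintype.bijective_iff_surjective_and_card ψ).2 ⟨?_, ?_⟩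
    · intro b
      cases b
      · obtain ⟨x, hx⟩ := ht2
        exact ⟨Quotient.mk _ x, decide_eq_false hx⟩
      · exact ⟨Quotient.mk _ l, decide_eq_true hl⟩
    · rw [← Nat.card_eq_fintype_card, ← card_orbits_eq, Nat.card_congr (Equiv.ofBijective φ hφ),
        Nat.card_eq_fintype_card]
  have := hψ.1 (a₁ := Quotient.mk _ m) (a₂ := Quotient.mk _ l)
    ((decide_eq_true hm).trans (decide_eq_true hl).symm)
  obtain ⟨g, hg⟩ := Quotient.exact this
  exact ⟨g, g.2, hg⟩

namespace TwoTrans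

variable (h : TwoTrans P L)
include h

lemma point (p q : P) : ∃ g : Coll P L, g • p = q := by
  obtain ⟨p', hp⟩ := exists_ne_point L p
  obtain ⟨q', hq⟩ := exists_ne_point L q
  obtain ⟨g, hg, -⟩ := h p p' q q' hp.symm hq.symm
  exact ⟨g, hg⟩

lemma flag {p q : P} {l m : L} (hp : p ∈ l) (hq : q ∈ m) :
    ∃ g : Coll P L, g • p = q ∧ g • l = m := by
  obtain ⟨p', hp', hpne, -⟩ := exists_on_ne l p p
  obtain ⟨q', hq', hqne, -⟩ := exists_on_ne m q q
  obtain ⟨g, hg, hg'⟩ := h p p' q q' hpne.symm hqne.symm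
  exact ⟨g, hg, line_unique hqne.symm (hg ▸ (smul_mem_smul g).2 hp) (hg' ▸ (smul_mem_smul g).2 hp')
    hq hq'⟩

lemma antiflag {p q : P} {l m : L} (hp : p ∉ l) (hq : q ∉ m) :
    ∃ g : Coll P L, g • p = q ∧ g • l = m := by
  obtain ⟨g, hg⟩ := h.point p q
  have hl : q ∉ g • l := by rw [← hg, smul_mem_smul]; exact hp
  obtain ⟨b, hb, -⟩ := exists_line (L := L) q q
  obtain ⟨k, hk, hkl⟩ := transitive_of_two_orbits (stabilizer (Coll P L) q) {q} ⟨q, rfl⟩
    (exists_ne_point L q) (fun g hg x => by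
      rw [mem_stabilizer_iff] at hg
      simp only [Set.mem_singleton_iff]
      exact ⟨fun e => smul_left_cancel g (e.trans hg.symm), fun e => e ▸ hg⟩)
    (fun x y hxy => by
      simp only [Set.mem_singleton_iff] at hxy
      by_cases hx : x = q
      · refine ⟨1, one_mem _, ?_⟩
        rw [one_smul, hx, hxy.1 hx]
      · obtain ⟨k, hk1, hk2⟩ := h q x q y (Ne.symm hx) (fun e => hx (hxy.2 e.symm))
        exact ⟨k, hk1, hk2⟩)
    {m : L | q ∉ m} ⟨b, fun e => e hb⟩ (fun g hg x => by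
      rw [mem_stabilizer_iff] at hg
      conv_lhs => rw [Set.mem_ofPred_eq, ← hg, smul_mem_smul]
      rfl) hl hq
  exact ⟨k * g, by rw [mul_smul, hg]; exact hk, by rw [mul_smul, hkl]⟩

lemma dual : TwoTrans (Dual L) (Dual P) := by
  suffices key : ∀ l₁ l₂ m₁ m₂ : L, l₁ ≠ l₂ → m₁ ≠ m₂ →
      ∃ g : Coll P L, g • l₁ = m₁ ∧ g • l₂ = m₂ by
    intro l₁ l₂ m₁ m₂ h1 h2
    obtain ⟨g, hg1, hg2⟩ := key l₁ l₂ m₁ m₂ h1 h2
    exact ⟨dualEquiv g, hg1, hg2⟩
  intro l₁ l₂ m₁ m₂ h1 h2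
  obtain ⟨p, hp, -⟩ := exists_point (P := P) l₁ l₁
  obtain ⟨q, hq, -⟩ := exists_point (P := P) m₁ m₁
  obtain ⟨g, -, hg⟩ := h.flag hp hq
  have hne : g • l₂ ≠ m₁ := fun e => h1 (smul_left_cancel g (hg.trans e.symm))
  obtain ⟨k, hk, hk2⟩ := transitive_of_two_orbits (stabilizer (Coll P L) m₁) {p : P | p ∈ m₁}
    ⟨q, hq⟩ (exists_off m₁) (fun g hg x => mem_of_fix g hg)
    (fun x y hxy => by
      simp only [Set.mem_ofPred_eq] at hxy
      by_cases hx : x ∈ m₁
      · obtain ⟨k, hk1, hk2⟩ := h.flag hx (hxy.1 hx); exact ⟨k, hk2, hk1⟩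
      · obtain ⟨k, hk1, hk2⟩ := h.antiflag hx (fun e => hx (hxy.2 e)); exact ⟨k, hk2, hk1⟩)
    {m : L | m ≠ m₁} ⟨m₁, fun e => e rfl⟩ (fun g hg x => by
      rw [mem_stabilizer_iff] at hg
      simp only [Set.mem_ofPred_eq]
      exact ⟨fun e e' => e (e' ▸ hg), fun e e' => e (smul_left_cancel g (e'.trans hg.symm))⟩)
    hne (Ne.symm h2)
  exact ⟨k * g, by rw [mul_smul, hg]; exact hk, by rw [mul_smul]; exact hk2⟩

lemma lines {l₁ l₂ m₁ m₂ : L} (h1 : l₁ ≠ l₂) (h2 : m₁ ≠ m₂) :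
    ∃ g : Coll P L, g • l₁ = m₁ ∧ g • l₂ = m₂ := by
  obtain ⟨g, hg1, hg2⟩ := h.dual l₁ l₂ m₁ m₂ h1 h2
  exact ⟨dualEquiv.symm g, hg1, hg2⟩

lemma line (l m : L) : ∃ g : Coll P L, g • l = m := by
  obtain ⟨g, hg⟩ := h.dual.point l m
  exact ⟨dualEquiv.symm g, hg⟩

omit [Finite P] [Finite L] in
lemma on_line {C p q : P} {l : L} (hC : C ∈ l) (hp : p ∈ l) (hq : q ∈ l) (hpC : p ≠ C)
    (hqC : q ≠ C) : ∃ g : Coll P L, g • C = C ∧ g • l = l ∧ g • p = q := by
  obtain ⟨g, hgC, hgp⟩ := h C p C q hpC.symm hqC.symm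
  exact ⟨g, hgC, line_unique hqC.symm (hgC ▸ (smul_mem_smul g).2 hC)
    (hgp ▸ (smul_mem_smul g).2 hp) hC hq, hgp⟩

lemma on_pencil {C : P} {l a b : L} (hl : C ∈ l) (ha : C ∈ a) (hb : C ∈ b) (hal : a ≠ l)
    (hbl : b ≠ l) : ∃ g : Coll P L, g • C = C ∧ g • l = l ∧ g • a = b := by
  obtain ⟨g, h1, h2, h3⟩ := h.dual.on_line (C := l) (p := a) (q := b) (l := C) hl ha hb hal hbl
  exact ⟨dualEquiv.symm g, h2, h1, h3⟩

end TwoTrans

end Cfsg.Lib.OW
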