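import Mathlib

/-!
# Additive sets of invertible elements with additive inverse set
-/

set_option autoImplicit false
set_option linter.style.haveILetI false

namespace Cfsg.Lib.OW

/-- Hua's identity applied to a spread set. -/
theorem hua_closed {A : Type*} [Ring A] [Nontrivial A] (S : Set A)
    (h1 : (1 : A) ∈ S) (hsub : ∀ a ∈ S, ∀ b ∈ S, a - b ∈ S)
    (hinv : ∀ a ∈ S, a ≠ 0 → ∃ b, a * b = 1 ∧ b * a = 1)
    (hadd : ∀ a₁ a₂ b₁ b₂ : A, a₁ ∈ S → a₂ ∈ S → a₁ * b₁ = 1 → b₁ * a₁ = 1 → a₂ * b₂ = 1 →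
      b₂ * a₂ = 1 → b₁ + b₂ = 0 ∨ ∃ a ∈ S, a * (b₁ + b₂) = 1 ∧ (b₁ + b₂) * a = 1) :
    ∀ a ∈ S, ∀ c ∈ S, a * c * a ∈ S := by
  classical
  have h0 : (0 : A) ∈ S := by simpa using hsub 1 h1 1 h1
  -- the step
  have step : ∀ a ∈ S, ∀ c c' : A, c' ∈ S → c * c' = 1 → c' * c = 1 → a * c * a ∈ S := by
    intro a ha c c' hc' hcc' hc'c
    by_cases ha0 : a = 0
    · rw [ha0]; simpa using h0
    have hd : c' - a ∈ S := hsub c' hc' a ha
    by_cases hd0 : c' - a = 0
    · have : a = c' := (sub_eq_zero.1 hd0).symm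
      rw [this, hc'c, one_mul]
      exact hc'
    obtain ⟨a', haa', ha'a⟩ := hinv a ha ha0
    obtain ⟨d', hdd', hd'd⟩ := hinv _ hd hd0
    set u := a' + d'
    have hu : u = a' * c' * d' := by
      calc u = a' * ((c' - a) * d') + (a' * a) * d' := by rw [hdd', ha'a, mul_one, one_mul]
        _ = a' * c' * d' := by noncomm_ring
    set w := (c' - a) * c * a
    have huw : u * w = 1 := by
      calc u * w = a' * (c' * ((d' * (c' - a)) * c)) * a := by rw [hu]; simp only [w, mul_assoc]
        _ = 1 := by rw [hd'd, one_mul, hc'c, mul_one, ha'a]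
    have hwu : w * u = 1 := by
      calc w * u = (c' - a) * (c * ((a * a') * c')) * d' := by rw [hu]; simp only [w, mul_assoc]
        _ = 1 := by rw [haa', one_mul, hcc', mul_one, hdd']
    rcases hadd a (c' - a) a' d' ha hd haa' ha'a hdd' hd'd with h | ⟨s, hs, hsu, -⟩
    · exact absurd (by rw [← huw, show u = 0 from h, zero_mul]) (zero_ne_one (α := A))
    · have hws : w = s := by
        calc w = (s * u) * w := by rw [show s * u = 1 from hsu, one_mul]
          _ = s := by rw [mul_assoc, huw, mul_one]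
      have : a * c * a = a - s := by
        rw [← hws]
        simp only [w, sub_mul, hc'c, one_mul]
        abel
      rw [this]
      exact hsub a ha s hs
  intro a ha c hc
  by_cases hc0 : c = 0
  · rw [hc0]; simpa using h0
  obtain ⟨b, hcb, hbc⟩ := hinv c hc hc0
  refine step a ha c b ?_ hcb hbc
  -- the inverse of an element of `S` lies in `S`
  have := step 1 h1 b c hc hbc hcb
  simpa using this

end Cfsg.Lib.OW
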