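import Cfsg.Agent.OstromWagner.Elations
import Cfsg.Agent.OstromWagner.Hua
import Cfsg.Agent.OstromWagner.AltRing

/-!
# Coordinates
-/

set_option autoImplicit false
set_option linter.style.haveILetI false
set_option linter.unusedSectionVars false

namespace Cfsg.Lib.OW

open Configuration MulAction

universe u v

variable {P : Type u} {L : Type v} [Membership P L] [ProjectivePlane P L] [Finite P] [Finite L]

/-- a coordinate frame -/
structure Frame (P : Type u) (L : Type v) [Membership P L] [ProjectivePlane P L] where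
  /-- two-transitivity -/
  ht : TwoTrans P L
  /-- the line at infinity -/
  l : L
  /-- the origin -/
  O : P
  /-- direction of the first axis -/
  A : P
  /-- direction of the second axis -/
  B : P
  /-- direction of the diagonal -/
  D : P
  hA : A ∈ l
  hB : B ∈ l
  hD : D ∈ l
  hO : O ∉ l
  hAB : A ≠ B
  hDA : D ≠ A
  hDB : D ≠ B

lemma exists_frame (ht : TwoTrans P L) : Nonempty (Frame P L) := by
  obtain ⟨x, -⟩ := @ProjectivePlane.exists_config P L _ _
  obtain ⟨l, hA, -⟩ := exists_line (L := L) x x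
  obtain ⟨B, hB, hBA, -⟩ := exists_on_ne l x x
  obtain ⟨D, hD, hDA, hDB⟩ := exists_on_ne l x B
  obtain ⟨O, hO⟩ := exists_off (P := P) l
  exact ⟨⟨ht, l, O, x, B, D, hA, hB, hD, hO, hBA.symm, hDA, hDB⟩⟩

namespace Frame

variable (F : Frame P L)

/-- the translation group -/
abbrev T : Subgroup (Coll P L) := elGroup (P := P) F.l

/-- the coordinate set -/
abbrev X : Type (max u v) := ↥(perspGroup F.A F.l)

lemma X_mem_T (x : F.X) : (x : Coll P L) ∈ F.T := perspGroup_le_elGroup F.hA x.2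

lemma T_off {t : Coll P L} (ht : t ∈ F.T) {p : P} (hp : p ∉ F.l) : t • p ∉ F.l := fun e =>
  hp ((mem_of_fix t (axis_fixed (elGroup_le_axisGroup F.l ht))).1 e)

lemma T_inj {s t : Coll P L} (hs : s ∈ F.T) (ht : t ∈ F.T) {p : P} (hp : p ∉ F.l)
    (h : s • p = t • p) : s = t :=
  (inv_mul_eq_one.1 (el_semireg (mul_mem (inv_mem ht) hs) hp
    (by rw [mul_smul, h, inv_smul_smul]))).symm

lemma decomp {C : P} (hC : C ∈ F.l) (hCB : C ≠ F.B) (t : Coll P L) (ht : t ∈ F.T) :
    ∃! z : perspGroup C F.l, (z : Coll P L)⁻¹ * t ∈ perspGroup F.B F.l := by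
  let f : perspGroup C F.l × perspGroup F.B F.l → F.T := fun p => ⟨p.1.1 * p.2.1,
    mul_mem (perspGroup_le_elGroup hC p.1.2) (perspGroup_le_elGroup F.hB p.2.2)⟩
  have key : ∀ {a b : Coll P L}, a ∈ perspGroup C F.l → b ∈ perspGroup C F.l →
      a⁻¹ * b ∈ perspGroup F.B F.l → a = b := by
    intro a b ha hb h
    refine inv_mul_eq_one.1 ?_
    by_contra hc
    exact hCB (persp_unique (mul_mem (inv_mem ha) hb) h hc).1
  have hf : Function.Bijective f := by
    refine (Nat.bijective_iff_injective_and_card f).2 ⟨?_, ?_⟩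
    · rintro ⟨⟨a, ha⟩, ⟨b, hb⟩⟩ ⟨⟨a', ha'⟩, ⟨b', hb'⟩⟩ e
      have e' : a * b = a' * b' := congrArg Subtype.val e
      obtain rfl : a' = a := key ha' ha (by
        rw [show a'⁻¹ * a = b' * b⁻¹ by rw [inv_mul_eq_iff_eq_mul, ← mul_assoc, ← e', mul_inv_cancel_right]]
        exact mul_mem hb' (inv_mem hb))
      obtain rfl : b = b' := mul_left_cancel e'
      rfl
    · rw [Nat.card_prod, (card_elations F.ht hC).1, (card_elations F.ht F.hB).1,
        (card_elations F.ht F.hB).2, sq]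
  obtain ⟨⟨a, b⟩, hab⟩ := hf.2 ⟨t, ht⟩
  have hab' : a.1 * b.1 = t := congrArg Subtype.val hab
  refine ⟨a, ?_, fun z hz => ?_⟩
  · change a.1⁻¹ * t ∈ _
    rw [← hab', inv_mul_cancel_left]
    exact b.2
  · have : z.1⁻¹ * a.1 = (z.1⁻¹ * t) * b.1⁻¹ := by rw [← hab']; group
    exact Subtype.ext (key z.2 a.2 (this ▸ mul_mem hz (inv_mem b.2)))

lemma exists_lift {C : P} (hC : C ∈ F.l) (hCB : C ≠ F.B) (x : F.X) :
    ∃! y : perspGroup F.B F.l, (x : Coll P L) * y ∈ perspGroup C F.l := by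
  obtain ⟨z, hz, huniq⟩ := F.decomp hC hCB x (F.X_mem_T x)
  refine ⟨⟨(x : Coll P L)⁻¹ * z.1, ?_⟩, ?_, ?_⟩
  · have := inv_mem hz
    simpa using this
  · change (x : Coll P L) * ((x : Coll P L)⁻¹ * z.1) ∈ _
    rw [mul_inv_cancel_left]
    exact z.2
  · rintro ⟨y, hy⟩ hxy
    have := huniq ⟨_, hxy⟩ (by
      change ((x : Coll P L) * y)⁻¹ * x ∈ _
      simpa using inv_mem hy)
    apply Subtype.ext
    change y = (x : Coll P L)⁻¹ * z.1
    rw [← this]
    simp

/-- the second component of the element of `perspGroup C l` over `x` -/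
noncomputable def lift (C : {C : P // C ∈ F.l ∧ C ≠ F.B}) (x : F.X) : ↥(perspGroup F.B F.l) :=
  (F.exists_lift C.2.1 C.2.2 x).choose

lemma lift_spec (C : {C : P // C ∈ F.l ∧ C ≠ F.B}) (x : F.X) :
    (x : Coll P L) * F.lift C x ∈ perspGroup C.1 F.l :=
  (F.exists_lift C.2.1 C.2.2 x).choose_spec.1

lemma lift_eq (C : {C : P // C ∈ F.l ∧ C ≠ F.B}) {x : F.X} {y : perspGroup F.B F.l}
    (h : (x : Coll P L) * y ∈ perspGroup C.1 F.l) : F.lift C x = y :=
  ((F.exists_lift C.2.1 C.2.2 x).choose_spec.2 y h).symm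

lemma lift_mul (C : {C : P // C ∈ F.l ∧ C ≠ F.B}) (x x' : F.X) :
    F.lift C (x * x') = F.lift C x * F.lift C x' := by
  refine F.lift_eq C ?_
  have := mul_mem (F.lift_spec C x) (F.lift_spec C x')
  have hc := translation_comm F.ht (perspGroup_le_elGroup F.hB (F.lift C x).2) (F.X_mem_T x')
  rw [show (x : Coll P L) * F.lift C x * ((x' : Coll P L) * F.lift C x') =
    x * ((F.lift C x : Coll P L) * x') * F.lift C x' by simp only [mul_assoc], hc] at this
  simpa [Subgroup.coe_mul, mul_assoc] using this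

/-- the chosen third direction -/
abbrev dd : {C : P // C ∈ F.l ∧ C ≠ F.B} := ⟨F.D, F.hD, F.hDB⟩

/-- the first direction -/
abbrev aa : {C : P // C ∈ F.l ∧ C ≠ F.B} := ⟨F.A, F.hA, F.hAB⟩

lemma lift_aa (x : F.X) : F.lift F.aa x = 1 := F.lift_eq _ (by simpa using x.2)

lemma lift_inj (C : {C : P // C ∈ F.l ∧ C ≠ F.B}) (hCA : C.1 ≠ F.A) :
    Function.Injective (F.lift C) := by
  intro x x' e
  have h1 := F.lift_spec C x
  have h2 := F.lift_spec C x'
  rw [← e] at h2
  have h3 : (x : Coll P L) * (x' : Coll P L)⁻¹ ∈ perspGroup C.1 F.l := by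
    have := mul_mem h1 (inv_mem h2)
    simpa [mul_assoc] using this
  by_contra hne
  exact hCA (persp_unique h3 (mul_mem x.2 (inv_mem x'.2))
    (fun e' => hne (Subtype.ext (mul_inv_eq_one.1 e')))).1

lemma card_XY : Nat.card F.X = Nat.card ↥(perspGroup F.B F.l) :=
  ((card_elations F.ht F.hA).1).trans ((card_elations F.ht F.hB).1).symm

/-- identification of the axes -/
noncomputable def iota : F.X ≃* ↥(perspGroup F.B F.l) :=
  MulEquiv.ofBijective (MonoidHom.mk' (F.lift F.dd) (F.lift_mul F.dd))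
    ((Nat.bijective_iff_injective_and_card _).2 ⟨F.lift_inj F.dd F.hDA, F.card_XY⟩)

/-- the coordinate ring -/
def R : Type (max u v) := Additive F.X

instance instFiniteR : Finite F.R := inferInstanceAs (Finite (Additive F.X))

noncomputable instance instAddCommGroupR : AddCommGroup F.R :=
  { (inferInstanceAs (AddGroup (Additive F.X)) : AddGroup F.R) with
    add_comm := fun a b => Subtype.ext (translation_comm F.ht
      (F.X_mem_T (show Additive F.X from a).toMul) (F.X_mem_T (show Additive F.X from b).toMul)) }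

/-- from a coordinate to the translation -/
def tx (a : F.R) : F.X := (show Additive F.X from a).toMul

/-- from a translation to the coordinate -/
def ofX (x : F.X) : F.R := Additive.ofMul x

@[simp] lemma tx_add (a b : F.R) : F.tx (a + b) = F.tx a * F.tx b := rfl
@[simp] lemma tx_zero : F.tx 0 = 1 := rfl
@[simp] lemma tx_ofX (x : F.X) : F.tx (F.ofX x) = x := rfl
@[simp] lemma ofX_tx (a : F.R) : F.ofX (F.tx a) = a := rfl

lemma tx_inj {a b : F.R} (h : F.tx a = F.tx b) : a = b := h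

/-- the translation by `(a, b)` -/
noncomputable def tr (a b : F.R) : Coll P L := (F.tx a : Coll P L) * (F.iota (F.tx b) : Coll P L)

lemma tr_mem (a b : F.R) : F.tr a b ∈ F.T :=
  mul_mem (F.X_mem_T _) (perspGroup_le_elGroup F.hB (F.iota (F.tx b)).2)

lemma tr_add (a b a' b' : F.R) : F.tr (a + a') (b + b') = F.tr a b * F.tr a' b' := by
  have hc := translation_comm F.ht (perspGroup_le_elGroup F.hB (F.iota (F.tx b)).2)
    (F.X_mem_T (F.tx a'))
  simp only [tr, tx_add, map_mul, Subgroup.coe_mul]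
  rw [mul_assoc (F.tx a : Coll P L) (F.iota (F.tx b) : Coll P L), ← mul_assoc (F.iota (F.tx b) : Coll P L),
    hc]
  simp only [mul_assoc]

/-- the point with coordinates `(a, b)` -/
noncomputable def pt (a b : F.R) : P := F.tr a b • F.O

@[simp] lemma pt_zero : F.pt 0 0 = F.O := by simp [pt, tr]

lemma pt_off (a b : F.R) : F.pt a b ∉ F.l := F.T_off (F.tr_mem a b) F.hO

lemma pt_add (a b a' b' : F.R) : F.pt (a + a') (b + b') = F.tr a b • F.pt a' b' := by
  rw [pt, pt, tr_add, mul_smul]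

lemma pt_inj {a b a' b' : F.R} (h : F.pt a b = F.pt a' b') : a = a' ∧ b = b' := by
  have h1 := F.T_inj (F.tr_mem a b) (F.tr_mem a' b') F.hO h
  have h2 : ((F.tx a' : Coll P L))⁻¹ * F.tx a =
      (F.iota (F.tx b') : Coll P L) * ((F.iota (F.tx b) : Coll P L))⁻¹ := by
    rw [inv_mul_eq_iff_eq_mul, ← mul_assoc]
    exact eq_mul_inv_of_mul_eq h1
  have h3 : F.tx a = F.tx a' := by
    by_contra hne
    refine F.hAB (persp_unique (a' := F.l) (mul_mem (inv_mem (F.tx a').2) (F.tx a).2) ?_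
      (fun e => hne (Subtype.ext (inv_mul_eq_one.1 e).symm))).1
    rw [h2]
    exact mul_mem (F.iota (F.tx b')).2 (inv_mem (F.iota (F.tx b)).2)
  simp only [tr, h3, mul_right_inj] at h1
  exact ⟨F.tx_inj h3, F.tx_inj (F.iota.injective (Subtype.ext h1))⟩

lemma pt_surj {p : P} (hp : p ∉ F.l) : ∃ a b, F.pt a b = p := by
  obtain ⟨t, ht, rfl⟩ := translation_transitive F.ht F.hO hp
  obtain ⟨z, hz, -⟩ := F.decomp F.hA F.hAB t ht
  refine ⟨F.ofX z, F.ofX (F.iota.symm ⟨_, hz⟩), ?_⟩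
  simp [pt, tr]

/-- the slope map of a direction -/
noncomputable def slope (C : {C : P // C ∈ F.l ∧ C ≠ F.B}) : F.R →+ F.R :=
  AddMonoidHom.mk' (fun a => F.ofX (F.iota.symm (F.lift C (F.tx a)))) (fun a b => F.tx_inj (by
    simp [F.lift_mul, map_mul]))

lemma iota_slope (C : {C : P // C ∈ F.l ∧ C ≠ F.B}) (a : F.R) :
    F.iota (F.tx (F.slope C a)) = F.lift C (F.tx a) := by
  simp [slope]

@[simp] lemma slope_aa (a : F.R) : F.slope F.aa a = 0 := by
  refine F.tx_inj (F.iota.injective ?_)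
  rw [iota_slope, lift_aa, tx_zero, map_one]

@[simp] lemma slope_dd (a : F.R) : F.slope F.dd a = a := by
  refine F.tx_inj (F.iota.injective ?_)
  rw [iota_slope]
  rfl

lemma centre_pts {C p q : P} {m : L} (hC : C ∈ F.l) (hCm : C ∈ m) (hp : p ∈ m) (hpl : p ∉ F.l) :
    q ∈ m ∧ q ∉ F.l ↔ ∃ t ∈ perspGroup C F.l, t • p = q := by
  have hml : m ≠ F.l := fun e => hpl (e ▸ hp)
  constructor
  · rintro ⟨hq, hql⟩
    exact elation_transitive F.ht hC hCm hml hp (fun e => hpl (e ▸ hC)) hq (fun e => hql (e ▸ hC))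
  · rintro ⟨t, ht, rfl⟩
    exact ⟨centre_mem_line ht.2 hCm hp, F.T_off (perspGroup_le_elGroup hC ht) hpl⟩

lemma mem_slope_iff {C : {C : P // C ∈ F.l ∧ C ≠ F.B}} {m : L} {b : F.R} (hC : C.1 ∈ m)
    (hb : F.pt 0 b ∈ m) (x y : F.R) : F.pt x y ∈ m ↔ y = F.slope C x + b := by
  have key : F.pt x (F.slope C x + b) ∈ m := by
    have e : F.pt x (F.slope C x + b) = F.tr x (F.slope C x) • F.pt 0 b := by
      rw [← F.pt_add, add_zero]
    rw [e]
    refine ((F.centre_pts (q := F.tr x (F.slope C x) • F.pt 0 b) C.2.1 hC hb (F.pt_off 0 b)).2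
      ⟨_, ?_, rfl⟩).1
    rw [tr, iota_slope]
    exact F.lift_spec C (F.tx x)
  refine ⟨fun h => ?_, fun h => h ▸ key⟩
  obtain ⟨t, ht, e⟩ := (F.centre_pts C.2.1 hC key (F.pt_off _ _)).1 ⟨h, F.pt_off x y⟩
  -- a translation with centre `C` moving vertically is trivial
  have e2 : F.pt x y = F.tr 0 (y - (F.slope C x + b)) • F.pt x (F.slope C x + b) := by
    rw [← F.pt_add, zero_add, sub_add_cancel]
  have e3 := F.T_inj (perspGroup_le_elGroup C.2.1 ht) (F.tr_mem _ _) (F.pt_off _ _) (e.trans e2)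
  by_contra hne
  refine C.2.2 (persp_unique (a' := F.l) ht ?_ (fun e1 => hne ?_)).1
  · rw [e3]; simpa [tr] using (F.iota (F.tx (y - (F.slope C x + b)))).2
  · rw [e1, one_smul] at e
    exact (F.pt_inj e).2.symm

lemma mem_vert_iff {m : L} {c b : F.R} (hB : F.B ∈ m) (hb : F.pt c b ∈ m) (x y : F.R) :
    F.pt x y ∈ m ↔ x = c := by
  constructor
  · intro h
    obtain ⟨t, ht, e⟩ := (F.centre_pts F.hB hB hb (F.pt_off _ _)).1 ⟨h, F.pt_off x y⟩
    obtain ⟨z, hz⟩ : ∃ z : F.R, F.tr 0 z = t :=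
      ⟨F.ofX (F.iota.symm ⟨t, ht⟩), by simp [tr]⟩
    rw [← hz, ← F.pt_add, zero_add] at e
    exact (F.pt_inj e).1.symm
  · rintro rfl
    have e : F.pt x y = F.tr 0 (y - b) • F.pt x b := by rw [← F.pt_add, zero_add, sub_add_cancel]
    rw [e]
    refine ((F.centre_pts (q := F.tr 0 (y - b) • F.pt x b) F.hB hB hb (F.pt_off x b)).2
      ⟨_, ?_, rfl⟩).1
    simpa [tr] using (F.iota (F.tx (y - b))).2

/-- a nonzero element serving as the unit -/
noncomputable def e : F.R :=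
  haveI : Nontrivial F.X := Finite.one_lt_card_iff_nontrivial.1
    (by rw [(card_elations F.ht F.hA).1]; exact ProjectivePlane.one_lt_order P L)
  F.ofX (Classical.choose (exists_ne (1 : F.X)))

lemma e_ne : F.e ≠ 0 := by
  haveI : Nontrivial F.X := Finite.one_lt_card_iff_nontrivial.1
    (by rw [(card_elations F.ht F.hA).1]; exact ProjectivePlane.one_lt_order P L)
  exact fun h => Classical.choose_spec (exists_ne (1 : F.X)) (congrArg F.tx h)

lemma slope_eq_imp {C C' : {C : P // C ∈ F.l ∧ C ≠ F.B}} {a : F.R} (ha : a ≠ 0)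
    (h : F.slope C a = F.slope C' a) : C = C' := by
  have h1 := F.lift_spec C (F.tx a)
  have h2 := F.lift_spec C' (F.tx a)
  rw [← iota_slope, ← h, iota_slope] at h2
  by_contra hne
  refine hne (Subtype.ext (persp_unique h1 h2 ?_).1)
  intro e1
  apply ha
  refine F.tx_inj (Subtype.ext ?_)
  by_contra hne'
  refine F.hAB (persp_unique (a' := F.l) (F.tx a).2 ?_ hne').1
  rw [eq_inv_of_mul_eq_one_left e1]
  exact inv_mem (F.lift C (F.tx a)).2

lemma card_dir : Nat.card {C : P // C ∈ F.l ∧ C ≠ F.B} = Nat.card F.R := by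
  rw [show Nat.card F.R = Nat.card F.X from rfl, (card_elations F.ht F.hA).1]
  have : Nat.card {C : P // C ∈ F.l ∧ C ≠ F.B} = ({C : P | C ∈ F.l} \ {F.B}).ncard := by
    rw [← Nat.card_coe_set_eq]; rfl
  rw [this, Set.ncard_sdiff_singleton_of_mem (show F.B ∈ {C : P | C ∈ F.l} from F.hB), card_on]
  omega

/-- directions are parametrised by their slopes -/
noncomputable def dirEquiv : {C : P // C ∈ F.l ∧ C ≠ F.B} ≃ F.R :=
  Equiv.ofBijective (fun C => F.slope C F.e) ((Nat.bijective_iff_injective_and_card _).2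
    ⟨fun _ _ h => F.slope_eq_imp F.e_ne h, F.card_dir⟩)

/-- the point at infinity of slope `m` -/
noncomputable def sl (m : F.R) : {C : P // C ∈ F.l ∧ C ≠ F.B} := F.dirEquiv.symm m

lemma slope_sl_e (m : F.R) : F.slope (F.sl m) F.e = m := F.dirEquiv.apply_symm_apply m

lemma sl_slope (C : {C : P // C ∈ F.l ∧ C ≠ F.B}) : F.sl (F.slope C F.e) = C :=
  F.dirEquiv.symm_apply_apply C

/-- coordinate multiplication -/
noncomputable def mulR (x m : F.R) : F.R := F.slope (F.sl m) x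

lemma sl_zero : F.sl 0 = F.aa := by
  refine (Eq.trans ?_ (F.sl_slope F.aa))
  rw [slope_aa]

/-- lines with slope -/
lemma exists_lineS (m b : F.R) : ∃ k : L, (F.sl m).1 ∈ k ∧ F.pt 0 b ∈ k ∧
    ∀ x y, F.pt x y ∈ k ↔ y = F.mulR x m + b := by
  obtain ⟨k, h1, h2⟩ := exists_line (L := L) (F.sl m).1 (F.pt 0 b)
  exact ⟨k, h1, h2, F.mem_slope_iff h1 h2⟩

/-- vertical lines -/
lemma exists_lineV (c : F.R) : ∃ k : L, F.B ∈ k ∧ ∀ x y, F.pt x y ∈ k ↔ x = c := by
  obtain ⟨k, h1, h2⟩ := exists_line (L := L) F.B (F.pt c 0)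
  exact ⟨k, h1, F.mem_vert_iff h1 h2⟩

/-- additivity of the slope maps -/
lemma slope_add (C C' : {C : P // C ∈ F.l ∧ C ≠ F.B}) :
    ∃ C'' : {C : P // C ∈ F.l ∧ C ≠ F.B}, ∀ x, F.slope C'' x = F.slope C' x + F.slope C x := by
  obtain ⟨a, haB, haO, haV⟩ : ∃ a : L, F.B ∈ a ∧ F.O ∈ a ∧ ∀ x y, F.pt x y ∈ a ↔ x = 0 := by
    obtain ⟨a, h1, h2⟩ := F.exists_lineV 0
    exact ⟨a, h1, by rw [← F.pt_zero, h2], h2⟩
  have hla : F.l ≠ a := fun e => F.hO (e ▸ haO)
  obtain ⟨s, hs, hsA⟩ := elation_transitive F.ht (C := F.B) (l := a) (m := F.l) haB F.hB hla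
    F.hA F.hAB C.2.1 C.2.2
  have hsl : s • F.l = F.l := hs.2 _ F.hB
  have hsO : s • F.O = F.O := hs.1 _ haO
  have hC'' : s • C'.1 ∈ F.l ∧ s • C'.1 ≠ F.B :=
    ⟨(mem_of_fix s hsl).2 C'.2.1,
      fun e => C'.2.2 (smul_left_cancel s (e.trans (centre_fixed hs.2).symm))⟩
  refine ⟨⟨_, hC''⟩, fun x => ?_⟩
  have act : ∀ t ∈ F.T, s * t * s⁻¹ ∈ F.T ∧ (s * t * s⁻¹) • F.O = s • t • F.O := fun t ht =>
    ⟨by have := conj_elGroup (h := s) ht; rwa [hsl] at this,
      by rw [mul_smul, mul_smul, show s⁻¹ • F.O = F.O from inv_smul_eq_iff.2 hsO.symm]⟩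
  have hvert : ∀ y, s * F.tr 0 y * s⁻¹ = F.tr 0 y := fun y => by
    obtain ⟨h1, h2⟩ := act _ (F.tr_mem 0 y)
    refine F.T_inj h1 (F.tr_mem 0 y) F.hO (h2.trans ?_)
    exact hs.1 _ ((haV 0 y).2 rfl)
  have hpt : ∀ x, s • F.pt x 0 = F.pt x (F.slope C x) := by
    intro x
    obtain ⟨k, hk, hkV⟩ := F.exists_lineV x
    obtain ⟨m, hmA, hm⟩ := exists_line (L := L) F.A F.O
    have hmV := F.mem_slope_iff (C := F.aa) hmA (b := 0) (by rw [F.pt_zero]; exact hm)
    have h1 : F.pt x 0 ∈ m := (hmV x 0).2 (by simp)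
    have h2 : s • F.pt x 0 ∈ s • m := (smul_mem_smul s).2 h1
    have h3 : s • F.pt x 0 ∉ F.l := fun e => F.pt_off x 0 ((mem_of_fix s hsl).1 e)
    obtain ⟨x', y', e⟩ := F.pt_surj h3
    have hx : x' = x := (hkV x' y').1 (e ▸ centre_mem_line hs.2 hk ((hkV x 0).2 rfl))
    have hsm : C.1 ∈ s • m := hsA ▸ (smul_mem_smul s).2 hmA
    have hsmO : F.pt 0 0 ∈ s • m := by rw [F.pt_zero, ← hsO]; exact (smul_mem_smul s).2 hm
    have hy := (F.mem_slope_iff hsm hsmO x' y').1 (e ▸ h2)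
    rw [add_zero] at hy
    rw [← e, hy, hx]
  have hall : ∀ x y, s • F.pt x y = F.pt x (F.slope C x + y) := by
    intro x y
    have e : F.pt x y = F.tr 0 y • F.pt x 0 := by rw [← F.pt_add, zero_add, add_zero]
    rw [e, smul_smul, show s * F.tr 0 y = F.tr 0 y * s by rw [← mul_inv_eq_iff_eq_mul]; exact hvert y,
      mul_smul, hpt, ← F.pt_add, zero_add, add_comm]
  obtain ⟨m, hm', hm⟩ := exists_line (L := L) C'.1 F.O
  have h1 : F.pt x (F.slope C' x) ∈ m :=
    (F.mem_slope_iff hm' (b := 0) (by rw [F.pt_zero]; exact hm) x _).2 (by rw [add_zero])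
  have h2 : F.pt x (F.slope C x + F.slope C' x) ∈ s • m := hall x _ ▸ (smul_mem_smul s).2 h1
  have h3 : F.pt 0 0 ∈ s • m := by rw [F.pt_zero, ← hsO]; exact (smul_mem_smul s).2 hm
  have h4 := (F.mem_slope_iff (C := ⟨_, hC''⟩) ((smul_mem_smul s).2 hm') h3 x _).1 h2
  rw [add_zero] at h4
  rw [← h4, add_comm]

lemma mulR_add (x m m' : F.R) : F.mulR x (m + m') = F.mulR x m + F.mulR x m' := by
  obtain ⟨C'', hC''⟩ := F.slope_add (F.sl m') (F.sl m)
  have : C'' = F.sl (m + m') := by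
    rw [← F.sl_slope C'', hC'', slope_sl_e, slope_sl_e]
  subst this
  exact hC'' x

noncomputable instance instNonAssocRing : NonAssocRing F.R :=
  { instAddCommGroupR F with
    mul := F.mulR
    one := F.e
    left_distrib := F.mulR_add
    right_distrib := fun x y m => map_add (F.slope (F.sl m)) x y
    zero_mul := fun m => map_zero (F.slope (F.sl m))
    mul_zero := fun x => by
      change F.slope (F.sl 0) x = 0
      rw [sl_zero, slope_aa]
    one_mul := F.slope_sl_e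
    mul_one := fun x => by
      change F.slope (F.sl F.e) x = x
      rw [show F.sl F.e = F.dd by conv_lhs => rw [← F.slope_dd F.e, F.sl_slope], slope_dd] }

lemma slope_sl (m x : F.R) : F.slope (F.sl m) x = x * m := rfl

lemma slope_apply (C : {C : P // C ∈ F.l ∧ C ≠ F.B}) (x : F.R) :
    F.slope C x = x * F.slope C F.e := by
  rw [← F.slope_sl, sl_slope]

lemma one_def : (1 : F.R) = F.e := rfl

instance instNontrivialR : Nontrivial F.R := ⟨⟨F.e, 0, F.e_ne⟩⟩

lemma mul_left_inj' {x m m' : F.R} (hx : x ≠ 0) (h : x * m = x * m') : m = m' := by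
  rw [← F.slope_sl, ← F.slope_sl] at h
  rw [← F.slope_sl_e m, F.slope_eq_imp hx h, F.slope_sl_e]

instance instNoZeroDivisors : NoZeroDivisors F.R :=
  ⟨fun {x m} h => or_iff_not_imp_left.2 fun hx => F.mul_left_inj' hx (by rw [h, mul_zero])⟩

/-- right multiplication as an endomorphism -/
noncomputable def rmul (m : F.R) : AddMonoid.End F.R := AddMonoidHom.mulRight m

/-- left multiplication as an endomorphism -/
noncomputable def lmul (m : F.R) : AddMonoid.End F.R := AddMonoidHom.mulLeft m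

@[simp] lemma rmul_apply (m x : F.R) : F.rmul m x = x * m := rfl
@[simp] lemma lmul_apply (m x : F.R) : F.lmul m x = m * x := rfl

lemma exists_inv (f : AddMonoid.End F.R) (hf : Function.Injective f) :
    ∃ g, f * g = 1 ∧ g * f = 1 := by
  let e := AddEquiv.ofBijective (f : F.R →+ F.R) (Finite.injective_iff_bijective.1 hf)
  refine ⟨e.symm.toAddMonoidHom, ?_, ?_⟩
  · exact AddMonoidHom.ext fun x => e.apply_symm_apply x
  · exact AddMonoidHom.ext fun x => e.symm_apply_apply x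

lemma rmul_inv_add (m m' : F.R) (b b' : AddMonoid.End F.R) (h : F.rmul m * b = 1)
    (hm : b * F.rmul m = 1) (h' : F.rmul m' * b' = 1) (hm' : b' * F.rmul m' = 1) :
    b + b' = 0 ∨ ∃ m'' : F.R, F.rmul m'' * (b + b') = 1 ∧ (b + b') * F.rmul m'' = 1 := by
  have hne : ∀ {m : F.R} {b : AddMonoid.End F.R}, F.rmul m * b = 1 → m ≠ 0 := by
    intro m b hb e
    apply F.e_ne
    have := DFunLike.congr_fun hb F.e
    simpa [AddMonoid.End.coe_mul, e] using this.symm
  obtain ⟨a, haA, haO⟩ := exists_line (L := L) F.A F.O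
  have haV : ∀ x y, F.pt x y ∈ a ↔ y = 0 := fun x y => by
    rw [F.mem_slope_iff (C := F.aa) haA (b := 0) (by rw [F.pt_zero]; exact haO)]
    simp
  have hla : F.l ≠ a := fun e => F.hO (e ▸ haO)
  set C := F.sl m' with hCdef
  have hCA : C.1 ≠ F.A := fun e => hne h' (by
    rw [← F.slope_sl_e m', ← hCdef, show C = F.aa from Subtype.ext e, slope_aa])
  obtain ⟨s, hs, hsB⟩ := elation_transitive F.ht (C := F.A) (l := a) (m := F.l) haA F.hA hla
    F.hB F.hAB.symm C.2.1 hCA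
  have hsl : s • F.l = F.l := hs.2 _ F.hA
  have hsO : s • F.O = F.O := hs.1 _ haO
  obtain ⟨v, hvB, hvV⟩ := F.exists_lineV 0
  have hvO : F.O ∈ v := by rw [← F.pt_zero, hvV]
  have hpt : ∀ x y, s • F.pt x y = F.pt (b' y + x) y := by
    have act : ∀ t ∈ F.T, s * t * s⁻¹ ∈ F.T ∧ (s * t * s⁻¹) • F.O = s • t • F.O := fun t ht =>
      ⟨by have := conj_elGroup (h := s) ht; rwa [hsl] at this,
        by rw [mul_smul, mul_smul, show s⁻¹ • F.O = F.O from inv_smul_eq_iff.2 hsO.symm]⟩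
    have hhor : ∀ x, s * F.tr x 0 * s⁻¹ = F.tr x 0 := fun x => by
      obtain ⟨h1, h2⟩ := act _ (F.tr_mem x 0)
      exact F.T_inj h1 (F.tr_mem x 0) F.hO (h2.trans (hs.1 _ ((haV x 0).2 rfl)))
    have hv : ∀ y, s • F.pt 0 y = F.pt (b' y) y := by
      intro y
      obtain ⟨k, hkA, hk⟩ := exists_line (L := L) F.A (F.pt 0 y)
      have h3 : s • F.pt 0 y ∉ F.l := fun e => F.pt_off 0 y ((mem_of_fix s hsl).1 e)
      obtain ⟨x', y', e⟩ := F.pt_surj h3
      have hy : y' = y := by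
        have := (F.mem_slope_iff (C := F.aa) hkA hk x' y').1 (e ▸ centre_mem_line hs.2 hkA hk)
        simpa using this
      have h4 : s • F.pt 0 y ∈ s • v := (smul_mem_smul s).2 ((hvV 0 y).2 rfl)
      have hsv : C.1 ∈ s • v := hsB ▸ (smul_mem_smul s).2 hvB
      have hsvO : F.pt 0 0 ∈ s • v := by rw [F.pt_zero, ← hsO]; exact (smul_mem_smul s).2 hvO
      have h5 := (F.mem_slope_iff hsv hsvO x' y').1 (e ▸ h4)
      rw [add_zero, hy, hCdef, slope_sl] at h5
      have : b' y = x' := by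
        have := DFunLike.congr_fun hm' x'
        simpa [AddMonoid.End.coe_mul, ← h5] using this
      rw [← e, hy, this]
    intro x y
    have e : F.pt x y = F.tr x 0 • F.pt 0 y := by rw [← F.pt_add, zero_add, add_zero]
    rw [e, smul_smul, show s * F.tr x 0 = F.tr x 0 * s by rw [← mul_inv_eq_iff_eq_mul]; exact hhor x,
      mul_smul, hv, ← F.pt_add, zero_add, add_comm]
  obtain ⟨k, hk, hkO⟩ := exists_line (L := L) (F.sl m).1 F.O
  have hkV : ∀ y, F.pt (b y) y ∈ k := fun y => by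
    rw [F.mem_slope_iff hk (b := 0) (by rw [F.pt_zero]; exact hkO), add_zero, slope_sl]
    have := DFunLike.congr_fun h y
    simpa [AddMonoid.End.coe_mul] using this.symm
  have himg : ∀ y, F.pt ((b + b') y) y ∈ s • k := fun y => by
    have := (smul_mem_smul s).2 (hkV y)
    rw [hpt, add_comm] at this
    exact this
  have hskO : F.pt 0 0 ∈ s • k := by rw [F.pt_zero, ← hsO]; exact (smul_mem_smul s).2 hkO
  by_cases hB : s • (F.sl m).1 = F.B
  · left
    refine AddMonoidHom.ext fun y => ?_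
    exact (F.mem_vert_iff (hB ▸ (smul_mem_smul s).2 hk) hskO _ _).1 (himg y)
  · right
    set C'' : {C : P // C ∈ F.l ∧ C ≠ F.B} := ⟨_, (mem_of_fix s hsl).2 (F.sl m).2.1, hB⟩
    refine ⟨F.slope C'' F.e, ?_⟩
    have hr : F.rmul (F.slope C'' F.e) * (b + b') = 1 := AddMonoidHom.ext fun y => by
      have := (F.mem_slope_iff (C := C'') ((smul_mem_smul s).2 hk) hskO _ _).1 (himg y)
      rw [add_zero, slope_apply] at this
      exact this.symm
    refine ⟨hr, ?_⟩
    have hinj : Function.Injective (b + b') := fun x y e => by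
      have h1 := DFunLike.congr_fun hr x
      have h2 := DFunLike.congr_fun hr y
      simp only [AddMonoid.End.coe_mul, Function.comp_apply, e] at h1 h2
      exact h1.symm.trans h2
    obtain ⟨g, hg, hg'⟩ := F.exists_inv _ hinj
    have : F.rmul (F.slope C'' F.e) = g := by
      rw [← mul_one (F.rmul _), ← hg, ← mul_assoc, hr, one_mul]
    rw [this, hg]

lemma lmul_inv_add (x c : F.R) (b b' : AddMonoid.End F.R) (h : F.lmul x * b = 1)
    (h' : F.lmul c * b' = 1) :
    b + b' = 0 ∨ ∃ x' : F.R, F.lmul x' * (b + b') = 1 ∧ (b + b') * F.lmul x' = 1 := by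
  have hne : ∀ {m : F.R} {b : AddMonoid.End F.R}, F.lmul m * b = 1 → m ≠ 0 := by
    intro m b hb e
    apply F.e_ne
    have := DFunLike.congr_fun hb F.e
    simpa [AddMonoid.End.coe_mul, e] using this.symm
  have hx := hne h
  have hc := hne h'
  have bx : ∀ z, x * b z = z := fun z => by
    have := DFunLike.congr_fun h z
    simpa [AddMonoid.End.coe_mul] using this
  have bc : ∀ z, c * b' z = z := fun z => by
    have := DFunLike.congr_fun h' z
    simpa [AddMonoid.End.coe_mul] using this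
  obtain ⟨v, hvB, hvV⟩ := F.exists_lineV 0
  have hvO : F.O ∈ v := by rw [← F.pt_zero, hvV]
  obtain ⟨a, haA, haO⟩ := exists_line (L := L) F.A F.O
  have haV : ∀ x y, F.pt x y ∈ a ↔ y = 0 := fun x y => by
    rw [F.mem_slope_iff (C := F.aa) haA (b := 0) (by rw [F.pt_zero]; exact haO)]
    simp
  have hav : a ≠ v := fun e => F.hAB (point_unique (fun e' => F.hO (e' ▸ hvO) : v ≠ F.l)
    (e ▸ haA) F.hA hvB F.hB)
  obtain ⟨s, hs, hsA⟩ := elation_transitive F.ht (C := F.O) (l := v) (m := a) hvO haO hav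
    haA (fun e => F.hO (e ▸ F.hA)) ((haV c 0).2 rfl)
    (fun e => hc (F.pt_inj (e.trans F.pt_zero.symm)).1)
  obtain ⟨vc, hvcB, hvcV⟩ := F.exists_lineV c
  have hsB : s • F.B = F.B := hs.1 _ hvB
  have hsl : s • F.l = vc := line_unique
    (fun e => F.pt_off c 0 (e ▸ F.hB) : F.B ≠ F.pt c 0)
    (hsB ▸ (smul_mem_smul s).2 F.hB) (hsA ▸ (smul_mem_smul s).2 F.hA) hvcB ((hvcV c 0).2 rfl)
  -- direction points go to the vertical line at `c`
  have hdir : ∀ m : F.R, s • (F.sl m).1 = F.pt c (c * m) := by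
    intro m
    obtain ⟨k, hk, hkO, hkV⟩ := F.exists_lineS m 0
    rw [F.pt_zero] at hkO
    have hkc : k ≠ vc := fun e => by
      have h1 := (hvcV 0 0).1 (by rw [F.pt_zero, ← e]; exact hkO)
      exact hc h1.symm
    refine point_unique hkc (centre_mem_line hs.2 hkO hk)
      (hsl ▸ (smul_mem_smul s).2 (F.sl m).2.1) ?_ ((hvcV c _).2 rfl)
    rw [hkV, add_zero]
    rfl
  obtain ⟨vx, hvxB, hvxV⟩ := F.exists_lineV x
  have hsvx : F.B ∈ s • vx := hsB ▸ (smul_mem_smul s).2 hvxB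
  -- the image of the point `(x, z)`
  have key : ∀ z : F.R, z ≠ 0 → ∃ k : L, s • F.pt x z ∈ k ∧ (F.sl (-(b' z))).1 ∈ k ∧
      F.pt 0 z ∈ k := by
    intro z _
    obtain ⟨k₀, hk₀, hk₀z, hk₀V⟩ := F.exists_lineS 0 z
    obtain ⟨k, hk, hkz, hkV⟩ := F.exists_lineS (-(b' z)) z
    have hsk : s • k₀ = k := by
      refine line_unique (fun e => hc (F.pt_inj e).1 : F.pt c 0 ≠ F.pt 0 z) ?_ ?_ ?_ hkz
      · have := (smul_mem_smul s).2 hk₀
        rwa [hdir, mul_zero] at this
      · have := (smul_mem_smul s).2 hk₀z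
        rwa [hs.1 _ ((hvV 0 z).2 rfl)] at this
      · rw [hkV]
        change 0 = c * -(b' z) + z
        rw [mul_neg, bc, neg_add_cancel]
    refine ⟨k, hsk ▸ (smul_mem_smul s).2 ((hk₀V x z).2 ?_), hk, hkz⟩
    change z = x * 0 + z
    rw [mul_zero, zero_add]
  have onray : ∀ z : F.R, ∃ k : L, s • F.pt x z ∈ k ∧ F.O ∈ k ∧ (F.sl (b z)).1 ∈ k ∧
      ∀ p q, F.pt p q ∈ k ↔ q = p * b z := by
    intro z
    obtain ⟨k, hk, hkO, hkV⟩ := F.exists_lineS (b z) 0
    rw [F.pt_zero] at hkO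
    refine ⟨k, centre_mem_line hs.2 hkO ((hkV x z).2 ?_), hkO, hk, fun p q => ?_⟩
    · change z = x * b z + 0
      rw [bx, add_zero]
    · rw [hkV, add_zero]; rfl
  by_cases hinf : s • vx = F.l
  · left
    refine AddMonoidHom.ext fun z => ?_
    by_cases hz : z = 0
    · rw [hz]; exact map_zero _
    obtain ⟨k, hk, hkm, hkz⟩ := key z hz
    obtain ⟨k', hk', hkO, hkm', -⟩ := onray z
    have hl : s • F.pt x z ∈ F.l := hinf ▸ (smul_mem_smul s).2 ((hvxV x z).2 rfl)
    have e1 : s • F.pt x z = (F.sl (b z)).1 :=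
      point_unique (fun e => F.hO (e ▸ hkO) : k' ≠ F.l) hk' hl hkm' (F.sl _).2.1
    have e2 : s • F.pt x z = (F.sl (-(b' z))).1 :=
      point_unique (fun e => F.pt_off 0 z (e ▸ hkz) : k ≠ F.l) hk hl hkm (F.sl _).2.1
    have e3 : F.sl (b z) = F.sl (-(b' z)) := Subtype.ext (e1.symm.trans e2)
    have e4 : b z = -(b' z) := F.dirEquiv.symm.injective e3
    change b z + b' z = 0
    rw [e4, neg_add_cancel]
  · right
    obtain ⟨p, hpk, hpl, -⟩ := exists_on_ne (s • vx) F.B F.B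
    have hpoff : p ∉ F.l := fun e => hpl (point_unique hinf hpk e hsvx F.hB)
    obtain ⟨x', y₀, rfl⟩ := F.pt_surj hpoff
    have hV := F.mem_vert_iff hsvx hpk
    refine ⟨x', ?_⟩
    have hr : F.lmul x' * (b + b') = 1 := AddMonoidHom.ext fun z => by
      change x' * (b z + b' z) = z
      by_cases hz : z = 0
      · simp [hz]
      obtain ⟨k, hk, hkm, hkz⟩ := key z hz
      obtain ⟨k', hk', -, -, hkV'⟩ := onray z
      have hoff : s • F.pt x z ∉ F.l := fun e => by
        have := point_unique hinf ((smul_mem_smul s).2 ((hvxV x z).2 rfl)) e hsvx F.hB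
        exact F.pt_off x z (smul_left_cancel s (this.trans hsB.symm) ▸ F.hB)
      obtain ⟨p₁, q₁, e⟩ := F.pt_surj hoff
      have hp₁ : p₁ = x' := (hV p₁ q₁).1 (e ▸ (smul_mem_smul s).2 ((hvxV x z).2 rfl))
      have h1 : q₁ = p₁ * b z := (hkV' p₁ q₁).1 (e ▸ hk')
      have h2 := (F.mem_slope_iff hkm hkz p₁ q₁).1 (e ▸ hk)
      rw [slope_sl, h1, hp₁, mul_neg] at h2
      rw [mul_add, h2]
      abel
    refine ⟨hr, ?_⟩
    have hinj : Function.Injective (b + b') := fun u w e => by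
      have h1 := DFunLike.congr_fun hr u
      have h2 := DFunLike.congr_fun hr w
      simp only [AddMonoid.End.coe_mul, Function.comp_apply, e] at h1 h2
      exact h1.symm.trans h2
    obtain ⟨g, hg, hg'⟩ := F.exists_inv _ hinj
    have : F.lmul x' = g := by
      rw [← mul_one (F.lmul x'), ← hg, ← mul_assoc, hr, one_mul]
    rw [this, hg]

instance instNontrivialEnd : Nontrivial (AddMonoid.End F.R) :=
  ⟨⟨1, 0, fun h => F.e_ne (DFunLike.congr_fun h F.e)⟩⟩

lemma rmul_closed (a c : F.R) : F.rmul a * F.rmul c * F.rmul a ∈ Set.range F.rmul := by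
  refine hua_closed (Set.range F.rmul) ⟨F.e, ?_⟩ ?_ ?_ ?_ _ ⟨a, rfl⟩ _ ⟨c, rfl⟩
  · exact AddMonoidHom.ext fun x => mul_one x
  · rintro _ ⟨u, rfl⟩ _ ⟨w, rfl⟩
    exact ⟨u - w, AddMonoidHom.ext fun x => mul_sub x u w⟩
  · rintro _ ⟨u, rfl⟩ hu
    refine F.exists_inv _ (fun x y hxy => ?_)
    have hu' : u ≠ 0 := fun e => hu (AddMonoidHom.ext fun x => by
      change x * u = 0
      rw [e, mul_zero])
    simp only [rmul_apply] at hxy
    rw [← sub_eq_zero, ← sub_mul] at hxy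
    exact sub_eq_zero.1 ((mul_eq_zero.1 hxy).resolve_right hu')
  · rintro _ _ b₁ b₂ ⟨u, rfl⟩ ⟨w, rfl⟩ h1 h2 h3 h4
    rcases F.rmul_inv_add u w b₁ b₂ h1 h2 h3 h4 with r | ⟨m, hm⟩
    · exact Or.inl r
    · exact Or.inr ⟨_, ⟨m, rfl⟩, hm⟩

lemma lmul_closed (a c : F.R) : F.lmul a * F.lmul c * F.lmul a ∈ Set.range F.lmul := by
  refine hua_closed (Set.range F.lmul) ⟨F.e, ?_⟩ ?_ ?_ ?_ _ ⟨a, rfl⟩ _ ⟨c, rfl⟩
  · exact AddMonoidHom.ext fun x => one_mul x
  · rintro _ ⟨u, rfl⟩ _ ⟨w, rfl⟩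
    exact ⟨u - w, AddMonoidHom.ext fun x => sub_mul u w x⟩
  · rintro _ ⟨u, rfl⟩ hu
    refine F.exists_inv _ (fun x y hxy => ?_)
    have hu' : u ≠ 0 := fun e => hu (AddMonoidHom.ext fun x => by
      change u * x = 0
      rw [e, zero_mul])
    exact F.mul_left_inj' hu' hxy
  · rintro _ _ b₁ b₂ ⟨u, rfl⟩ ⟨w, rfl⟩ h1 _ h3 _
    rcases F.lmul_inv_add u w b₁ b₂ h1 h3 with r | ⟨m, hm⟩
    · exact Or.inl r
    · exact Or.inr ⟨_, ⟨m, rfl⟩, hm⟩

lemma altId : Alt.AltId F.R := by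
  have rm : ∀ x a c : F.R, x * a * c * a = x * (a * c * a) := by
    intro x a c
    obtain ⟨w, hw⟩ := F.rmul_closed a c
    have h1 : ∀ x : F.R, x * w = x * a * c * a := fun x => DFunLike.congr_fun hw x
    have he : w = a * c * a := by have := h1 1; rwa [one_mul, one_mul] at this
    rw [← h1, he]
  have lm : ∀ x a z : F.R, x * (a * x) * z = x * (a * (x * z)) := by
    intro x a z
    obtain ⟨w, hw⟩ := F.lmul_closed x a
    have h1 : ∀ z : F.R, w * z = x * (a * (x * z)) := fun z => DFunLike.congr_fun hw z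
    have he : w = x * (a * x) := by have := h1 1; rwa [mul_one, mul_one] at this
    rw [← h1, he]
  refine ⟨fun x y => ?_, fun x y => ?_, lm⟩
  · have := lm x 1 y; rwa [one_mul, one_mul] at this
  · have := rm x y 1; rwa [mul_one, mul_one] at this

lemma R_comm (a b : F.R) : a * b = b * a := (Alt.comm_assoc F.altId).1 a b

lemma R_assoc (a b c : F.R) : a * b * c = a * (b * c) := (Alt.comm_assoc F.altId).2 a b c

end Frame

end Cfsg.Lib.OW
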