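import Cfsg.Agent.OstromWagner.Exist

/-!
# All elations are present
-/

set_option autoImplicit false
set_option linter.style.haveILetI false
set_option linter.unusedSectionVars false

namespace Cfsg.Lib.OW

open Configuration MulAction

universe u v

variable {P : Type u} {L : Type v} [Membership P L] [ProjectivePlane P L] [Finite P] [Finite L]

lemma card_persp_congr {C C' : P} {a a' : L} (h : ∃ g : Coll P L, g • C = C' ∧ g • a = a') :
    Nat.card (perspGroup C a) = Nat.card (perspGroup C' a') := by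
  obtain ⟨g, rfl, rfl⟩ := h
  exact Nat.card_congr
    { toFun := fun x => ⟨g * x.1 * g⁻¹, conj_perspGroup x.2⟩
      invFun := fun x => ⟨g⁻¹ * x.1 * g, by
        have := conj_perspGroup (h := g⁻¹) x.2
        simpa using this⟩
      left_inv := fun x => Subtype.ext (by group)
      right_inv := fun x => Subtype.ext (by group) }

lemma card_elGroup_add (l : L) {h : ℕ} (hh : ∀ X : P, X ∈ l → Nat.card (perspGroup X l) = h + 1) :
    Nat.card (elGroup (P := P) l) = (ProjectivePlane.order P L + 1) * h + 1 := by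
  classical
  haveI := Fintype.ofFinite P
  haveI := Fintype.ofFinite (Coll P L)
  set T : P → Finset (Coll P L) :=
    fun X => Finset.univ.filter fun g => g ∈ perspGroup X l ∧ g ≠ 1
  have hT : ∀ X : P, X ∈ l → (T X).card = h := by
    intro X hX
    have hins : (insert (1 : Coll P L) (T X)).card = h + 1 := by
      rw [← hh X hX, Nat.card_eq_fintype_card, Fintype.card_subtype]
      congr 1
      ext g
      by_cases hg : g = 1 <;> simp [T, hg]
    rw [Finset.card_insert_of_notMem (by simp [T])] at hins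
    omega
  have hcard : (Finset.univ.filter fun X : P => X ∈ l).card = ProjectivePlane.order P L + 1 := by
    rw [← card_on (P := P) l, Set.ncard_eq_toFinset_card']
    congr 1
    ext; simp
  rw [← hcard, ← smul_eq_mul, ← Finset.sum_const,
    ← Finset.sum_congr rfl (fun X hX => hT X (by simpa using hX)),
    ← Finset.card_biUnion (fun X _ Y _ hXY => by
      rw [Function.onFun, Finset.disjoint_left]
      intro g hg hg'
      simp only [T, Finset.mem_filter, Finset.mem_univ, true_and] at hg hg'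
      exact hXY (persp_unique hg.1 hg'.1 hg.2).1),
    ← Finset.card_insert_of_notMem (a := (1 : Coll P L)) (by simp [T]),
    Nat.card_eq_fintype_card, Fintype.card_subtype]
  congr 1
  ext g
  simp only [T, Finset.mem_insert, Finset.mem_biUnion, Finset.mem_filter, Finset.mem_univ, true_and]
  constructor
  · intro hgE
    by_cases hg : g = 1
    · exact Or.inl hg
    · obtain ⟨X, hX, hgX⟩ := hgE
      exact Or.inr ⟨X, hX, hgX, hg⟩
  · rintro (rfl | ⟨X, hX, hg, -⟩)
    · exact one_mem _
    · exact perspGroup_le_elGroup hX hg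

lemma exists_elation (ht : TwoTrans P L) :
    ∃ (C : P) (l : L) (g : Coll P L), C ∈ l ∧ g ∈ perspGroup C l ∧ g ≠ 1 := by
  obtain ⟨g, hg1, C, a, hg⟩ := exists_persp ht
  by_cases hC : C ∈ a
  · exact ⟨C, a, g, hC, hg, hg1⟩
  obtain ⟨C', hC', hne⟩ := exists_off_ne (P := P) a C
  obtain ⟨k, hkC, hka⟩ := ht.antiflag hC hC'
  have hg' : k * g * k⁻¹ ∈ perspGroup C' a := by
    have := conj_perspGroup (h := k) hg
    rwa [hkC, hka] at this
  obtain ⟨-, hcard, hlt⟩ := count_axis a hg hg1 hC hg' (fun e => hg1 (conj_eq_one_iff.1 e)) hne.symm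
  haveI := Finite.one_lt_card_iff_nontrivial.1 (hcard ▸ hlt : 1 < Nat.card (elGroup (P := P) a))
  obtain ⟨⟨x, X, hX, hx⟩, hx1⟩ := exists_ne (1 : elGroup (P := P) a)
  exact ⟨X, a, x, hX, hx, fun e => hx1 (Subtype.ext e)⟩

/-- Every flag carries the full group of elations. -/
theorem card_elations (ht : TwoTrans P L) {C : P} {l : L} (hC : C ∈ l) :
    Nat.card (perspGroup C l) = ProjectivePlane.order P L ∧
      Nat.card (elGroup (P := P) l) = ProjectivePlane.order P L ^ 2 := by
  obtain ⟨C₀, l₀, g, hC₀, hg, hg1⟩ := exists_elation ht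
  set n := ProjectivePlane.order P L
  set h := Nat.card (perspGroup C l)
  have hall : ∀ (X : P) (m : L), X ∈ m → Nat.card (perspGroup X m) = h :=
    fun X m hX => card_persp_congr (ht.flag hX hC)
  have hh2 : 2 ≤ h := by
    rw [← hall C₀ l₀ hC₀]
    haveI : Nontrivial (perspGroup C₀ l₀) :=
      ⟨⟨⟨g, hg⟩, 1, fun e => hg1 (congrArg Subtype.val e)⟩⟩
    exact Finite.one_lt_card
  have hsum := card_elGroup_add (P := P) l (h := h - 1) (fun X hX => by rw [hall X l hX]; omega)
  have hdvd : Nat.card (elGroup (P := P) l) ∣ n ^ 2 := by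
    rw [← card_off (P := P) l]
    refine dvd_ncard_of_orbits (G := elGroup (P := P) l) _ ?_ ?_
    · rintro ⟨x, hx⟩ y hy e
      exact hy ((mem_of_fix x (axis_fixed (elGroup_le_axisGroup l hx))).1 e)
    · intro y hy
      rw [orbit_ncard_of_semireg _ y fun x hx e => el_semireg hx hy e]
  have hhn : h ∣ n := by
    obtain ⟨m, hm, hml, -⟩ := exists_through_ne C l l
    have hdiff : ({x : P | x ∈ m} \ {C}).ncard = n := by
      rw [Set.ncard_sdiff_singleton_of_mem (show C ∈ {x : P | x ∈ m} from hm), card_on]; rfl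
    rw [← hdiff]
    refine dvd_ncard_of_orbits (G := perspGroup C l) _ ?_ ?_
    · rintro ⟨x, hx⟩ y ⟨hy, hyC⟩
      exact ⟨centre_mem_line hx.2 hm hy,
        fun e => hyC (smul_left_cancel x ((show x • y = C from e).trans (centre_fixed hx.2).symm))⟩
    · rintro y ⟨hy, hyC⟩
      rw [orbit_ncard_of_semireg _ y fun x hx e =>
        el_semireg (perspGroup_le_elGroup hC hx) (fun e' => hyC (point_unique hml hy e' hm hC)) e]
  obtain ⟨u, hu⟩ := hhn
  obtain ⟨k, hk⟩ : ∃ k, h = k + 1 := ⟨h - 1, by omega⟩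
  have hn2 : 2 ≤ n := two_le_order
  have hu1 : 1 ≤ u := by
    rcases Nat.eq_zero_or_pos u with r | r
    · rw [r, mul_zero] at hu; omega
    · exact r
  set s := u * k + 1
  have hEs : Nat.card (elGroup (P := P) l) = h * s := by
    rw [hsum, show ProjectivePlane.order P L = n from rfl, hu, hk, Nat.add_sub_cancel]
    ring
  have hs : s ∣ h * (u * u) := by
    refine Nat.dvd_of_mul_dvd_mul_left (by omega : 0 < h) ?_
    rw [← hEs, show h * (h * (u * u)) = n ^ 2 by rw [hu]; ring]
    exact hdvd
  have hcop : Nat.Coprime s u := by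
    simp [s]
  have hsh : s ∣ h := ((hcop.mul_right hcop).dvd_of_dvd_mul_right hs)
  have hle := Nat.le_of_dvd (by omega) hsh
  have hu1' : u = 1 := by
    by_contra hne
    have : 2 * k ≤ u * k := Nat.mul_le_mul_right k (by omega)
    omega
  have hnh : n = h := by rw [hu, hu1', mul_one]
  refine ⟨hnh.symm, ?_⟩
  rw [hEs, show s = h by simp [s, hu1', hk], hnh, sq]

lemma elation_transitive (ht : TwoTrans P L) {C : P} {l m : L} (hC : C ∈ l) (hCm : C ∈ m)
    (hml : m ≠ l) {x y : P} (hx : x ∈ m) (hxC : x ≠ C) (hy : y ∈ m) (hyC : y ≠ C) :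
    ∃ g ∈ perspGroup C l, g • x = y := by
  refine transitive_of_semireg (perspGroup C l) ({z : P | z ∈ m} \ {C}) ?_ ?_ ?_ ⟨hx, hxC⟩ ⟨hy, hyC⟩
  · rintro g hg z ⟨hz, hzC⟩
    exact ⟨centre_mem_line hg.2 hCm hz,
      fun e => hzC (smul_left_cancel g ((show g • z = C from e).trans (centre_fixed hg.2).symm))⟩
  · rintro g hg z ⟨hz, hzC⟩ e
    exact el_semireg (perspGroup_le_elGroup hC hg)
      (fun e' => hzC (point_unique hml hz e' hCm hC)) e
  · rw [(card_elations ht hC).1,
      Set.ncard_sdiff_singleton_of_mem (show C ∈ {z : P | z ∈ m} from hCm), card_on]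
    omega

lemma translation_transitive (ht : TwoTrans P L) {l : L} {x y : P} (hx : x ∉ l) (hy : y ∉ l) :
    ∃ g ∈ elGroup (P := P) l, g • x = y := by
  obtain ⟨C, hC, -⟩ := exists_point (P := P) l l
  refine transitive_of_semireg (elGroup (P := P) l) {z : P | z ∉ l} ?_ ?_ ?_ hx hy
  · intro g hg z hz e
    exact hz ((mem_of_fix g (axis_fixed (elGroup_le_axisGroup l hg))).1 e)
  · intro g hg z hz e
    exact el_semireg hg hz e
  · rw [(card_elations ht hC).2, card_off]

lemma translation_comm (ht : TwoTrans P L) {l : L} {e f : Coll P L}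
    (he : e ∈ elGroup (P := P) l) (hf : f ∈ elGroup (P := P) l) : e * f = f * e := by
  obtain ⟨Z, hZ, -⟩ := exists_point (P := P) l l
  obtain ⟨W, hW, hWZ, -⟩ := exists_on_ne l Z Z
  have key : ∀ X : P, X ∈ l → ∃ x ∈ perspGroup X l, x ≠ (1 : Coll P L) := by
    intro X hX
    haveI : Nontrivial (perspGroup X l) := Finite.one_lt_card_iff_nontrivial.1
      (by rw [(card_elations ht hX).1]; exact ProjectivePlane.one_lt_order P L)
    obtain ⟨x, hx⟩ := exists_ne (1 : perspGroup X l)
    exact ⟨x.1, x.2, fun e' => hx (Subtype.ext e')⟩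
  obtain ⟨x, hx, hx1⟩ := key Z hZ
  obtain ⟨y, hy, hy1⟩ := key W hW
  exact el_comm hZ hW hWZ.symm hx hy hx1 hy1 he hf

end Cfsg.Lib.OW
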