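import Cfsg.Agent.OstromWagner.Subplane

/-!
# Planes of odd order with enough involutory homologies have prime power order
-/

set_option autoImplicit false
set_option linter.style.haveILetI false
set_option linter.unusedSectionVars false

namespace Cfsg.Lib.OW

open Configuration MulAction

universe u v

variable {P : Type u} {L : Type v} [Membership P L]

/-- an involutory perspectivity with given centre and axis -/
structure InvHom (h : Coll P L) (C : P) (a : L) : Prop where
  sq : h * h = 1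
  ne : h ≠ 1
  mem : h ∈ perspGroup C a

lemma InvHom.dual {h : Coll P L} {C : P} {a : L} (hh : InvHom h C a) :
    InvHom (P := Dual L) (L := Dual P) (dualEquiv h) a C :=
  ⟨(map_mul dualEquiv h h).symm.trans ((congrArg dualEquiv hh.sq).trans (map_one dualEquiv)),
    fun e => hh.ne (dualEquiv.injective (e.trans (map_one dualEquiv).symm)),
    (mem_perspGroup_dual (g := h) (C := C) (a := a)).2 hh.mem⟩

lemma InvHom.conj {h : Coll P L} {C : P} {a : L} (hh : InvHom h C a) (g : Coll P L) :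
    InvHom (g * h * g⁻¹) (g • C) (g • a) :=
  ⟨by rw [show g * h * g⁻¹ * (g * h * g⁻¹) = g * (h * h) * g⁻¹ by group, hh.sq]; group,
    fun e => hh.ne (conj_eq_one_iff.1 e), conj_perspGroup hh.mem⟩

lemma InvHom.inv_eq {h : Coll P L} {C : P} {a : L} (hh : InvHom h C a) : h⁻¹ = h :=
  inv_eq_of_mul_eq_one_right hh.sq

variable [ProjectivePlane P L] [Finite P] [Finite L]

lemma InvHom.notMem {h : Coll P L} {C : P} {a : L} (hh : InvHom h C a)
    (hk : Odd (ProjectivePlane.order P L)) : C ∉ a :=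
  fun e => Nat.not_even_iff_odd.2 hk (even_order_of_invol_elation hh.sq hh.ne hh.mem e)

lemma axis_fix_mem_persp {g : Coll P L} {l : L} (hg : g ∈ axisGroup l) {X : P} (hX : X ∉ l)
    (h : g • X = X) : g ∈ perspGroup X l := by
  by_cases h1 : g = 1
  · rw [h1]; exact one_mem _
  obtain ⟨D, hD⟩ := exists_centre hg
  rcases (persp_fixed_iff ⟨hg, hD⟩ h1).1 h with e | e
  · exact absurd e hX
  · exact e ▸ ⟨hg, hD⟩

lemma odd_involutions {G : Type*} [Group G] [Finite G] (K : Subgroup G) {h : G} (hK : h ∈ K)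
    (hsq : h * h = 1) (h1 : h ≠ 1) : Odd {x : G | x ∈ K ∧ x * x = 1 ∧ x ≠ 1}.ncard := by
  haveI : Fact (Nat.Prime 2) := ⟨Nat.prime_two⟩
  have hev : 2 ∣ (K : Set G).ncard := by
    have ho : orderOf (⟨h, hK⟩ : K) = 2 := orderOf_eq_prime (by
      rw [pow_two]; exact Subtype.ext hsq) (fun e => h1 (congrArg Subtype.val e))
    rw [← Nat.card_coe_set_eq, ← ho]
    exact orderOf_dvd_natCard _
  have hrest : Even {x : G | x ∈ K ∧ x * x ≠ 1}.ncard := by
    refine even_ncard_of_involutive _ (·⁻¹) ?_ (fun x _ => inv_inv x) ?_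
    · rintro x ⟨hx, hx'⟩
      exact ⟨inv_mem hx, fun e => hx' (by rw [← mul_inv_rev] at e; exact inv_eq_one.1 e)⟩
    · rintro x ⟨-, hx'⟩ e
      exact hx' (mul_eq_one_iff_eq_inv.2 e.symm)
  have hsplit : (K : Set G).ncard = {x : G | x ∈ K ∧ x * x ≠ 1}.ncard +
      ({x : G | x ∈ K ∧ x * x = 1 ∧ x ≠ 1}.ncard + 1) := by
    rw [← Set.ncard_inter_add_ncard_sdiff_eq_ncard (K : Set G) {x : G | x * x ≠ 1} (Set.toFinite _)]
    congr 1
    · rw [← Set.ncard_insert_of_notMem (s := {x : G | x ∈ K ∧ x * x = 1 ∧ x ≠ 1}) (a := (1 : G))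
        (fun e => e.2.2 rfl) (Set.toFinite _)]
      congr 1
      ext x
      simp only [Set.mem_sdiff, SetLike.mem_coe, Set.mem_ofPred_eq, not_not, Set.mem_insert_iff]
      by_cases hx : x = 1
      · simp [hx]
      · simp [hx]
  rw [Nat.odd_iff]
  have := Nat.even_iff.1 hrest
  have := Nat.mod_eq_zero_of_dvd hev
  omega

section Lemmas

variable (hk : Odd (ProjectivePlane.order P L))
include hk

/-- every line is an axis -/
lemma every_line_axis (hpt : ∀ X Y : P, X ≠ Y → ∃ (h : Coll P L) (C : P) (a : L),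
    InvHom h C a ∧ h • X = X ∧ h • Y = Y) (l : L) : ∃ (h : Coll P L) (C : P), InvHom h C l := by
  by_contra hl
  push Not at hl
  have pair : ∀ X Y : P, X ∈ l → Y ∈ l → X ≠ Y → ∃ (h : Coll P L) (C : P) (a : L), InvHom h C a ∧
      h • l = l ∧ h • X = X ∧ h • Y = Y ∧ (∀ z : P, z ∈ l → h • z = z → z = X ∨ z = Y) ∧
      ((C = X ∧ Y ∈ a) ∨ (C = Y ∧ X ∈ a)) := by
    intro X Y hX hY hne
    obtain ⟨h, C, a, hh, hhX, hhY⟩ := hpt X Y hne
    have hal : a ≠ l := fun e => hl h C (e ▸ hh)
    refine ⟨h, C, a, hh, fix_line_of_two h hne hX hY hhX hhY, hhX, hhY, ?_⟩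
    rcases (persp_fixed_iff hh.mem hh.ne).1 hhX with hXa | hXC
    · rcases (persp_fixed_iff hh.mem hh.ne).1 hhY with hYa | hYC
      · exact absurd (line_unique hne hXa hYa hX hY) hal
      · refine ⟨fun z hz hzf => ?_, Or.inr ⟨hYC.symm, hXa⟩⟩
        rcases (persp_fixed_iff hh.mem hh.ne).1 hzf with e | e
        · exact Or.inl (point_unique hal e hz hXa hX)
        · exact Or.inr (e.trans hYC.symm)
    · rcases (persp_fixed_iff hh.mem hh.ne).1 hhY with hYa | hYC
      · refine ⟨fun z hz hzf => ?_, Or.inl ⟨hXC.symm, hYa⟩⟩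
        rcases (persp_fixed_iff hh.mem hh.ne).1 hzf with e | e
        · exact Or.inr (point_unique hal e hz hYa hY)
        · exact Or.inl (e.trans hXC.symm)
      · exact absurd (hXC.trans hYC.symm) hne
  have trans1 : ∀ X B B' : P, X ∈ l → B ∈ l → B' ∈ l → B ≠ X → B' ≠ X →
      ∃ g : Coll P L, g • l = l ∧ g • X = X ∧ g • B = B' := by
    intro X B B' hX hB hB' hBX hB'X
    by_contra hno
    push Not at hno
    set H := stabilizer (Coll P L) l ⊓ stabilizer (Coll P L) X
    have hO : ∀ y ∈ orbit H B, y ∈ l ∧ y ≠ X := by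
      rintro _ ⟨⟨g, hgl, hgX⟩, rfl⟩
      exact ⟨(mem_of_fix g hgl).2 hB,
        fun e => hBX (smul_left_cancel g ((show g • B = X from e).trans (hgX : g • X = X).symm))⟩
    have hodd : Odd (orbit H B).ncard := by
      obtain ⟨h, C, a, hh, hhl, hhX, hhB, huniq, -⟩ := pair X B hX hB hBX.symm
      refine odd_ncard_of_one_fixed _ (h • ·) ?_ (fun y _ => invol_smul_smul hh.sq y) B
        (mem_orbit_self _) hhB (fun y hy e => ((huniq y (hO y hy).1 e).resolve_left (hO y hy).2))
      rintro _ ⟨g, rfl⟩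
      exact ⟨⟨h, hhl, hhX⟩ * g, mul_smul (⟨h, hhl, hhX⟩ : H) g B⟩
    obtain ⟨h, C, a, hh, hhl, hhX, hhB', huniq, -⟩ := pair X B' hX hB' hB'X.symm
    refine Nat.not_even_iff_odd.2 hodd (even_ncard_of_involutive _ (h • ·) ?_
      (fun y _ => invol_smul_smul hh.sq y) ?_)
    · rintro _ ⟨g, rfl⟩
      exact ⟨⟨h, hhl, hhX⟩ * g, mul_smul (⟨h, hhl, hhX⟩ : H) g B⟩
    · intro y hy e
      rcases huniq y (hO y hy).1 e with e' | e'
      · exact (hO y hy).2 e'
      · obtain ⟨⟨g, hgl, hgX⟩, rfl⟩ := hy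
        exact hno g hgl hgX e'
  have trans2 : ∀ X₀ Y₀ X Y : P, X₀ ∈ l → Y₀ ∈ l → X ∈ l → Y ∈ l → X₀ ≠ Y₀ → X ≠ Y →
      ∃ g : Coll P L, g • l = l ∧ g • X₀ = X ∧ g • Y₀ = Y := by
    intro X₀ Y₀ X Y hX₀ hY₀ hX hY h₀ hne
    obtain ⟨W, hW, hW₀, hWX⟩ := exists_on_ne l X₀ X
    obtain ⟨g, hgl, -, hgX⟩ := trans1 W X₀ X hW hX₀ hX hW₀.symm hWX.symm
    obtain ⟨k, hkl, hkX, hkY⟩ := trans1 X (g • Y₀) Y hX ((mem_of_fix g hgl).2 hY₀) hY
      (fun e => h₀ (smul_left_cancel g (hgX.trans e.symm))) hne.symm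
    exact ⟨k * g, by rw [mul_smul, hgl, hkl], by rw [mul_smul, hgX, hkX], by rw [mul_smul, hkY]⟩
  obtain ⟨X₁, hX₁, -⟩ := exists_point (P := P) l l
  obtain ⟨Y₁, hY₁, hY₁', -⟩ := exists_on_ne l X₁ X₁
  have homs : ∀ X Y : P, X ∈ l → Y ∈ l → X ≠ Y →
      ∃ (h : Coll P L) (a : L), InvHom h X a ∧ Y ∈ a := by
    obtain ⟨C₀, Y₀, h, a, hC₀, hY₀, hne₀, hh, hYa⟩ : ∃ (C₀ Y₀ : P) (h : Coll P L) (a : L),
        C₀ ∈ l ∧ Y₀ ∈ l ∧ C₀ ≠ Y₀ ∧ InvHom h C₀ a ∧ Y₀ ∈ a := by
      obtain ⟨h, C, a, hh, -, -, -, -, ⟨rfl, e⟩ | ⟨rfl, e⟩⟩ := pair X₁ Y₁ hX₁ hY₁ hY₁'.symm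
      · exact ⟨C, Y₁, h, a, hX₁, hY₁, hY₁'.symm, hh, e⟩
      · exact ⟨C, X₁, h, a, hY₁, hX₁, hY₁', hh, e⟩
    intro X Y hX hY hne
    obtain ⟨g, -, rfl, rfl⟩ := trans2 C₀ Y₀ X Y hC₀ hY₀ hX hY hne₀ hne
    exact ⟨_, _, hh.conj g, (smul_mem_smul g).2 hYa⟩
  set X := X₁
  set Y := Y₁
  obtain ⟨h, a, hh, hYa⟩ := homs X Y hX₁ hY₁ hY₁'.symm
  obtain ⟨h', b, hh', hXb⟩ := homs Y X hY₁ hX₁ hY₁'
  have hXa := hh.notMem hk
  have hYb := hh'.notMem hk
  have hab : a ≠ b := fun e => hXa (e ▸ hXb)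
  have h'X : h' • X = X := hh'.mem.1 X hXb
  have h'a : h' • a = a := hh'.mem.2 a hYa
  set Inv := {x : Coll P L | x ∈ perspGroup X a ∧ x * x = 1 ∧ x ≠ 1}
  obtain ⟨h₀, ⟨h₀m, h₀sq, h₀ne⟩, h₀c⟩ : ∃ x ∈ Inv, h' * x * h'⁻¹ = x := by
    refine exists_fixed_of_odd Inv (fun x => h' * x * h'⁻¹) ?_ ?_
      (odd_involutions _ hh.mem hh.sq hh.ne)
    · rintro x ⟨hx, hxsq, hx1⟩
      refine ⟨?_, ?_, fun e => hx1 (conj_eq_one_iff.1 e)⟩
      · have := conj_perspGroup (h := h') hx
        rwa [h'X, h'a] at this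
      · rw [show h' * x * h'⁻¹ * (h' * x * h'⁻¹) = h' * (x * x) * h'⁻¹ by group, hxsq]; group
    · intro x _
      rw [hh'.inv_eq]
      calc h' * (h' * x * h') * h' = (h' * h') * x * (h' * h') := by simp only [mul_assoc]
        _ = x := by rw [hh'.sq, one_mul, mul_one]
  have hcomm : h' * h₀ = h₀ * h' := mul_inv_eq_iff_eq_mul.1 h₀c
  set g := h₀ * h'
  have hgg : g * g = 1 := by
    calc g * g = h₀ * (h' * h₀) * h' := by simp only [g, mul_assoc]
      _ = (h₀ * h₀) * (h' * h') := by rw [hcomm]; simp only [g, mul_assoc]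
      _ = 1 := by rw [h₀sq, hh'.sq, one_mul]
  have hg1 : g ≠ 1 := fun e => by
    have e' : h₀ = h' := (eq_inv_of_mul_eq_one_left e).trans hh'.inv_eq
    exact hY₁' (persp_unique (e' ▸ h₀m) hh'.mem hh'.ne).1.symm
  obtain ⟨W, hWa, hWb⟩ := exists_point (P := P) a b
  have hWX : W ≠ X := fun e => hXa (e ▸ hWa)
  have hWY : W ≠ Y := fun e => hYb (e ▸ hWb)
  have hona : ∀ z : P, z ∈ a → g • z = z → z = Y ∨ z = W := by
    intro z hz e
    rw [mul_smul, h₀m.1 _ ((mem_of_fix h' h'a).2 hz)] at e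
    rcases (persp_fixed_iff hh'.mem hh'.ne).1 e with e' | e'
    · exact Or.inr (point_unique hab hz e' hWa hWb)
    · exact Or.inl e'
  have honb : ∀ z : P, z ∈ b → g • z = z → z = X ∨ z = W := by
    intro z hz e
    rw [mul_smul, hh'.mem.1 z hz] at e
    rcases (persp_fixed_iff h₀m h₀ne).1 e with e' | e'
    · exact Or.inr (point_unique hab e' hz hWa hWb)
    · exact Or.inl e'
  have hgX : g • X = X := by rw [mul_smul, h'X, centre_fixed h₀m.2]
  have hgY : g • Y = Y := by rw [mul_smul, centre_fixed hh'.mem.2, h₀m.1 Y hYa]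
  have hgW : g • W = W := by rw [mul_smul, hh'.mem.1 W hWb, h₀m.1 W hWa]
  have hga : g • a = a := by rw [mul_smul, h'a, axis_fixed h₀m.1]
  have hbig : ∀ {s : Set P} {u w : P}, 2 < s.ncard → (∀ z ∈ s, z = u ∨ z = w) → False := by
    intro s u w hs hsub
    have : s ⊆ {u, w} := fun z hz => by simpa using hsub z hz
    have := (Set.ncard_le_ncard this (Set.toFinite _)).trans (Set.ncard_insert_le _ _)
    rw [Set.ncard_singleton] at this
    omega
  have hn := two_le_order (P := P) (L := L)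
  rcases invol_cases hgg hg1 with ⟨D, c, hc⟩ | hq
  · have hgh : InvHom g D c := ⟨hgg, hg1, hc⟩
    have hcl : c ≠ l := fun e => hl g D (e ▸ hgh)
    have hca : c ≠ a := fun e => hbig (s := {z : P | z ∈ a}) (by rw [card_on]; omega)
      (fun z hz => hona z hz (hc.1 z (e ▸ hz)))
    have hcb : c ≠ b := fun e => hbig (s := {z : P | z ∈ b}) (by rw [card_on]; omega)
      (fun z hz => honb z hz (hc.1 z (e ▸ hz)))
    rcases (persp_fixed_iff hc hg1).1 hgX with hX' | hX'
    · rcases (persp_fixed_iff hc hg1).1 hgY with hY' | hY'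
      · exact hcl (line_unique hY₁'.symm hX' hY' hX₁ hY₁)
      · rcases (persp_fixed_iff hc hg1).1 hgW with hW' | hW'
        · exact hcb (line_unique hWX.symm hX' hW' hXb hWb)
        · exact hWY (hW'.trans hY'.symm)
    · rcases (persp_fixed_iff hc hg1).1 hgY with hY' | hY'
      · rcases (persp_fixed_iff hc hg1).1 hgW with hW' | hW'
        · exact hca (line_unique hWY.symm hY' hW' hYa hWa)
        · exact hWX (hW'.trans hX'.symm)
      · exact hY₁' (hY'.trans hX'.symm)
  · have hq' : HasQuad L (fixP (Subgroup.zpowers g)) := by rw [fixP_zpowers]; exact hq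
    have hgaL : a ∈ fixL (Subgroup.zpowers g) := fun x hx =>
      (Subgroup.zpowers_le.2 (show g ∈ stabilizer (Coll P L) a from hga)) hx
    refine hbig (s := {p : P | p ∈ fixP (Subgroup.zpowers g) ∧ p ∈ a}) ?_
      (fun z hz => hona z hz.2 (hz.1 g (Subgroup.mem_zpowers g)))
    rw [card_fixP_on hq' hgaL]
    have := two_le_fixOrder hq'
    omega

/-- uniqueness of centre and axis is impossible -/
lemma no_polarity (hax : ∀ l : L, ∀ (h h' : Coll P L) (C C' : P),
      InvHom h C l → InvHom h' C' l → C = C')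
    (hce : ∀ C : P, ∀ (h h' : Coll P L) (a a' : L), InvHom h C a → InvHom h' C a' → a = a')
    (hctr : ∀ C : P, ∃ (h : Coll P L) (a : L), InvHom h C a) : False := by
  classical
  haveI := Fintype.ofFinite P
  choose hh pol hpol using hctr
  have hinj : ∀ C D : P, pol C = pol D → C = D :=
    fun C D e => hax _ _ _ C D (hpol C) (e ▸ hpol D)
  have hsymm : ∀ C D : P, D ∈ pol C → C ∈ pol D := by
    intro C D hD
    have h1 : hh C • D = D := (hpol C).mem.1 D hD
    have h2 : InvHom (hh C * hh D * (hh C)⁻¹) D (hh C • pol D) := by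
      have := (hpol D).conj (hh C)
      rwa [h1] at this
    have h3 : hh C • pol D = pol D := hce D _ _ _ _ h2 (hpol D)
    rcases (persp_fixed_line_iff (hpol C).mem (hpol C).ne).1 h3 with e | e
    · exact e
    · exact absurd (hinj D C e ▸ hD) ((hpol C).notMem hk)
  set n := ProjectivePlane.order P L
  have hn := two_le_order (P := P) (L := L)
  obtain ⟨q, hq, hqn⟩ := Nat.exists_prime_and_dvd (n := n) (by omega)
  haveI : Fact q.Prime := ⟨hq⟩
  have hn0 : (n : ZMod q) = 0 := (ZMod.natCast_eq_zero_iff _ _).2 hqn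
  let A : Matrix P P (ZMod q) := Matrix.of fun C D => if D ∈ pol C then 1 else 0
  let J : Matrix P P (ZMod q) := Matrix.of fun _ _ => 1
  have hv : (Fintype.card P : ZMod q) = 1 := by
    rw [← Nat.card_eq_fintype_card, card_P (L := L)]
    simp [show ProjectivePlane.order P L = n from rfl, hn0]
  have hrow : ∀ C, ∑ D, A C D = 1 := fun C => by
    simp only [A, Matrix.of_apply, Finset.sum_boole]
    have : (Finset.univ.filter fun D => D ∈ pol C).card = n + 1 := by
      rw [← card_on (P := P) (pol C), Set.ncard_eq_toFinset_card']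
      congr 1
      ext; simp
    rw [this]; simp [hn0]
  have hsymm' : ∀ C D, A C D = A D C := fun C D => by
    simp only [A, Matrix.of_apply]
    exact if_congr ⟨hsymm C D, hsymm D C⟩ rfl rfl
  have hAA : A * A = J := by
    ext C D
    rw [Matrix.mul_apply]
    simp only [hsymm' _ D]
    simp only [A, J, Matrix.of_apply, ite_mul, one_mul, zero_mul, ← ite_and]
    by_cases hCD : C = D
    · subst hCD
      simp only [and_self]
      simpa [A] using hrow C
    · obtain ⟨z, hz, hz'⟩ := exists_point (P := P) (pol C) (pol D)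
      rw [Finset.sum_eq_single z]
      · simp [hz, hz']
      · intro w _ hw
        exact if_neg fun e => hw (point_unique (fun e' => hCD (hinj C D e')) e.1 e.2 hz hz')
      · simp
  have hAJ : A * J = J := by ext C D; simp [Matrix.mul_apply, J, hrow]
  have hJA : J * A = J := by
    ext C D
    simp only [Matrix.mul_apply, J, Matrix.of_apply, one_mul, hsymm' _ D, hrow]
  have hJJ : J * J = J := by ext C D; simp [Matrix.mul_apply, J, hv]
  have hnil : IsNilpotent (A - J) := by
    refine ⟨2, ?_⟩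
    rw [pow_two, sub_mul, mul_sub, mul_sub, hAA, hAJ, hJA, hJJ]
    abel
  have htr := (Matrix.isNilpotent_trace_of_isNilpotent hnil).eq_zero
  rw [Matrix.trace_sub] at htr
  simp [Matrix.trace, A, J, fun C => (hpol C).notMem hk, hv] at htr

/-- the points off `l` fixed by a nontrivial perspectivity with axis `l` -/
def centreSet (l : L) : Set P := {X | X ∉ l ∧ ∃ g ∈ axisGroup (P := P) l, g ≠ 1 ∧ g • X = X}

omit hk in
lemma count_axis (l : L) {C C' : P} {h h' : Coll P L} (hh : h ∈ perspGroup C l) (h1 : h ≠ 1)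
    (hC : C ∉ l) (hh' : h' ∈ perspGroup C' l) (h'1 : h' ≠ 1) (hne : C ≠ C') :
    centreSet l = orbit (axisGroup (P := P) l) C ∧
      Nat.card (elGroup (P := P) l) = (centreSet (P := P) l).ncard ∧ 1 < (centreSet (P := P) l).ncard := by
  classical
  haveI := Fintype.ofFinite P
  haveI := Fintype.ofFinite (Coll P L)
  set A := axisGroup (P := P) l
  set E := elGroup (P := P) l
  have hstab : ∀ X : P, X ∉ l → Nat.card (stabilizer A X) = Nat.card (perspGroup X l) := fun X hX =>
    Nat.card_congr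
      { toFun := fun g => ⟨g.1.1, axis_fix_mem_persp g.1.2 hX g.2⟩
        invFun := fun g => ⟨⟨g.1, g.2.1⟩, centre_fixed g.2.2⟩
        left_inv := fun _ => rfl
        right_inv := fun _ => rfl }
  have hoff : ∀ X : P, X ∉ l → ∀ y ∈ orbit A X, y ∉ l := by
    rintro X hX _ ⟨⟨g, hg⟩, rfl⟩ e
    exact hX ((mem_of_fix g (axis_fixed hg)).1 e)
  set T : P → Finset (Coll P L) :=
    fun X => Finset.univ.filter fun g => g ∈ perspGroup X l ∧ g ≠ 1
  have hT : ∀ X : P, (T X).card + 1 = Nat.card (perspGroup X l) := by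
    intro X
    rw [← Finset.card_insert_of_notMem (s := T X) (a := (1 : Coll P L)) (by simp [T]),
      Nat.card_eq_fintype_card, Fintype.card_subtype]
    congr 1
    ext g
    by_cases hg : g = 1 <;> simp [T, hg]
  have hsum : ∀ s : Finset P, (∀ X ∈ s, X ∉ l) →
      Nat.card E + ∑ X ∈ s, (T X).card ≤ Nat.card A ∧
      ((∀ X ∈ centreSet (P := P) l, X ∈ s) → Nat.card E + ∑ X ∈ s, (T X).card = Nat.card A) := by
    intro s hs
    have hdis : ∀ X ∈ s, ∀ Y ∈ s, X ≠ Y → Disjoint (T X) (T Y) := by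
      intro X _ Y _ hXY
      rw [Finset.disjoint_left]
      intro g hg hg'
      simp only [T, Finset.mem_filter, Finset.mem_univ, true_and] at hg hg'
      exact hXY (persp_unique hg.1 hg'.1 hg.2).1
    have hEd : Disjoint (Finset.univ.filter fun g => g ∈ E) (s.biUnion T) := by
      rw [Finset.disjoint_left]
      intro g hg hg'
      simp only [T, Finset.mem_filter, Finset.mem_univ, true_and, Finset.mem_biUnion] at hg hg'
      obtain ⟨X, hX, hgX, hg1⟩ := hg'
      exact hg1 (el_semireg hg (hs X hX) (centre_fixed hgX.2))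
    rw [Nat.card_eq_fintype_card, Fintype.card_subtype, ← Finset.card_biUnion hdis,
      ← Finset.card_union_of_disjoint hEd, Nat.card_eq_fintype_card, Fintype.card_subtype]
    have hsub : (Finset.univ.filter fun g => g ∈ E) ∪ s.biUnion T ⊆
        Finset.univ.filter fun g => g ∈ A := by
      intro g hg
      simp only [T, Finset.mem_union, Finset.mem_filter, Finset.mem_univ, true_and,
        Finset.mem_biUnion] at hg ⊢
      rcases hg with hg | ⟨X, -, hg, -⟩
      · exact elGroup_le_axisGroup l hg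
      · exact hg.1
    refine ⟨Finset.card_le_card hsub, fun hall => congrArg _ (Finset.Subset.antisymm hsub ?_)⟩
    intro g hg
    simp only [T, Finset.mem_union, Finset.mem_filter, Finset.mem_univ, true_and,
      Finset.mem_biUnion] at hg ⊢
    by_cases hgE : g ∈ E
    · exact Or.inl hgE
    obtain ⟨X, hX, hXf⟩ : ∃ X : P, X ∉ l ∧ g • X = X := by
      by_contra hc
      push Not at hc
      exact hgE (exists_el_centre hg hc)
    have hg1 : g ≠ 1 := fun e => hgE (e ▸ one_mem E)
    exact Or.inr ⟨X, hall X ⟨hX, g, hg, hg1, hXf⟩, axis_fix_mem_persp hg hX hXf, hg1⟩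
  have horb : ∀ X : P, X ∉ l →
      ∑ Y ∈ (orbit A X).toFinset, (T Y).card + (orbit A X).ncard = Nat.card A := by
    intro X hX
    have : ∀ Y ∈ (orbit A X).toFinset, (T Y).card + 1 = Nat.card (stabilizer A X) := by
      intro Y hY
      rw [Set.mem_toFinset] at hY
      rw [hT, ← hstab Y (hoff X hX Y hY)]
      exact (card_stab_congr hY).symm
    rw [Set.ncard_eq_toFinset_card', Finset.card_eq_sum_ones, ← Finset.sum_add_distrib,
      Finset.sum_congr rfl this, Finset.sum_const, smul_eq_mul, ← Set.ncard_eq_toFinset_card']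
    exact (card_eq_orbit_mul_stab (G := A) X).symm
  have hr2 : ∀ X ∈ centreSet (P := P) l, 2 * (orbit A X).ncard ≤ Nat.card A := by
    rintro X ⟨hX, g, hg, hg1, hgX⟩
    rw [card_eq_orbit_mul_stab (G := A) X, mul_comm]
    refine Nat.mul_le_mul le_rfl ?_
    haveI : Nontrivial (stabilizer A X) := ⟨⟨⟨⟨g, hg⟩, hgX⟩, 1, fun e =>
      hg1 (congrArg (fun t : stabilizer A X => (t.1 : Coll P L)) e)⟩⟩
    exact Finite.one_lt_card
  have hCmem : C ∈ centreSet (P := P) l := ⟨hC, h, hh.1, h1, centre_fixed hh.2⟩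
  have heq : centreSet l = orbit A C := by
    ext X
    constructor
    · intro hX
      by_contra hXO
      have hdis : Disjoint (orbit A C).toFinset (orbit A X).toFinset := by
        rw [Finset.disjoint_left]
        intro y hy hy'
        rw [Set.mem_toFinset] at hy hy'
        exact hXO ((orbit_eq_iff.2 hy).symm.trans (orbit_eq_iff.2 hy') ▸ mem_orbit_self X)
      have h1' := (hsum ((orbit A C).toFinset ∪ (orbit A X).toFinset) (fun y hy => by
        rcases Finset.mem_union.1 hy with e | e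
        · exact hoff C hC y (Set.mem_toFinset.1 e)
        · exact hoff X hX.1 y (Set.mem_toFinset.1 e))).1
      rw [Finset.sum_union hdis] at h1'
      have := horb C hC
      have := horb X hX.1
      have := hr2 C hCmem
      have := hr2 X hX
      have : 0 < Nat.card E := Nat.card_pos
      omega
    · rintro ⟨⟨g, hg⟩, rfl⟩
      refine ⟨hoff C hC _ ⟨⟨g, hg⟩, rfl⟩, g * h * g⁻¹,
        mul_mem (mul_mem hg hh.1) (inv_mem hg), fun e => h1 (conj_eq_one_iff.1 e), ?_⟩
      change (g * h * g⁻¹) • g • C = g • C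
      rw [smul_smul, inv_mul_cancel_right, mul_smul, centre_fixed hh.2]
  refine ⟨heq, ?_, ?_⟩
  · have h1' := (hsum (orbit A C).toFinset (fun y hy => hoff C hC y (Set.mem_toFinset.1 hy))).2
      (fun X hX => Set.mem_toFinset.2 (heq ▸ hX))
    have := horb C hC
    rw [heq]
    omega
  · rw [heq]
    have hmove : h' • C ≠ C := fun e => by
      rcases (persp_fixed_iff hh' h'1).1 e with e' | e'
      · exact hC e'
      · exact hne e'
    have hsub : ({C, h' • C} : Set P) ⊆ orbit A C := by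
      rintro x (rfl | rfl)
      · exact mem_orbit_self _
      · exact ⟨⟨h', hh'.1⟩, rfl⟩
    have := Set.ncard_le_ncard hsub (Set.toFinite _)
    rw [Set.ncard_pair hmove.symm] at this
    omega

/-- the structure of the elations with axis `l`, if it is the axis of two involutory homologies -/
lemma two_centres (hctr : ∀ C : P, ∃ (h : Coll P L) (a : L), InvHom h C a) (l : L) {C C' : P}
    {h h' : Coll P L} (hh : InvHom h C l) (hh' : InvHom h' C' l) (hne : C ≠ C') :
    IsPrimePow (ProjectivePlane.order P L) ∨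
    ∃ (D₀ : P) (m₀ : L), D₀ ∈ l ∧ D₀ ∈ m₀ ∧ m₀ ≠ l ∧ elGroup (P := P) l = perspGroup D₀ l ∧
      1 < Nat.card (elGroup (P := P) l) ∧
      Nat.card (elGroup (P := P) l) = (centreSet (P := P) l).ncard ∧
      (∀ X ∈ centreSet (P := P) l, X ∈ m₀) ∧
      ∀ X : P, X ∈ l → X ≠ D₀ → ∃ k : Coll P L, InvHom k X m₀ := by
  classical
  have hC := hh.notMem hk
  obtain ⟨hΓ, hcardE, hΓ1⟩ := count_axis l hh.mem hh.ne hC hh'.mem hh'.ne hne
  set E := elGroup (P := P) l
  set Γ := centreSet (P := P) l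
  have hCΓ : C ∈ Γ := ⟨hC, h, hh.mem.1, hh.ne, centre_fixed hh.mem.2⟩
  have hinvA : ∀ g ∈ axisGroup (P := P) l, ∀ x ∈ Γ, g • x ∈ Γ := by
    intro g hg x hx
    rw [hΓ] at hx ⊢
    obtain ⟨k, rfl⟩ := hx
    exact ⟨⟨g, hg⟩ * k, mul_smul (⟨g, hg⟩ : axisGroup (P := P) l) k C⟩
  have hodd : Odd (Nat.card E) := by
    rw [hcardE]
    refine odd_ncard_of_one_fixed Γ (h • ·) (hinvA h hh.mem.1) (fun x _ => invol_smul_smul hh.sq x) C
      hCΓ (centre_fixed hh.mem.2) (fun x hx e => ?_)
    exact ((persp_fixed_iff hh.mem hh.ne).1 e).resolve_left hx.1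
  have htrans : ∀ x ∈ Γ, ∀ y ∈ Γ, ∃ g ∈ E, g • x = y := fun x hx y hy =>
    transitive_of_semireg E Γ (fun g hg => hinvA g (elGroup_le_axisGroup l hg))
      (fun g hg z hz e => el_semireg hg hz.1 e) hcardE.ge hx hy
  set q : P → ℕ := fun X => Nat.card (perspGroup X l)
  have decomp : ∀ X : P, X ∈ l → ∃ (Y : P) (k : Coll P L) (a : L) (C₁ : P), Y ∈ l ∧ Y ∈ a ∧ Y ≠ X ∧
      InvHom k X a ∧ C₁ ∈ Γ ∧ C₁ ∈ a ∧ Nat.card E = q Y * q X := by
    intro X hX
    obtain ⟨k, a, hka⟩ := hctr X
    have hXa := hka.notMem hk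
    have hkl : k • l = l := hka.mem.2 l hX
    have hla : a ≠ l := fun e => hXa (e ▸ hX)
    obtain ⟨C₁, hC₁, hC₁f⟩ := exists_fixed_of_odd Γ (k • ·) (by
      rintro x ⟨hx, g, hg, hg1, hgx⟩
      refine ⟨fun e => hx ((mem_of_fix k hkl).1 e), k * g * k⁻¹, ?_,
        fun e => hg1 (conj_eq_one_iff.1 e), ?_⟩
      · have := conj_axisGroup (h := k) hg
        rwa [hkl] at this
      · rw [smul_smul, inv_mul_cancel_right, mul_smul, hgx]) (fun x _ => invol_smul_smul hka.sq x)
      (hcardE ▸ hodd)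
    have hC₁a : C₁ ∈ a := ((persp_fixed_iff hka.mem hka.ne).1 hC₁f).resolve_right
      (fun e => hC₁.1 (e ▸ hX))
    obtain ⟨Y, hYa, hYl⟩ := exists_point (P := P) a l
    have hYX : Y ≠ X := fun e => hXa (e ▸ hYa)
    have hC₁Y : C₁ ≠ Y := fun e => hC₁.1 (e ▸ hYl)
    refine ⟨Y, k, a, C₁, hYl, hYa, hYX, hka, hC₁, hC₁a, ?_⟩
    have hcent : ∀ Z : P, Z ∈ l → k • Z = Z → Z = Y ∨ Z = X := fun Z hZ e =>
      ((persp_fixed_iff hka.mem hka.ne).1 e).imp (fun e' => point_unique hla e' hZ hYa hYl) id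
    have hY' : ∀ e : Coll P L, e ∈ perspGroup Y l → k * e * k⁻¹ = e := by
      intro e he
      refine persp_ext ?_ he hC₁.1 hC₁Y ?_
      · have := conj_perspGroup (h := k) he
        rwa [hka.mem.1 Y hYa, hkl] at this
      · have h2 : e • C₁ ∈ a := centre_mem_line he.2 hYa hC₁a
        rw [mul_smul, mul_smul, hka.inv_eq]
        rw [show k • C₁ = C₁ from hC₁f, hka.mem.1 _ h2]
    have hfixE : ∀ e ∈ E, k * e * k⁻¹ = e → e ∈ perspGroup Y l := by
      rintro e ⟨Z, hZ, he⟩ hc
      by_cases he1 : e = 1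
      · rw [he1]; exact one_mem _
      have hkZ : k • Z = Z := by
        have := conj_perspGroup (h := k) he
        rw [hc] at this
        exact (persp_unique this he he1).1
      rcases hcent Z hZ hkZ with rfl | rfl
      · exact he
      · exfalso
        have h2 : e * k * e⁻¹ = k := by
          rw [mul_inv_eq_iff_eq_mul]; exact (mul_inv_eq_iff_eq_mul.1 hc).symm
        have h3 := conj_perspGroup (h := e) hka.mem
        rw [h2] at h3
        rcases (persp_fixed_line_iff he he1).1 (persp_unique h3 hka.mem hka.ne).2 with e' | e'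
        · exact hXa e'
        · exact hla e'
    have hinvE : ∀ e ∈ E, k * e * k⁻¹ = e⁻¹ → e ∈ perspGroup X l := by
      rintro e ⟨Z, hZ, he⟩ hc
      by_cases he1 : e = 1
      · rw [he1]; exact one_mem _
      have hkZ : k • Z = Z := by
        have := conj_perspGroup (h := k) he
        rw [hc, Subgroup.inv_mem_iff] at this
        exact (persp_unique this he he1).1
      rcases hcent Z hZ hkZ with rfl | rfl
      · exfalso
        have h2 : e ^ 2 = 1 := by
          rw [pow_two]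
          calc e * e = (k * e * k⁻¹) * e := by rw [hY' e he]
            _ = 1 := by rw [hc, inv_mul_cancel]
        have h3 : (⟨e, ⟨Z, hZ, he⟩⟩ : E) ^ Nat.card E = 1 := pow_card_eq_one'
        have h4 : e ^ Nat.card E = 1 := congrArg Subtype.val h3
        obtain ⟨j, hj⟩ := hodd
        rw [hj, pow_succ, pow_mul, h2, one_pow, one_mul] at h4
        exact he1 h4
      · exact he
    have hkE : ∀ e ∈ E, k * e * k⁻¹ ∈ E := fun e he => by
      have := conj_elGroup (h := k) he
      rwa [hkl] at this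
    let f : perspGroup Y l × perspGroup X l → E :=
      fun p => ⟨p.1.1 * p.2.1, mul_mem (perspGroup_le_elGroup hYl p.1.2) (perspGroup_le_elGroup hX p.2.2)⟩
    have hf : Function.Bijective f := by
      constructor
      · rintro ⟨⟨a1, ha1⟩, ⟨b1, hb1⟩⟩ ⟨⟨a2, ha2⟩, ⟨b2, hb2⟩⟩ e
        have e' : a1 * b1 = a2 * b2 := congrArg Subtype.val e
        have e2 : a2⁻¹ * a1 = b2 * b1⁻¹ := by
          rw [inv_mul_eq_iff_eq_mul, ← mul_assoc, ← e', mul_inv_cancel_right]
        have e3 : a2⁻¹ * a1 = 1 := by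
          by_contra hc
          exact hYX (persp_unique (mul_mem (inv_mem ha2) ha1) (e2 ▸ mul_mem hb2 (inv_mem hb1)) hc).1
        obtain rfl : a2 = a1 := inv_mul_eq_one.1 e3
        obtain rfl : b1 = b2 := mul_left_cancel e'
        rfl
      · rintro ⟨x, hx⟩
        obtain ⟨j, hj⟩ := hodd
        set y := x⁻¹ * (k * x * k⁻¹)
        have hy : y ∈ E := mul_mem (inv_mem hx) (hkE x hx)
        set z := y ^ (j + 1)
        have hzz : z * z = y := by
          have h4 : (⟨y, hy⟩ : E) ^ Nat.card E = 1 := pow_card_eq_one'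
          have h5 : y ^ Nat.card E = 1 := congrArg Subtype.val h4
          rw [hj] at h5
          rw [← pow_add, show j + 1 + (j + 1) = 2 * j + 1 + 1 by omega, pow_succ, h5, one_mul]
        have hky : k * y * k⁻¹ = y⁻¹ := by
          have hkk := hka.sq
          calc k * y * k⁻¹ = (k * x * k⁻¹)⁻¹ * ((k * k) * x * (k * k)⁻¹) := by simp only [y]; group
            _ = y⁻¹ := by rw [hkk]; simp [y, mul_assoc]
        have hkz : k * z * k⁻¹ = z⁻¹ := by rw [← conj_pow, hky, inv_pow]
        have hzX : z ∈ perspGroup X l := hinvE z (pow_mem hy _) hkz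
        have hwY : x * z ∈ perspGroup Y l := by
          refine hfixE _ (mul_mem hx (pow_mem hy _)) ?_
          calc k * (x * z) * k⁻¹ = (k * x * k⁻¹) * (k * z * k⁻¹) := by group
            _ = x * (y * z⁻¹) := by rw [hkz]; simp only [y]; group
            _ = x * z := by rw [← hzz, mul_inv_cancel_right]
        exact ⟨(⟨x * z, hwY⟩, ⟨z⁻¹, inv_mem hzX⟩), Subtype.ext (by simp [f])⟩
    rw [← Nat.card_congr (Equiv.ofBijective f hf), Nat.card_prod]
  have hE1 : 1 < Nat.card E := hcardE ▸ hΓ1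
  have hqpos : ∀ X, 0 < q X := fun X => Nat.card_pos
  have hqle : ∀ U W : P, U ∈ l → W ∈ l → U ≠ W → q U * q W ≤ Nat.card E := by
    intro U W hU hW hUW
    rw [← Nat.card_prod]
    refine Nat.card_le_card_of_injective (fun p : perspGroup U l × perspGroup W l =>
      (⟨p.1.1 * p.2.1, mul_mem (perspGroup_le_elGroup hU p.1.2) (perspGroup_le_elGroup hW p.2.2)⟩ : E)) ?_
    rintro ⟨⟨a1, ha1⟩, ⟨b1, hb1⟩⟩ ⟨⟨a2, ha2⟩, ⟨b2, hb2⟩⟩ e
    have e' : a1 * b1 = a2 * b2 := congrArg Subtype.val e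
    have e2 : a2⁻¹ * a1 = b2 * b1⁻¹ := by
      rw [inv_mul_eq_iff_eq_mul, ← mul_assoc, ← e', mul_inv_cancel_right]
    have e3 : a2⁻¹ * a1 = 1 := by
      by_contra hc
      exact hUW (persp_unique (mul_mem (inv_mem ha2) ha1) (e2 ▸ mul_mem hb2 (inv_mem hb1)) hc).1
    obtain rfl : a2 = a1 := inv_mul_eq_one.1 e3
    obtain rfl : b1 = b2 := mul_left_cancel e'
    rfl
  have nontriv : ∀ X : P, 1 < q X → ∃ x ∈ perspGroup X l, x ≠ (1 : Coll P L) := fun X hX => by
    haveI := Finite.one_lt_card_iff_nontrivial.1 hX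
    obtain ⟨x, hx⟩ := exists_ne (1 : perspGroup X l)
    exact ⟨x.1, x.2, fun e => hx (Subtype.ext e)⟩
  by_cases hmulti : ∃ Z W : P, Z ∈ l ∧ W ∈ l ∧ Z ≠ W ∧ 1 < q Z ∧ 1 < q W
  · left
    obtain ⟨Z, W, hZ, hW, hZW, hqZ, hqW⟩ := hmulti
    obtain ⟨x, hx, hx1⟩ := nontriv Z hqZ
    obtain ⟨y, hy, hy1⟩ := nontriv W hqW
    obtain ⟨p, hp, hexp⟩ := el_exponent hZ hW hZW hx hy hx1 hy1
    haveI : Fact p.Prime := ⟨hp⟩
    have hqp : ∀ X : P, X ∈ l → ∃ i, q X = p ^ i := fun X hX => by
      refine IsPGroup.iff_card.1 (fun g => ⟨1, Subtype.ext ?_⟩)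
      simpa using hexp g.1 (perspGroup_le_elGroup hX g.2)
    suffices hex : ∃ U, U ∈ l ∧ q U = ProjectivePlane.order P L by
      obtain ⟨U, hU, e⟩ := hex
      obtain ⟨i, hi⟩ := hqp U hU
      have hn := two_le_order (P := P) (L := L)
      rw [← e, hi] at hn ⊢
      refine ⟨p, i, Nat.prime_iff.1 hp, Nat.pos_of_ne_zero fun h0 => ?_, rfl⟩
      rw [h0, pow_zero] at hn; omega
    have hq2 : ∀ X : P, X ∈ l → 1 < q X := by
      intro X hX
      by_contra hc
      obtain ⟨Y, -, -, -, hY, -, -, -, -, -, hEq⟩ := decomp X hX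
      have hX1 : q X = 1 := by have := hqpos X; omega
      rw [hX1, mul_one] at hEq
      have : ∀ V : P, V ∈ l → 1 < q V → V = Y := fun V hV hV2 => by
        by_contra hVY
        have := hqle V Y hV hY hVY
        rw [← hEq] at this
        nlinarith
      exact hZW ((this Z hZ hqZ).trans (this W hW hqW).symm)
    haveI := Fintype.ofFinite P
    haveI := Fintype.ofFinite (Coll P L)
    have hsumq : ∑ X ∈ Finset.univ.filter (fun X : P => X ∈ l), (q X - 1) + 1 = Nat.card E := by
      have hq1 : ∀ X : P, q X - 1 =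
          (Finset.univ.filter fun g : Coll P L => g ∈ perspGroup X l ∧ g ≠ 1).card := by
        intro X
        have hins : (insert (1 : Coll P L) (Finset.univ.filter fun g : Coll P L =>
            g ∈ perspGroup X l ∧ g ≠ 1)).card = q X := by
          simp only [q, Nat.card_eq_fintype_card, Fintype.card_subtype]
          congr 1
          ext g
          by_cases hg : g = 1 <;> simp [hg]
        rw [Finset.card_insert_of_notMem (by simp)] at hins
        omega
      rw [Finset.sum_congr rfl (fun X _ => hq1 X), ← Finset.card_biUnion (fun X hX Y hY hXY => by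
          rw [Function.onFun, Finset.disjoint_left]
          intro g hg hg'
          simp only [Finset.mem_filter, Finset.mem_univ, true_and] at hg hg'
          exact hXY (persp_unique hg.1 hg'.1 hg.2).1),
        ← Finset.card_insert_of_notMem (a := (1 : Coll P L)) (by simp),
        Nat.card_eq_fintype_card, Fintype.card_subtype]
      congr 1
      ext g
      simp only [Finset.mem_insert, Finset.mem_biUnion, Finset.mem_filter, Finset.mem_univ, true_and]
      constructor
      · rintro (rfl | ⟨X, hX, hg, -⟩)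
        · exact one_mem _
        · exact perspGroup_le_elGroup hX hg
      · intro hgE
        by_cases hg : g = 1
        · exact Or.inl hg
        · obtain ⟨X, hX, hgX⟩ := hgE
          exact Or.inr ⟨X, hX, hgX, hg⟩
    have hcardl : (Finset.univ.filter fun X : P => X ∈ l).card = ProjectivePlane.order P L + 1 := by
      rw [← card_on (P := P) l, Set.ncard_eq_toFinset_card']
      congr 1
      ext; simp
    by_cases hbig : ∃ U, U ∈ l ∧ Nat.card E < q U * q U
    · obtain ⟨U, hU, hUbig⟩ := hbig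
      refine ⟨U, hU, ?_⟩
      have hother : ∀ X : P, X ∈ l → X ≠ U → q X * q U = Nat.card E := by
        intro X hX hXU
        obtain ⟨Y, -, -, -, hY, -, hYX, -, -, -, hEq⟩ := decomp X hX
        by_cases hYU : Y = U
        · subst hYU; rw [hEq, mul_comm]
        · exfalso
          have h1 := hqle X U hX hU hXU
          have h2 := hqle Y U hY hU hYU
          have : (q X * q U) * (q Y * q U) ≤ Nat.card E * Nat.card E := Nat.mul_le_mul h1 h2
          nlinarith
      obtain ⟨V, hV, hVU, -⟩ := exists_on_ne l U U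
      have hb := hother V hV hVU
      have hall : ∀ X ∈ (Finset.univ.filter fun X : P => X ∈ l).erase U, q X - 1 = q V - 1 := by
        intro X hX
        simp only [Finset.mem_erase, Finset.mem_filter, Finset.mem_univ, true_and] at hX
        rw [Nat.eq_of_mul_eq_mul_right (hqpos U) ((hother X hX.2 hX.1).trans hb.symm)]
      rw [← Finset.add_sum_erase _ _ (show U ∈ Finset.univ.filter (fun X : P => X ∈ l) by simp [hU]),
        Finset.sum_congr rfl hall, Finset.sum_const,
        Finset.card_erase_of_mem (by simp [hU]), hcardl, smul_eq_mul, ← hb] at hsumq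
      obtain ⟨b, hbb⟩ : ∃ b, q V = b + 2 := ⟨q V - 2, by have := hq2 V hV; omega⟩
      obtain ⟨c, hcc⟩ : ∃ c, q U = c + 1 := ⟨q U - 1, by have := hqpos U; omega⟩
      rw [hbb, hcc] at hsumq
      simp only [Nat.add_sub_cancel, show b + 2 - 1 = b + 1 from rfl] at hsumq
      rw [hcc]
      refine Nat.eq_of_mul_eq_mul_right (show 0 < b + 1 by omega) ?_
      nlinarith
    · push Not at hbig
      have hall : ∀ X : P, X ∈ l → q X * q X = Nat.card E := by
        intro X hX
        obtain ⟨Y, -, -, -, hY, -, -, -, -, -, hEq⟩ := decomp X hX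
        refine le_antisymm (hbig X hX) ?_
        have := hbig Y hY
        have := hqpos X
        nlinarith
      obtain ⟨U, hU, -⟩ := exists_point (P := P) l l
      refine ⟨U, hU, ?_⟩
      have heq : ∀ X ∈ Finset.univ.filter (fun X : P => X ∈ l), q X - 1 = q U - 1 := by
        intro X hX
        simp only [Finset.mem_filter, Finset.mem_univ, true_and] at hX
        rw [Nat.mul_self_inj.1 ((hall X hX).trans (hall U hU).symm)]
      rw [Finset.sum_congr rfl heq, Finset.sum_const, hcardl, smul_eq_mul, ← hall U hU] at hsumq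
      obtain ⟨b, hbb⟩ : ∃ b, q U = b + 2 := ⟨q U - 2, by have := hq2 U hU; omega⟩
      rw [hbb, show b + 2 - 1 = b + 1 from rfl] at hsumq
      rw [hbb]
      refine Nat.eq_of_mul_eq_mul_right (show 0 < b + 1 by omega) ?_
      nlinarith
  · right
    push Not at hmulti
    obtain ⟨D₀, hD₀, hqD⟩ : ∃ D₀, D₀ ∈ l ∧ 1 < q D₀ := by
      by_contra hc
      push Not at hc
      obtain ⟨X, hX, -⟩ := exists_point (P := P) l l
      obtain ⟨Y, -, -, -, hY, -, -, -, -, -, hEq⟩ := decomp X hX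
      rw [hEq] at hE1
      have := hc X hX
      have := hc Y hY
      nlinarith
    have honly : ∀ X : P, X ∈ l → X ≠ D₀ → q X = 1 := fun X hX hne => by
      have := hmulti D₀ X hD₀ hX hne.symm hqD
      have := hqpos X
      omega
    have hEeq : E = perspGroup D₀ l := by
      refine le_antisymm ?_ (perspGroup_le_elGroup hD₀)
      rintro g ⟨X, hX, hg⟩
      by_cases hg1 : g = 1
      · rw [hg1]; exact one_mem _
      by_cases hXD : X = D₀
      · exact hXD ▸ hg
      · haveI : Subsingleton (perspGroup X l) :=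
          (Nat.card_eq_one_iff_unique.1 (honly X hX hXD)).1
        exact absurd (congrArg Subtype.val (Subsingleton.elim (⟨g, hg⟩ : perspGroup X l) 1)) hg1
    obtain ⟨m₀, hm₀D, hm₀C⟩ := exists_line (L := L) D₀ C
    have hm₀l : m₀ ≠ l := fun e => hC (e ▸ hm₀C)
    have hΓm : ∀ X ∈ Γ, X ∈ m₀ := by
      intro X hX
      obtain ⟨g, hg, rfl⟩ := htrans C hCΓ X hX
      rw [hEeq] at hg
      exact centre_mem_line hg.2 hm₀D hm₀C
    refine ⟨D₀, m₀, hD₀, hm₀D, hm₀l, hEeq, hE1, hcardE, hΓm, fun X hX hXD => ?_⟩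
    obtain ⟨Y, k, a, C₁, hY, hYa, hYX, hka, hC₁, hC₁a, hEq⟩ := decomp X hX
    rw [honly X hX hXD, mul_one] at hEq
    have hYD : Y = D₀ := by
      by_contra hne'
      have := honly Y hY hne'
      omega
    subst hYD
    have : a = m₀ := line_unique (fun e => hC₁.1 (e ▸ hY) : C₁ ≠ Y) hC₁a hYa (hΓm C₁ hC₁) hm₀D
    exact ⟨k, this ▸ hka⟩

/-- a line carrying two centres forces prime power order -/
lemma prime_pow_of_two_centres (hctr : ∀ C : P, ∃ (h : Coll P L) (a : L), InvHom h C a) (l : L)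
    {C C' : P} {h h' : Coll P L} (hh : InvHom h C l) (hh' : InvHom h' C' l) (hne : C ≠ C') :
    IsPrimePow (ProjectivePlane.order P L) := by
  rcases two_centres hk hctr l hh hh' hne with r | ⟨D, m, hDl, hDm, hml, hEl, hE1, -, -, hm⟩
  · exact r
  obtain ⟨X, hX, hXD, -⟩ := exists_on_ne l D D
  obtain ⟨X', hX', hX'D, hX'X⟩ := exists_on_ne l D X
  obtain ⟨k, hkX⟩ := hm X hX hXD
  obtain ⟨k', hkX'⟩ := hm X' hX' hX'D
  rcases two_centres hk hctr m hkX hkX' hX'X.symm with
    r | ⟨D', m', hD'm, hD'm', -, hEm, hEm1, hcard, hΓ, -⟩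
  · exact r
  have hΓl : ∀ Z : P, Z ∈ l → Z ≠ D → Z ∈ centreSet (P := P) m := by
    intro Z hZ hZD
    obtain ⟨j, hj⟩ := hm Z hZ hZD
    exact ⟨hj.notMem hk, j, hj.mem.1, hj.ne, centre_fixed hj.mem.2⟩
  have hm'l : m' = l := line_unique hX'X.symm (hΓ X (hΓl X hX hXD)) (hΓ X' (hΓl X' hX' hX'D)) hX hX'
  subst hm'l
  have hD' : D' = D := point_unique hml hD'm hD'm' hDm hDl
  subst hD'
  have hn : Nat.card (elGroup (P := P) m) = ProjectivePlane.order P L := by
    rw [hcard]
    have : centreSet (P := P) m = {Z : P | Z ∈ m'} \ {D'} := by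
      ext Z
      exact ⟨fun hZ => ⟨hΓ Z hZ, fun e => hZ.1 (by rw [show Z = D' from e]; exact hDm)⟩,
        fun hZ => hΓl Z hZ.1 hZ.2⟩
    rw [this, Set.ncard_sdiff_singleton_of_mem (show D' ∈ {Z : P | Z ∈ m'} from hDl), card_on]
    rfl
  obtain ⟨x, hx, hx1⟩ : ∃ x ∈ perspGroup D' m', x ≠ (1 : Coll P L) := by
    rw [hEl] at hE1
    haveI := Finite.one_lt_card_iff_nontrivial.1 hE1
    obtain ⟨x, hx⟩ := exists_ne (1 : perspGroup D' m')
    exact ⟨x.1, x.2, fun e => hx (Subtype.ext e)⟩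
  obtain ⟨y, hy, hy1⟩ : ∃ y ∈ perspGroup D' m, y ≠ (1 : Coll P L) := by
    rw [hEm] at hEm1
    haveI := Finite.one_lt_card_iff_nontrivial.1 hEm1
    obtain ⟨x, hx⟩ := exists_ne (1 : perspGroup D' m)
    exact ⟨x.1, x.2, fun e => hx (Subtype.ext e)⟩
  obtain ⟨p, hp, hexp⟩ := el_exponent (P := Dual L) (L := Dual P) (a := D') (Z := m') (W := m) hDl hDm
    hml.symm ((mem_perspGroup_dual (g := x)).2 hx) ((mem_perspGroup_dual (g := y)).2 hy)
    (fun e => hx1 (dualEquiv.injective (e.trans (map_one dualEquiv).symm)))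
    (fun e => hy1 (dualEquiv.injective (e.trans (map_one dualEquiv).symm)))
  haveI : Fact p.Prime := ⟨hp⟩
  have hpg : IsPGroup p (perspGroup D' m) := fun g => ⟨1, by
    have := hexp (dualEquiv g.1) (perspGroup_le_elGroup (P := Dual L) (L := Dual P) hDm
      ((mem_perspGroup_dual (g := g.1)).2 g.2))
    rw [pow_one]
    exact Subtype.ext (dualEquiv.injective ((map_pow dualEquiv g.1 p).trans
      (this.trans (map_one dualEquiv).symm)))⟩
  obtain ⟨i, hi⟩ := IsPGroup.iff_card.1 hpg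
  rw [← hn, hEm, hi]
  have hn2 := two_le_order (P := P) (L := L)
  rw [← hn, hEm, hi] at hn2
  refine ⟨p, i, Nat.prime_iff.1 hp, Nat.pos_of_ne_zero fun h0 => ?_, rfl⟩
  rw [h0, pow_zero] at hn2; omega

/-- A plane of odd order in which every pair of points and every pair of lines is fixed by an
involutory homology has prime power order. -/
theorem prime_pow_of_homologies (hpt : ∀ X Y : P, X ≠ Y → ∃ (h : Coll P L) (C : P) (a : L),
      InvHom h C a ∧ h • X = X ∧ h • Y = Y)
    (hln : ∀ l m : L, l ≠ m → ∃ (h : Coll P L) (C : P) (a : L),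
      InvHom h C a ∧ h • l = l ∧ h • m = m) :
    IsPrimePow (ProjectivePlane.order P L) := by
  have hax := every_line_axis hk hpt
  have hkd : Odd (ProjectivePlane.order (Dual L) (Dual P)) := by
    rw [ProjectivePlane.Dual.order]; exact hk
  have hctr : ∀ C : P, ∃ (h : Coll P L) (a : L), InvHom h C a := by
    intro C
    obtain ⟨h, a, hh⟩ := every_line_axis (P := Dual L) (L := Dual P) hkd (fun X Y hXY => by
      obtain ⟨h, C, a, hh, h1, h2⟩ := hln X Y hXY
      exact ⟨dualEquiv h, a, C, hh.dual, h1, h2⟩) C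
    refine ⟨dualEquiv.symm h, a, ⟨?_, ?_, ⟨hh.mem.2, hh.mem.1⟩⟩⟩
    · exact dualEquiv.injective (by
        rw [map_mul, MulEquiv.apply_symm_apply, map_one]; exact hh.sq)
    · exact fun e => hh.ne (by rw [← MulEquiv.apply_symm_apply dualEquiv h, e, map_one])
  by_cases h1 : ∃ (l : L) (h h' : Coll P L) (C C' : P), InvHom h C l ∧ InvHom h' C' l ∧ C ≠ C'
  · obtain ⟨l, h, h', C, C', hh, hh', hne⟩ := h1
    exact prime_pow_of_two_centres hk hctr l hh hh' hne
  by_cases h2 : ∃ (C : P) (h h' : Coll P L) (a a' : L), InvHom h C a ∧ InvHom h' C a' ∧ a ≠ a'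
  · obtain ⟨C, h, h', a, a', hh, hh', hne⟩ := h2
    rw [← ProjectivePlane.Dual.order P L]
    exact prime_pow_of_two_centres (P := Dual L) (L := Dual P) hkd (fun l => by
      obtain ⟨h, C, hh⟩ := hax l
      exact ⟨dualEquiv h, C, hh.dual⟩) C hh.dual hh'.dual hne
  push Not at h1 h2
  exact (no_polarity hk (fun l h h' C C' e e' => h1 l h h' C C' e e')
    (fun C h h' a a' e e' => h2 C h h' a a' e e') hctr).elim

end Lemmas

end Cfsg.Lib.OW
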