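import Cfsg.Agent.OstromWagner.PrimePower
import Cfsg.Agent.OstromWagner.Homology

/-!
# A two-transitive plane has a perspectivity
-/

set_option autoImplicit false
set_option linter.style.haveILetI false
set_option linter.unusedSectionVars false

namespace Cfsg.Lib.OW

open Configuration MulAction

universe u v

variable {P : Type u} {L : Type v} [Membership P L] [ProjectivePlane P L] [Finite P] [Finite L]

lemma TwoTrans.even_card (h : TwoTrans P L) : 2 ∣ Nat.card (Coll P L) := by
  obtain ⟨x, -⟩ := @ProjectivePlane.exists_config P L _ _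
  obtain ⟨y, hy⟩ := exists_ne_point L x
  rw [card_eq_orbit_mul_stab (G := Coll P L) (x, y)]
  refine Dvd.dvd.mul_right (even_iff_two_dvd.1 ?_) _
  refine even_ncard_of_involutive _ Prod.swap ?_ (fun q _ => Prod.swap_swap q) ?_
  · rintro _ ⟨g, rfl⟩
    obtain ⟨k, hk1, hk2⟩ := h x y (g • y) (g • x) hy.symm (fun e => hy (smul_left_cancel g e))
    exact ⟨k, Prod.ext hk1 hk2⟩
  · rintro _ ⟨g, rfl⟩ e
    exact hy (smul_left_cancel g (congrArg Prod.fst e))

/-- A two-transitive projective plane has a nontrivial perspectivity. -/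
theorem exists_persp (h : TwoTrans P L) : ∃ g : Coll P L, g ≠ 1 ∧ IsPersp g := by
  by_contra hno
  have hnp : ¬ IsPrimePow (ProjectivePlane.order P L) := by
    rintro ⟨p, a, hp, ha, hpa⟩
    exact hno (exists_persp_of_prime_pow h (Nat.prime_iff.2 hp) ha hpa.symm)
  push Not at hno
  have hbaer : ∀ g : Coll P L, g * g = 1 → g ≠ 1 → HasQuad L (fixP (Subgroup.zpowers g)) :=
    fun g hg hg1 => by
      rw [fixP_zpowers]
      exact (invol_cases hg hg1).resolve_left (hno g hg1)
  haveI : Fact (Nat.Prime 2) := ⟨Nat.prime_two⟩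
  have hn2 := two_le_order (P := P) (L := L)
  rcases Nat.even_or_odd (ProjectivePlane.order P L) with heven | hodd
  · obtain ⟨q, hq⟩ := heven
    obtain ⟨C, l, S, e, hC, hS, hmax, hfix⟩ := h.exists_sylow_flag Nat.prime_two (by
      rw [hq, Nat.two_dvd_ne_zero, Nat.mul_mod, Nat.add_mod, Nat.add_mod ((q + q) ^ 2), Nat.pow_mod]
      have h0 : (q + q) % 2 = 0 := by omega
      have h1 : (q + q + 1) % 2 = 1 := by omega
      simp [h0, h1])
    have he : 1 ≤ e := by
      by_contra hc
      exact hmax (by rw [show e + 1 = 1 by omega, pow_one]; exact h.even_card)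
    haveI : Nontrivial S := Finite.one_lt_card_iff_nontrivial.1
      (by rw [hS]; exact Nat.one_lt_pow (by omega) one_lt_two)
    haveI := (IsPGroup.of_card hS).center_nontrivial
    obtain ⟨z₀, hz₀⟩ := exists_prime_orderOf_dvd_card' (G := Subgroup.center S) 2 (by
      obtain ⟨j, hj⟩ := IsPGroup.iff_card.1 ((IsPGroup.of_card hS).to_subgroup (Subgroup.center S))
      have := Finite.one_lt_card (α := Subgroup.center S)
      rw [hj] at this ⊢
      exact dvd_pow_self 2 (fun h0 => by simp [h0] at this))
    set z : Coll P L := ((z₀ : S) : Coll P L) with hzdef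
    have hzS : z ∈ S := (z₀ : S).2
    have hz1 : z ≠ 1 := fun e' => by
      have : z₀ = 1 := Subtype.ext (Subtype.ext e')
      rw [this, orderOf_one] at hz₀
      omega
    have hzz : z * z = 1 := by
      have := pow_orderOf_eq_one z₀
      rw [hz₀, pow_two] at this
      exact congrArg (fun t : Subgroup.center S => ((t : S) : Coll P L)) this
    have hzc : ∀ g ∈ S, g * z = z * g := fun g hg =>
      congrArg Subtype.val (Subgroup.mem_center_iff.1 z₀.2 ⟨g, hg⟩)
    have hquad := hbaer z hzz hz1
    set m := fixOrder hquad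
    have hnm : ProjectivePlane.order P L = m ^ 2 := baer hzz hz1 hquad
    have hlF : l ∈ fixL (Subgroup.zpowers z) := fun g hg =>
      (Subgroup.zpowers_le.2 (show z ∈ stabilizer (Coll P L) l from (hfix z hzS).2)) hg
    set w := m.factorization 2
    have hm0 : m ≠ 0 := by have := two_le_fixOrder hquad; omega
    have hdiv : 2 ^ (4 * w) ∣ m ^ 2 := by
      rw [← card_fixP_off hquad hlF]
      refine dvd_ncard_of_orbits (G := S) _ ?_ ?_
      · rintro ⟨g, hg⟩ x ⟨hx, hxl⟩
        change g • x ∈ fixP (Subgroup.zpowers z) ∧ g • x ∉ l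
        rw [fixP_zpowers] at hx ⊢
        refine ⟨?_, fun e' => hxl ((mem_of_fix g (hfix g hg).2).1 e')⟩
        change z • g • x = g • x
        rw [smul_smul, ← hzc g hg, mul_smul, show z • x = x from hx]
      · rintro x ⟨-, hxl⟩
        have hS' := card_eq_orbit_mul_stab (G := S) x
        rw [hS, ← card_inf_stab] at hS'
        obtain ⟨j, -, hj⟩ := (Nat.dvd_prime_pow Nat.prime_two).1 (Dvd.intro_left _ hS'.symm)
        rw [hj] at hS'
        have hd : 2 ^ (4 * w + j) ∣ Nat.card (Coll P L) := by
          rw [pow_add, h.card_eq_antiflags hxl, hnm]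
          refine mul_dvd_mul (Dvd.dvd.mul_left ?_ _) ?_
          · rw [show 4 * w = w * 4 by ring, pow_mul, ← pow_mul m]
            exact pow_dvd_pow_of_dvd (Nat.ordProj_dvd m 2) 4
          · rw [← hj]
            exact Subgroup.card_dvd_of_le fun g hg =>
              mem_stabilizer_iff.2 (Prod.ext hg.2 (hfix g hg.1).2)
        have hle : 4 * w + j ≤ e := by
          by_contra hc
          exact hmax ((pow_dvd_pow 2 (by omega)).trans hd)
        have : (orbit S x).ncard = 2 ^ (e - j) := by
          refine Nat.eq_of_mul_eq_mul_right (pow_pos two_pos j) ?_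
          rw [← hS', ← pow_add, Nat.sub_add_cancel (by omega)]
        rw [this]
        exact pow_dvd_pow 2 (by omega)
    have := (Nat.prime_two.pow_dvd_iff_le_factorization (pow_ne_zero 2 hm0)).1 hdiv
    rw [Nat.factorization_pow, Finsupp.smul_apply, smul_eq_mul] at this
    have hw : m.factorization 2 = 0 := by omega
    have hm2 : ¬ 2 ∣ m := by
      intro h2
      have := (Nat.prime_two.factorization_pos_of_dvd hm0 h2)
      omega
    apply hm2
    exact Nat.prime_two.dvd_of_dvd_pow (n := 2) (by rw [← hnm, hq]; omega)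
  · obtain ⟨g, hg⟩ := exists_prime_orderOf_dvd_card' (G := Coll P L) 2 h.even_card
    have hgg : g * g = 1 := by have := pow_orderOf_eq_one g; rwa [hg, pow_two] at this
    have hg1 : g ≠ 1 := fun e => by rw [e, orderOf_one] at hg; omega
    let Big := {D : Subgroup (Coll P L) // IsPGroup 2 D ∧ HasQuad L (fixP D)}
    have hne : Nonempty Big := ⟨⟨Subgroup.zpowers g, IsPGroup.of_card (n := 1)
      (by rw [Nat.card_zpowers, hg, pow_one]), hbaer g hgg hg1⟩⟩
    obtain ⟨⟨D, hD2, hq⟩, hmax⟩ := Finite.exists_max (fun D : Big => Nat.card D.1)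
    obtain ⟨d, hd⟩ := IsPGroup.iff_card.1 hD2
    have hbot : D ≠ ⊥ := fun e => by
      have h1 : Nat.card (Subgroup.zpowers g) ≤ Nat.card D := hmax
        ⟨Subgroup.zpowers g, IsPGroup.of_card (n := 1) (by rw [Nat.card_zpowers, hg, pow_one]),
          hbaer g hgg hg1⟩
      rw [e, Subgroup.card_bot, Nat.card_zpowers, hg] at h1
      omega
    obtain ⟨i, hi⟩ := order_eq_pow hd hq
    letI := subplane hq
    have hk : Odd (ProjectivePlane.order (FP D) (FL D)) := by
      rw [hi, Nat.odd_pow_iff (by positivity)] at hodd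
      exact hodd
    have hsq : ∀ e (he : e ∈ Subgroup.normalizer (D : Set (Coll P L))), e * e ∈ D →
        restrict D ⟨e, he⟩ * restrict D ⟨e, he⟩ = 1 := fun e he hee => by
      rw [← map_mul]; exact restrict_eq_one _ hee
    have h2L : ∀ a b c d : L, a ≠ b → c ≠ d → ∃ g : Coll P L, g • a = c ∧ g • b = d :=
      fun a b c d h1 h2 => h.lines h1 h2
    have key : ∀ e (he : e ∈ Subgroup.normalizer (D : Set (Coll P L))), e ∉ D → e * e ∈ D →
        ∃ (C : FP D) (a : FL D), InvHom (restrict D ⟨e, he⟩) C a := by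
      intro e he heD hee
      have noquad : ¬ HasQuad L {x : P | x ∈ fixP D ∧ e • x = x} := by
        intro hquad
        have hz : IsPGroup 2 (Subgroup.zpowers e) := by
          obtain ⟨j, hj⟩ := hD2 ⟨e * e, hee⟩
          have hj' : (e * e) ^ 2 ^ j = 1 := congrArg Subtype.val hj
          rw [← pow_two, ← pow_mul, ← pow_succ'] at hj'
          obtain ⟨t, -, ht⟩ := (Nat.dvd_prime_pow Nat.prime_two).1 (orderOf_dvd_of_pow_eq_one hj')
          exact IsPGroup.of_card (n := t) (by rw [Nat.card_zpowers, ht])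
        have hK := IsPGroup.to_sup_of_normal_right' hz hD2 (Subgroup.zpowers_le.2 he)
        have hsub : {x : P | x ∈ fixP D ∧ e • x = x} ⊆ fixP (Subgroup.zpowers e ⊔ D) := by
          rintro x ⟨hxD, hxe⟩ k hk
          exact (sup_le (Subgroup.zpowers_le.2 (show e ∈ stabilizer (Coll P L) x from hxe))
            (fun u hu => hxD u hu) : Subgroup.zpowers e ⊔ D ≤ stabilizer (Coll P L) x) hk
        have h1 : Nat.card ↥(Subgroup.zpowers e ⊔ D) ≤ Nat.card D :=
          hmax ⟨_, hK, hasQuad_mono hsub hquad⟩
        have h2 := Subgroup.eq_of_le_of_card_ge (le_sup_right : D ≤ Subgroup.zpowers e ⊔ D) h1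
        exact heD (h2 ▸ le_sup_left (a := Subgroup.zpowers e) (Subgroup.mem_zpowers e))
      set E := restrict D ⟨e, he⟩
      have hE1 : E ≠ 1 := by
        intro e1
        apply noquad
        refine hasQuad_mono (fun x hx => ⟨hx, ?_⟩) hq
        have := congrArg (fun t : Coll (FP D) (FL D) => (t • (⟨x, hx⟩ : FP D)).1) e1
        simpa [E] using this
      rcases invol_cases (hsq e he hee) hE1 with ⟨C, a, hCa⟩ | hquad
      · exact ⟨C, a, hsq e he hee, hE1, hCa⟩
      · exfalso
        apply noquad
        obtain ⟨A, hA, B, hB, C, hC, X, hX, hQ⟩ := hquad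
        have lift : ∀ {A B C : FP D}, NC (FL D) A B C → NC L A.1 B.1 C.1 := by
          intro A B C hnc m hm1 hm2
          exact hnc ⟨m, fixL_of_two (fun e' => hnc.ne12 (Subtype.ext e')) hm1 hm2 A.2 B.2⟩ hm1 hm2
        exact ⟨A.1, ⟨A.2, congrArg Subtype.val hA⟩, B.1, ⟨B.2, congrArg Subtype.val hB⟩,
          C.1, ⟨C.2, congrArg Subtype.val hC⟩, X.1, ⟨X.2, congrArg Subtype.val hX⟩,
          lift hQ.abc, lift hQ.abd, lift hQ.acd, lift hQ.bcd⟩
    have hpp : IsPrimePow (fixOrder hq) := by
      refine prime_pow_of_homologies hk ?_ ?_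
      · intro X Y hXY
        obtain ⟨e, he, heD, hee, heX, heY⟩ := pair_extension h D hd (fun e he hee => by
          obtain ⟨x, y, hxy, hx, hy⟩ := invol_two_fixed (hsq e he hee)
          exact ⟨x.1, y.1, fun e' => hxy (Subtype.ext e'), x.2, y.2, congrArg Subtype.val hx,
            congrArg Subtype.val hy⟩) (fun e' => hXY (Subtype.ext e')) X.2 Y.2
        obtain ⟨C, a, hh⟩ := key e he heD hee
        exact ⟨_, C, a, hh, Subtype.ext heX, Subtype.ext heY⟩
      · intro X Y hXY
        obtain ⟨e, he, heD, hee, heX, heY⟩ := pair_extension h2L D hd (fun e he hee => by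
          obtain ⟨x, y, hxy, hx, hy⟩ := invol_two_fixed (P := Dual (FL D)) (L := Dual (FP D))
            (g := dualEquiv (restrict D ⟨e, he⟩))
            ((map_mul dualEquiv _ _).symm.trans ((congrArg dualEquiv (hsq e he hee)).trans (map_one _)))
          exact ⟨(show FL D from x).1, (show FL D from y).1, fun e' => hxy (Subtype.ext e'),
            (show FL D from x).2, (show FL D from y).2, congrArg Subtype.val hx,
            congrArg Subtype.val hy⟩) (fun e' => hXY (Subtype.ext e')) X.2 Y.2
        obtain ⟨C, a, hh⟩ := key e he heD hee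
        exact ⟨_, C, a, hh, Subtype.ext heX, Subtype.ext heY⟩
    exact hnp (hi ▸ hpp.pow (by positivity))

end Cfsg.Lib.OW
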