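import Cfsg.Agent.OstromWagner.Basic

/-!
# Perspectivities
-/

set_option autoImplicit false
set_option linter.style.haveILetI false
set_option linter.unusedSectionVars false

namespace Cfsg.Lib.OW

open Configuration MulAction

universe u v

variable {P : Type u} {L : Type v} [Membership P L]

/-- collineations fixing every point of a line -/
def axisGroup (a : L) : Subgroup (Coll P L) where
  carrier := {g | ∀ p : P, p ∈ a → g • p = p}
  one_mem' := fun p _ => one_smul _ p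
  mul_mem' := fun {g h} hg hh p hp => by rw [mul_smul, hh p hp, hg p hp]
  inv_mem' := fun {g} hg p hp => inv_smul_eq_iff.2 (hg p hp).symm

/-- collineations fixing every line through a point -/
def centreGroup (C : P) : Subgroup (Coll P L) where
  carrier := {g | ∀ l : L, C ∈ l → g • l = l}
  one_mem' := fun l _ => one_smul _ l
  mul_mem' := fun {g h} hg hh l hl => by rw [mul_smul, hh l hl, hg l hl]
  inv_mem' := fun {g} hg l hl => inv_smul_eq_iff.2 (hg l hl).symm

/-- perspectivities with given centre and axis -/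
def perspGroup (C : P) (a : L) : Subgroup (Coll P L) := axisGroup a ⊓ centreGroup C

/-- being a perspectivity -/
def IsPersp (g : Coll P L) : Prop := ∃ (C : P) (a : L), g ∈ perspGroup C a

lemma mem_perspGroup {g : Coll P L} {C : P} {a : L} :
    g ∈ perspGroup C a ↔ (∀ p : P, p ∈ a → g • p = p) ∧ ∀ l : L, C ∈ l → g • l = l := Iff.rfl

lemma mem_perspGroup_dual {g : Coll P L} {C : P} {a : L} :
    dualEquiv g ∈ perspGroup (P := Dual L) (L := Dual P) a C ↔ g ∈ perspGroup C a :=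
  ⟨fun h => ⟨h.2, h.1⟩, fun h => ⟨h.2, h.1⟩⟩

lemma conj_axisGroup {g h : Coll P L} {a : L} (hg : g ∈ axisGroup a) :
    h * g * h⁻¹ ∈ axisGroup (h • a) := fun p hp => by
  rw [mem_smul_line] at hp
  rw [mul_smul, mul_smul, hg _ hp, smul_inv_smul]

lemma conj_centreGroup {g h : Coll P L} {C : P} (hg : g ∈ centreGroup C) :
    h * g * h⁻¹ ∈ centreGroup (h • C) := fun l hl => by
  have : C ∈ h⁻¹ • l := by rw [mem_smul_line, inv_inv]; exact hl
  rw [mul_smul, mul_smul, hg _ this, smul_inv_smul]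

lemma conj_perspGroup {g h : Coll P L} {C : P} {a : L} (hg : g ∈ perspGroup C a) :
    h * g * h⁻¹ ∈ perspGroup (h • C) (h • a) :=
  ⟨conj_axisGroup hg.1, conj_centreGroup hg.2⟩

variable [ProjectivePlane P L]

lemma centre_mem_line {g : Coll P L} {C : P} (hg : g ∈ centreGroup C) {x : P} {l : L}
    (hC : C ∈ l) (hx : x ∈ l) : g • x ∈ l := (mem_of_fix g (hg l hC)).2 hx

variable [Finite P] [Finite L]

lemma axis_fixed {g : Coll P L} {a : L} (hg : g ∈ axisGroup a) : g • a = a := by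
  obtain ⟨p, hp, -⟩ := exists_point (P := P) a a
  obtain ⟨q, hq, hqp, -⟩ := exists_on_ne a p p
  exact fix_line_of_two g hqp hq hp (hg q hq) (hg p hp)

lemma centre_fixed {g : Coll P L} {C : P} (hg : g ∈ centreGroup C) : g • C = C :=
  axis_fixed (P := Dual L) (L := Dual P) (g := dualEquiv g) (a := C) hg

lemma exists_centre {g : Coll P L} {a : L} (hg : g ∈ axisGroup a) :
    ∃ C : P, g ∈ centreGroup C := by
  by_cases hQ : ∃ Q : P, Q ∉ a ∧ g • Q = Q
  · obtain ⟨Q, hQa, hQ⟩ := hQ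
    refine ⟨Q, fun l hl => ?_⟩
    obtain ⟨R, hRl, hRa⟩ := exists_point (P := P) l a
    exact fix_line_of_two g (fun e => hQa (by rw [e]; exact hRa) : Q ≠ R) hl hRl hQ (hg R hRa)
  · push Not at hQ
    have hline : ∀ Q : P, Q ∉ a → ∃ m : L, Q ∈ m ∧ g • Q ∈ m ∧ g • m = m ∧ m ≠ a := by
      intro Q hQa
      obtain ⟨m, hQm, hgQm⟩ := exists_line (L := L) Q (g • Q)
      have hma : m ≠ a := fun e => hQa (e ▸ hQm)
      obtain ⟨R, hRm, hRa⟩ := exists_point (P := P) m a
      have hne : R ≠ g • Q := fun e => by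
        have : g • Q ∈ a := e ▸ hRa
        exact hQa ((mem_of_fix g (axis_fixed hg)).1 this)
      refine ⟨m, hQm, hgQm, ?_, hma⟩
      exact line_unique hne (hg R hRa ▸ (smul_mem_smul g).2 hRm) ((smul_mem_smul g).2 hQm) hRm hgQm
    obtain ⟨Q, hQa⟩ := exists_off (P := P) a
    obtain ⟨m, hQm, -, hm, hma⟩ := hline Q hQa
    obtain ⟨C, hCm, hCa⟩ := exists_point (P := P) m a
    refine ⟨C, fun l hl => ?_⟩
    by_cases hla : l = a
    · rw [hla]; exact axis_fixed hg
    obtain ⟨x, hxl, hxC, -⟩ := exists_on_ne l C C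
    have hxa : x ∉ a := fun e => hxC (point_unique hla hxl e hl hCa)
    obtain ⟨k, hxk, -, hk, hka⟩ := hline x hxa
    by_cases hkm : k = m
    · have : l = m := line_unique hxC hxl hl (hkm ▸ hxk) hCm
      rw [this]; exact hm
    obtain ⟨z, hzk, hzm⟩ := exists_point (P := P) k m
    have hz := fix_point_of_two g hkm hzk hzm hk hm
    have hza : z ∈ a := by
      by_contra e
      exact hQ z e hz
    have : z = C := point_unique hma hzm hza hCm hCa
    rw [line_unique hxC hxl hl hxk (this ▸ hzk)]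
    exact hk

lemma persp_eq_one {g : Coll P L} {C : P} {a : L} (hg : g ∈ perspGroup C a) {Q : P} (hQa : Q ∉ a)
    (hQC : Q ≠ C) (hQ : g • Q = Q) : g = 1 := by
  obtain ⟨b, hbC, hbQ⟩ := exists_line (L := L) C Q
  have step : ∀ Q : P, Q ∉ a → Q ≠ C → g • Q = Q → ∀ (b : L), C ∈ b → Q ∈ b →
      ∀ x : P, x ∉ b → g • x = x := by
    intro Q hQa hQC hQ b hbC hbQ x hxb
    obtain ⟨k, hkC, hkx⟩ := exists_line (L := L) C x
    obtain ⟨l, hlQ, hlx⟩ := exists_line (L := L) Q x
    obtain ⟨R, hRl, hRa⟩ := exists_point (P := P) l a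
    have hl : g • l = l := fix_line_of_two g (fun e => hQa (by rw [e]; exact hRa) : Q ≠ R)
      hlQ hRl hQ (hg.1 R hRa)
    have hkl : k ≠ l := fun e => hxb (line_unique hQC hbQ hbC hlQ (e ▸ hkC) ▸ hlx)
    exact fix_point_of_two g hkl hkx hlx (hg.2 k hkC) hl
  refine coll_ext fun x => ?_
  rw [one_smul]
  by_cases hxb : x ∈ b
  · by_cases hxC : x = C
    · rw [hxC]; exact centre_fixed hg.2
    by_cases hxa : x ∈ a
    · exact hg.1 x hxa
    obtain ⟨Q', hQ'a, hQ'b⟩ := exists_off_two (P := P) a b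
    have hQ' : g • Q' = Q' := step Q hQa hQC hQ b hbC hbQ Q' hQ'b
    have hQ'C : Q' ≠ C := fun e => hQ'b (e ▸ hbC)
    obtain ⟨b', hb'C, hb'Q⟩ := exists_line (L := L) C Q'
    refine step Q' hQ'a hQ'C hQ' b' hb'C hb'Q x (fun e => hQ'b ?_)
    rw [line_unique (Ne.symm hxC) hbC hxb hb'C e]
    exact hb'Q
  · exact step Q hQa hQC hQ b hbC hbQ x hxb

lemma persp_fixed_iff {g : Coll P L} {C : P} {a : L} (hg : g ∈ perspGroup C a) (h1 : g ≠ 1)
    {x : P} : g • x = x ↔ x ∈ a ∨ x = C := by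
  refine ⟨fun h => ?_, ?_⟩
  · by_contra hc
    push Not at hc
    exact h1 (persp_eq_one hg hc.1 hc.2 h)
  · rintro (h | rfl)
    · exact hg.1 x h
    · exact centre_fixed hg.2

lemma persp_fixed_line_iff {g : Coll P L} {C : P} {a : L} (hg : g ∈ perspGroup C a) (h1 : g ≠ 1)
    {l : L} : g • l = l ↔ C ∈ l ∨ l = a :=
  persp_fixed_iff (P := Dual L) (L := Dual P) (g := dualEquiv g) ((mem_perspGroup_dual (g := g) (C := C) (a := a)).2 hg)
    (fun e => h1 (dualEquiv.injective (e.trans (map_one dualEquiv).symm)))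

lemma persp_unique {g : Coll P L} {C C' : P} {a a' : L} (hg : g ∈ perspGroup C a)
    (hg' : g ∈ perspGroup C' a') (h1 : g ≠ 1) : C = C' ∧ a = a' := by
  have key : ∀ {P : Type u} {L : Type v} [Membership P L] [ProjectivePlane P L] [Finite P]
      [Finite L] {g : Coll P L} {C C' : P} {a a' : L}, g ∈ perspGroup C a →
      g ∈ perspGroup C' a' → g ≠ 1 → a = a' := by
    intro P L _ _ _ _ g C C' a a' hg hg' h1
    by_contra hne
    obtain ⟨R, hRa, hRa'⟩ := exists_point (P := P) a a'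
    obtain ⟨x, hx, hxR, hxC⟩ := exists_on_ne a' R C
    rcases (persp_fixed_iff hg h1).1 (hg'.1 x hx) with h | h
    · exact hxR (point_unique hne h hx hRa hRa')
    · exact hxC h
  have ha := key hg hg' h1
  refine ⟨?_, ha⟩
  subst ha
  by_contra hne
  obtain ⟨l, hl, hla, -⟩ := exists_through_ne C' a a
  rcases (persp_fixed_line_iff hg h1).1 (hg'.2 l hl) with h | h
  · -- every line through `C'` contains `C`
    obtain ⟨l', hl', hl'a, hl'l⟩ := exists_through_ne C' a l
    rcases (persp_fixed_line_iff hg h1).1 (hg'.2 l' hl') with h' | h'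
    · exact hne (point_unique (Ne.symm hl'l) h h' hl hl')
    · exact hl'a h'
  · exact hla h

lemma persp_ext {g h : Coll P L} {C : P} {a : L} (hg : g ∈ perspGroup C a)
    (hh : h ∈ perspGroup C a) {Q : P} (hQa : Q ∉ a) (hQC : Q ≠ C) (e : g • Q = h • Q) : g = h :=
  (inv_mul_eq_one.1 (persp_eq_one (Subgroup.mul_mem _ (Subgroup.inv_mem _ hh) hg) hQa hQC
    (by rw [mul_smul, e, inv_smul_smul]))).symm

/-- elations with a given axis -/
def elGroup (a : L) : Subgroup (Coll P L) where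
  carrier := {g | ∃ C : P, C ∈ a ∧ g ∈ perspGroup C a}
  one_mem' := by
    obtain ⟨C, hC, -⟩ := exists_point (P := P) a a
    exact ⟨C, hC, one_mem _⟩
  inv_mem' := fun ⟨C, hC, h⟩ => ⟨C, hC, inv_mem h⟩
  mul_mem' := by
    rintro g h ⟨C₁, hC₁, hg⟩ ⟨C₂, hC₂, hh⟩
    obtain ⟨D, hD⟩ := exists_centre (mul_mem hg.1 hh.1)
    by_cases hDa : D ∈ a
    · exact ⟨D, hDa, mul_mem hg.1 hh.1, hD⟩
    by_cases hCC : C₁ = C₂
    · subst hCC; exact ⟨C₁, hC₁, mul_mem hg hh⟩
    obtain ⟨k₁, hk₁, hk₁'⟩ := exists_line (L := L) C₁ D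
    obtain ⟨k₂, hk₂, hk₂'⟩ := exists_line (L := L) C₂ D
    have hk : k₁ ≠ k₂ := fun e =>
      hDa ((line_unique hCC hk₁ (e ▸ hk₂) hC₁ hC₂) ▸ hk₁')
    have e : h • D = g⁻¹ • D := by
      have := centre_fixed hD
      rw [mul_smul] at this
      exact eq_inv_smul_iff.2 this
    have hfix : h • D = D := point_unique hk
      (e ▸ centre_mem_line (inv_mem hg.2) hk₁ hk₁') (centre_mem_line hh.2 hk₂ hk₂') hk₁' hk₂'
    have h1 : h = 1 := persp_eq_one hh hDa (fun e => hDa (e ▸ hC₂)) hfix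
    exact ⟨C₁, hC₁, by rw [h1, mul_one]; exact hg⟩

lemma mem_elGroup {g : Coll P L} {a : L} :
    g ∈ elGroup a ↔ ∃ C : P, C ∈ a ∧ g ∈ perspGroup C a := Iff.rfl

lemma elGroup_le_axisGroup (a : L) : elGroup (P := P) a ≤ axisGroup a :=
  fun _ ⟨_, _, h⟩ => h.1

lemma perspGroup_le_elGroup {C : P} {a : L} (h : C ∈ a) : perspGroup C a ≤ elGroup a :=
  fun _ hg => ⟨C, h, hg⟩

lemma conj_elGroup {g h : Coll P L} {a : L} (hg : g ∈ elGroup a) :
    h * g * h⁻¹ ∈ elGroup (h • a) := by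
  obtain ⟨C, hC, hg⟩ := hg
  exact ⟨h • C, (smul_mem_smul h).2 hC, conj_perspGroup hg⟩

lemma el_semireg {g : Coll P L} {a : L} (hg : g ∈ elGroup a) {x : P} (hx : x ∉ a)
    (h : g • x = x) : g = 1 := by
  obtain ⟨C, hC, hg⟩ := hg
  exact persp_eq_one hg hx (fun e => hx (e ▸ hC)) h

lemma exists_el_centre {g : Coll P L} {a : L} (hg : g ∈ axisGroup a)
    (h : ∀ x : P, x ∉ a → g • x ≠ x) : g ∈ elGroup a := by
  obtain ⟨D, hD⟩ := exists_centre hg
  refine ⟨D, ?_, hg, hD⟩
  by_contra hDa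
  exact h D hDa (centre_fixed hD)

omit [ProjectivePlane P L] [Finite L] in
/-- the orbit of a point with trivial stabiliser -/
lemma orbit_ncard_of_semireg (K : Subgroup (Coll P L)) (x : P)
    (h : ∀ g ∈ K, g • x = x → g = 1) : (orbit K x).ncard = Nat.card K := by
  rw [← Nat.card_coe_set_eq, orbit, Nat.card_range_of_injective]
  intro a b hab
  have hab' : (a : Coll P L) • x = (b : Coll P L) • x := hab
  exact Subtype.ext (inv_mul_eq_one.1 (h _ (mul_mem (inv_mem b.2) a.2)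
    (by rw [mul_smul, hab', inv_smul_smul]))).symm

omit [ProjectivePlane P L] [Finite L] in
lemma card_le_of_semireg (K : Subgroup (Coll P L)) (x : P) (s : Set P)
    (hs : ∀ g ∈ K, g • x ∈ s) (h : ∀ g ∈ K, g • x = x → g = 1) : Nat.card K ≤ s.ncard := by
  rw [← orbit_ncard_of_semireg K x h]
  exact Set.ncard_le_ncard (by rintro _ ⟨g, rfl⟩; exact hs g g.2) (Set.toFinite s)

omit [ProjectivePlane P L] [Finite L] in
lemma transitive_of_semireg (K : Subgroup (Coll P L)) (s : Set P)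
    (hs : ∀ g ∈ K, ∀ y ∈ s, g • y ∈ s) (h : ∀ g ∈ K, ∀ y ∈ s, g • y = y → g = 1)
    (hcard : s.ncard ≤ Nat.card K) {x y : P} (hx : x ∈ s) (hy : y ∈ s) :
    ∃ g ∈ K, g • x = y := by
  have hsub : orbit K x ⊆ s := by rintro _ ⟨g, rfl⟩; exact hs g g.2 x hx
  rw [← Set.eq_of_subset_of_ncard_le hsub
    (by rw [orbit_ncard_of_semireg K x (fun g hg => h g hg x hx)]; exact hcard) (Set.toFinite s)]
    at hy
  obtain ⟨g, rfl⟩ := hy
  exact ⟨g, g.2, rfl⟩

lemma el_comm_of_ne {e f : Coll P L} {Z W : P} {a : L} (hZ : Z ∈ a) (hW : W ∈ a) (hne : Z ≠ W)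
    (he : e ∈ perspGroup Z a) (hf : f ∈ perspGroup W a) : e * f = f * e := by
  have hfix : ∀ {g : Coll P L} {X : P}, X ∈ a → g ∈ axisGroup a →
      ∀ {k : Coll P L}, k ∈ perspGroup X a → g * k * g⁻¹ ∈ perspGroup X a := by
    intro g X hX hg k hk
    have := conj_perspGroup (h := g) hk
    rwa [hg X hX, axis_fixed hg] at this
  have h1 : e * f * e⁻¹ * f⁻¹ ∈ perspGroup W a :=
    mul_mem (hfix hW he.1 hf) (inv_mem hf)
  have h2 : e * f * e⁻¹ * f⁻¹ ∈ perspGroup Z a := by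
    have := mul_mem he (hfix hZ hf.1 (inv_mem he))
    simpa [mul_assoc] using this
  have h3 : e * f * e⁻¹ * f⁻¹ = 1 := by
    by_contra hc
    exact hne (persp_unique h2 h1 hc).1
  rwa [mul_inv_eq_one, mul_inv_eq_iff_eq_mul] at h3

lemma el_comm {a : L} {Z W : P} (hZ : Z ∈ a) (hW : W ∈ a) (hne : Z ≠ W) {x y : Coll P L}
    (hx : x ∈ perspGroup Z a) (hy : y ∈ perspGroup W a) (hx1 : x ≠ 1) (hy1 : y ≠ 1)
    {e f : Coll P L} (he : e ∈ elGroup a) (hf : f ∈ elGroup a) : e * f = f * e := by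
  obtain ⟨C, hC, he'⟩ := he
  obtain ⟨D, hD, hf'⟩ := hf
  by_cases hCD : C = D
  · subst hCD
    obtain ⟨V, hV, hVC, k, hk, hk1⟩ : ∃ V, V ∈ a ∧ V ≠ C ∧ ∃ k ∈ perspGroup V a, k ≠ (1 : Coll P L) := by
      by_cases h : Z = C
      · exact ⟨W, hW, fun e => hne (h.trans e.symm), y, hy, hy1⟩
      · exact ⟨Z, hZ, h, x, hx, hx1⟩
    by_cases hf1 : f * k ∈ perspGroup C a
    · have : k ∈ perspGroup C a := by simpa using mul_mem (inv_mem hf') hf1
      exact absurd (persp_unique hk this hk1).1 hVC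
    obtain ⟨U, hU, hfk⟩ := mul_mem (perspGroup_le_elGroup hC hf') (perspGroup_le_elGroup hV hk)
    have hUC : C ≠ U := fun e => hf1 (e ▸ hfk)
    have h1 := el_comm_of_ne hC hU hUC he' hfk
    have h2 := el_comm_of_ne hC hV (Ne.symm hVC) he' hk
    calc e * f = e * (f * k) * k⁻¹ := by group
      _ = f * k * e * k⁻¹ := by rw [h1]
      _ = f * (k * e) * k⁻¹ := by group
      _ = f * (e * k) * k⁻¹ := by rw [h2]
      _ = f * e := by group
  · exact el_comm_of_ne hC hD hCD he' hf'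

lemma pow_eq_one_other {a : L} {Z W : P} (hZ : Z ∈ a) (hW : W ∈ a) (hne : Z ≠ W) {p : ℕ}
    {x y : Coll P L} (hx : x ∈ perspGroup Z a) (hy : y ∈ perspGroup W a) (hx1 : x ≠ 1)
    (hxp : x ^ p = 1) : y ^ p = 1 := by
  by_contra hc
  have hyp : y ^ p ∈ perspGroup W a := pow_mem hy p
  obtain ⟨V, -, hV⟩ := mul_mem (perspGroup_le_elGroup hZ hx) (perspGroup_le_elGroup hW hy)
  have hpow : (x * y) ^ p = y ^ p := by
    rw [Commute.mul_pow (el_comm_of_ne hZ hW hne hx hy), hxp, one_mul]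
  have hVW : V = W := (persp_unique (hpow ▸ pow_mem hV p) hyp hc).1
  have hxW : x ∈ perspGroup W a := by
    have := mul_mem (hVW ▸ hV) (inv_mem hy)
    rwa [mul_inv_cancel_right] at this
  exact hne (persp_unique hx hxW hx1).1

lemma el_exponent {a : L} {Z W : P} (hZ : Z ∈ a) (hW : W ∈ a) (hne : Z ≠ W) {x y : Coll P L}
    (hx : x ∈ perspGroup Z a) (hy : y ∈ perspGroup W a) (hx1 : x ≠ 1) (hy1 : y ≠ 1) :
    ∃ p : ℕ, p.Prime ∧ ∀ g ∈ elGroup (P := P) a, g ^ p = 1 := by
  obtain ⟨p, hp, hdvd⟩ := Nat.exists_prime_and_dvd (n := orderOf x)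
    (fun h => hx1 (orderOf_eq_one_iff.1 h))
  set x' := x ^ (orderOf x / p)
  have hx' : x' ∈ perspGroup Z a := pow_mem hx _
  have hord : orderOf x' = p := orderOf_pow_orderOf_div (orderOf_pos x).ne' hdvd
  have hx'1 : x' ≠ 1 := fun h => hp.ne_one (by rw [← hord, h, orderOf_one])
  have hx'p : x' ^ p = 1 := hord ▸ pow_orderOf_eq_one x'
  have hyp : y ^ p = 1 := pow_eq_one_other hZ hW hne hx' hy hx'1 hx'p
  refine ⟨p, hp, ?_⟩
  rintro g ⟨C, hC, hg⟩
  by_cases hCZ : C = Z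
  · subst hCZ
    exact pow_eq_one_other hW hC (Ne.symm hne) hy hg hy1 hyp
  · exact pow_eq_one_other hZ hC (Ne.symm hCZ) hx' hg hx'1 hx'p

section Involution

variable {g : Coll P L}

lemma invol_smul_smul (hg : g * g = 1) (x : P) : g • g • x = x := by
  rw [smul_smul, hg, one_smul]

lemma invol_smul_smulL (hg : g * g = 1) (x : L) : g • g • x = x := by
  rw [smul_smul, hg, one_smul]

lemma invol_line_fixed_point (hg : g * g = 1) (h1 : g ≠ 1) (l : L) :
    ∃ x : P, x ∈ l ∧ g • x = x := by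
  have moved : ∀ l : L, g • l ≠ l → ∃ x : P, x ∈ l ∧ g • x = x := by
    intro l hl
    obtain ⟨x, hx, hx'⟩ := exists_point (P := P) l (g • l)
    refine ⟨x, hx, point_unique (Ne.symm hl) ?_ ((smul_mem_smul g).2 hx) hx hx'⟩
    have := (smul_mem_smul g).2 hx'
    rwa [invol_smul_smulL hg] at this
  by_cases hl : g • l = l
  · by_contra hc
    push Not at hc
    have honly : ∀ m : L, g • m = m → m = l := by
      intro m hm
      by_contra hne
      obtain ⟨x, hxm, hxl⟩ := exists_point (P := P) m l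
      exact hc x hxl (fix_point_of_two g hne hxm hxl hm hl)
    obtain ⟨R, hR⟩ : ∃ R : P, ∀ m, m ≠ l → R ∈ m := by
      obtain ⟨T, hTl⟩ := exists_off (P := P) l
      obtain ⟨m₀, hm₀, -⟩ := exists_line (L := L) T T
      obtain ⟨R, hR, hRfix⟩ := moved m₀ (fun e => hTl (honly _ e ▸ hm₀))
      refine ⟨R, fun m hm => ?_⟩
      obtain ⟨S, hS, hSfix⟩ := moved m (fun e => hm (honly _ e))
      by_cases hRS : R = S
      · exact hRS ▸ hS
      · obtain ⟨k, hk, hk'⟩ := exists_line (L := L) R S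
        have := honly k (fix_line_of_two g hRS hk hk' hRfix hSfix)
        exact absurd hRfix (hc R (this ▸ hk))
    obtain ⟨Q, hQl, hQR⟩ := exists_off_ne (P := P) l R
    obtain ⟨k, hk, -⟩ := exists_line (L := L) Q Q
    obtain ⟨b, hbQ, hbl, hbk⟩ := exists_through_ne Q l k
    exact hQR (point_unique hbk hbQ hk (hR b hbl) (hR k (fun e => hQl (e ▸ hk))))
  · exact moved l hl

lemma invol_two_fixed (hg : g * g = 1) :
    ∃ x y : P, x ≠ y ∧ g • x = x ∧ g • y = y := by
  by_cases h1 : g = 1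
  · obtain ⟨x⟩ : Nonempty P := by
      obtain ⟨x, -⟩ := @ProjectivePlane.exists_config P L _ _; exact ⟨x⟩
    obtain ⟨y, hy⟩ := exists_ne_point L x
    exact ⟨x, y, hy.symm, by simp [h1], by simp [h1]⟩
  obtain ⟨x₀, -⟩ := @ProjectivePlane.exists_config P L _ _
  obtain ⟨l, -, -⟩ := exists_line (L := L) x₀ x₀
  obtain ⟨x, -, hx⟩ := invol_line_fixed_point hg h1 l
  obtain ⟨m, hm⟩ := exists_offL (L := L) x
  obtain ⟨y, hy, hy'⟩ := invol_line_fixed_point hg h1 m
  exact ⟨x, y, fun e => hm (by rw [e]; exact hy), hx, hy'⟩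

/-- An involution is a perspectivity or fixes a quadrangle. -/
lemma invol_cases (hg : g * g = 1) (h1 : g ≠ 1) :
    IsPersp g ∨ HasQuad L {p : P | g • p = p} := by
  by_cases hq : HasQuad L {p : P | g • p = p}
  · exact Or.inr hq
  obtain ⟨x, -, -, hx, -⟩ := invol_two_fixed hg
  obtain ⟨a, C, hs⟩ := line_point_of_noQuad hq ⟨x, hx⟩
  have hax : g ∈ axisGroup a := by
    intro p hp
    by_contra hpf
    obtain ⟨b, hbp, hbC⟩ := exists_line (L := L) p C
    obtain ⟨m, hmp, hma, hmb⟩ := exists_through_ne p a b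
    obtain ⟨y, hym, hyf⟩ := invol_line_fixed_point hg h1 m
    rcases hs y hyf with h | h
    · exact hpf (point_unique hma hmp hp hym h ▸ hyf)
    · subst h
      by_cases hpC : p = y
      · exact hpf (hpC ▸ hyf)
      · exact hmb (line_unique hpC hmp hym hbp hbC)
  obtain ⟨D, hD⟩ := exists_centre hax
  exact Or.inl ⟨D, a, hax, hD⟩

lemma even_order_of_invol_elation {C : P} {a : L} (hg : g * g = 1) (h1 : g ≠ 1)
    (hp : g ∈ perspGroup C a) (hC : C ∈ a) : Even (ProjectivePlane.order P L) := by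
  obtain ⟨m, hm, hma, -⟩ := exists_through_ne C a a
  have : Even {x : P | x ∈ m ∧ x ≠ C}.ncard := by
    refine even_ncard_of_involutive _ (g • ·) ?_ (fun x _ => invol_smul_smul hg x) ?_
    · rintro x ⟨hx, hxC⟩
      exact ⟨centre_mem_line hp.2 hm hx, fun e => hxC (smul_left_cancel g
        (e.trans (centre_fixed hp.2).symm))⟩
    · rintro x ⟨hx, hxC⟩ e
      exact h1 (persp_eq_one hp (fun h => hxC (point_unique hma hx h hm hC)) hxC e)
  have e : {x : P | x ∈ m ∧ x ≠ C} = {x : P | x ∈ m} \ {C} := rfl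
  rw [e, Set.ncard_sdiff_singleton_of_mem (show C ∈ {x : P | x ∈ m} from hm), card_on] at this
  simpa using this

end Involution

end Cfsg.Lib.OW
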