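import Cfsg.Agent.OstromWagner.Subplane

/-!
# A plane of prime power order with a two-transitive group has a perspectivity
-/

set_option autoImplicit false
set_option linter.style.haveILetI false
set_option linter.unusedSectionVars false

namespace Cfsg.Lib.OW

open Configuration MulAction

universe u v

section
variable {G : Type*} [Group G] {α : Type*} [MulAction G α]

lemma card_inf_stab (S : Subgroup G) (x : α) :
    Nat.card ↥(S ⊓ stabilizer G x) = Nat.card (stabilizer S x) :=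
  Nat.card_congr
    { toFun := fun g => ⟨⟨g.1, g.2.1⟩, g.2.2⟩
      invFun := fun g => ⟨g.1.1, g.1.2, g.2⟩
      left_inv := fun _ => rfl
      right_inv := fun _ => rfl }

end

variable {P : Type u} {L : Type v} [Membership P L] [ProjectivePlane P L] [Finite P] [Finite L]

lemma card_flags : Nat.card {q : P × L // q.1 ∈ q.2} =
    (ProjectivePlane.order P L ^ 2 + ProjectivePlane.order P L + 1) *
      (ProjectivePlane.order P L + 1) := by
  haveI := Fintype.ofFinite P
  rw [Nat.card_congr (Equiv.subtypeProdEquivSigmaSubtype fun (p : P) (l : L) => p ∈ l),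
    Nat.card_sigma]
  have : ∀ p : P, Nat.card {l : L // p ∈ l} = ProjectivePlane.order P L + 1 := fun p => by
    rw [← card_through (L := L) p, ← Nat.card_coe_set_eq]; rfl
  simp [this, ← Nat.card_eq_fintype_card, card_P (P := P) (L := L)]

lemma card_antiflags : Nat.card {q : P × L // q.1 ∉ q.2} =
    (ProjectivePlane.order P L ^ 2 + ProjectivePlane.order P L + 1) *
      ProjectivePlane.order P L ^ 2 := by
  haveI := Fintype.ofFinite P
  rw [Nat.card_congr (Equiv.subtypeProdEquivSigmaSubtype fun (p : P) (l : L) => p ∉ l),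
    Nat.card_sigma]
  have : ∀ p : P, Nat.card {l : L // p ∉ l} = ProjectivePlane.order P L ^ 2 := fun p => by
    rw [← card_offL (L := L) p, ← Nat.card_coe_set_eq]; rfl
  simp [this, ← Nat.card_eq_fintype_card, card_P (P := P) (L := L)]

lemma TwoTrans.card_eq_flags (h : TwoTrans P L) {C : P} {l : L} (hC : C ∈ l) :
    Nat.card (Coll P L) = (ProjectivePlane.order P L ^ 2 + ProjectivePlane.order P L + 1) *
      (ProjectivePlane.order P L + 1) * Nat.card (stabilizer (Coll P L) (C, l)) := by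
  rw [card_eq_orbit_mul_stab (G := Coll P L) (C, l), ← card_flags, ← Nat.card_coe_set_eq]
  congr 1
  refine Nat.card_congr (Equiv.setCongr ?_)
  ext ⟨x, m⟩
  constructor
  · rintro ⟨g, hg⟩
    have h' := (smul_mem_smul g).2 hC
    simp only [Prod.smul_mk, Prod.mk.injEq] at hg
    rw [hg.1, hg.2] at h'
    exact h'
  · intro hx
    obtain ⟨g, h1, h2⟩ := h.flag hC hx
    exact ⟨g, by simp [h1, h2]⟩

lemma TwoTrans.card_eq_antiflags (h : TwoTrans P L) {C : P} {l : L} (hC : C ∉ l) :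
    Nat.card (Coll P L) = (ProjectivePlane.order P L ^ 2 + ProjectivePlane.order P L + 1) *
      ProjectivePlane.order P L ^ 2 * Nat.card (stabilizer (Coll P L) (C, l)) := by
  rw [card_eq_orbit_mul_stab (G := Coll P L) (C, l), ← card_antiflags, ← Nat.card_coe_set_eq]
  congr 1
  refine Nat.card_congr (Equiv.setCongr ?_)
  ext ⟨x, m⟩
  constructor
  · rintro ⟨g, hg⟩ hx
    simp only [Prod.smul_mk, Prod.mk.injEq] at hg
    rw [← hg.1, ← hg.2, smul_mem_smul] at hx
    exact hC hx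
  · intro hx
    obtain ⟨g, h1, h2⟩ := h.antiflag hC hx
    exact ⟨g, by simp [h1, h2]⟩

/-- a Sylow subgroup fixing a flag -/
lemma TwoTrans.exists_sylow_flag (h : TwoTrans P L) {p : ℕ} (hp : p.Prime)
    (hnd : ¬ p ∣ (ProjectivePlane.order P L ^ 2 + ProjectivePlane.order P L + 1) *
      (ProjectivePlane.order P L + 1)) :
    ∃ (C : P) (l : L) (S : Subgroup (Coll P L)) (e : ℕ), C ∈ l ∧ Nat.card S = p ^ e ∧
      ¬ p ^ (e + 1) ∣ Nat.card (Coll P L) ∧ ∀ g ∈ S, g • C = C ∧ g • l = l := by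
  obtain ⟨C, -⟩ := @ProjectivePlane.exists_config P L _ _
  obtain ⟨l, hC, -⟩ := exists_line (L := L) C C
  haveI : Fact p.Prime := ⟨hp⟩
  set H := stabilizer (Coll P L) (C, l) with hH
  set e := (Nat.card H).factorization p
  obtain ⟨S', hS'⟩ := Sylow.exists_subgroup_card_pow_prime p (n := e)
    (show p ^ e ∣ Nat.card H from Nat.ordProj_dvd _ _)
  refine ⟨C, l, S'.map H.subtype, e, hC, ?_, ?_, ?_⟩
  · rw [Subgroup.card_map_of_injective H.subtype_injective, hS']
  · intro hd
    rw [h.card_eq_flags hC] at hd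
    have := (Nat.Coprime.pow_left (e + 1) ((hp.coprime_iff_not_dvd).2 hnd)).dvd_of_dvd_mul_left hd
    exact Nat.pow_succ_factorization_not_dvd Nat.card_pos.ne' hp this
  · intro g hg
    have := mem_stabilizer_iff.1 (Subgroup.map_subtype_le S' hg)
    simpa using this

/-- A plane of prime power order with a two-transitive collineation group has a perspectivity. -/
theorem exists_persp_of_prime_pow (h : TwoTrans P L) {p a : ℕ} (hp : p.Prime) (ha : 1 ≤ a)
    (hn : ProjectivePlane.order P L = p ^ a) : ∃ g : Coll P L, g ≠ 1 ∧ IsPersp g := by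
  by_contra hno
  push Not at hno
  haveI : Fact p.Prime := ⟨hp⟩
  have hpn : p ∣ ProjectivePlane.order P L := hn ▸ dvd_pow_self p (by omega)
  obtain ⟨C, l, S, e, hC, hS, hmax, hfix⟩ := h.exists_sylow_flag hp (by
    obtain ⟨q, hq⟩ := hpn
    intro hd
    have h1 : p ∣ (p * q) ^ 2 + p * q + 1 ∨ p ∣ p * q + 1 := hp.dvd_mul.1 (hq ▸ hd)
    have h2 : p ∣ (p * q) ^ 2 + p * q := Dvd.intro (p * q ^ 2 + q) (by ring)
    rcases h1 with h1 | h1
    · exact hp.not_dvd_one ((Nat.dvd_add_right h2).1 h1)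
    · exact hp.not_dvd_one ((Nat.dvd_add_right (Dvd.intro q rfl)).1 h1))
  have hsq : ProjectivePlane.order P L ^ 2 = p ^ (2 * a) := by rw [hn, ← pow_mul, mul_comm]
  have trA : ∀ x : P, x ∉ l → (∀ y : P, y ∉ l → ∃ g ∈ S, g • x = y) ∧
      Nat.card ↥(S ⊓ stabilizer (Coll P L) x) * p ^ (2 * a) = p ^ e := by
    intro x hx
    rw [card_inf_stab]
    exact transitive_of_full_p_part hp (stabilizer (Coll P L) l) S (fun g hg => (hfix g hg).2) hS
      hmax {y : P | y ∉ l} (by rw [card_off, hsq])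
      (fun g hg y hy e' => hy ((mem_of_fix g hg).1 e'))
      (fun y hy z hz => by obtain ⟨g, h1, h2⟩ := h.antiflag hy hz; exact ⟨g, h2, h1⟩) hx
  have trM : ∀ m : L, C ∉ m →
      Nat.card ↥(S ⊓ stabilizer (Coll P L) m) * p ^ (2 * a) = p ^ e := by
    intro m hm
    rw [card_inf_stab]
    exact (transitive_of_full_p_part hp (stabilizer (Coll P L) C) S (fun g hg => (hfix g hg).1) hS
      hmax {k : L | C ∉ k} (by rw [card_offL, hsq])
      (fun g hg k hk e' => hk (by
        rw [← smul_mem_smul g, show g • C = C from hg]; exact e'))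
      (fun y hy z hz => by obtain ⟨g, h1, h2⟩ := h.antiflag hy hz; exact ⟨g, h1, h2⟩) hm).2
  have trl : ∀ x : P, x ∈ l → x ≠ C → ∀ y : P, y ∈ l → y ≠ C → ∃ g ∈ S, g • x = y := by
    intro x hx hxC y hy hyC
    refine (transitive_of_full_p_part hp (stabilizer (Coll P L) C ⊓ stabilizer (Coll P L) l) S
      (fun g hg => ⟨(hfix g hg).1, (hfix g hg).2⟩) hS hmax ({z : P | z ∈ l} \ {C}) ?_ ?_ ?_
      (b := a) (x := x) ⟨hx, hxC⟩).1 y ⟨hy, hyC⟩
    · rw [Set.ncard_sdiff_singleton_of_mem (show C ∈ {z : P | z ∈ l} from hC), card_on, hn]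
      rfl
    · rintro g ⟨hg1, hg2⟩ z ⟨hz, hzC⟩
      refine ⟨(mem_of_fix g hg2).2 hz, fun e' => hzC (smul_left_cancel g ?_)⟩
      rw [show g • z = C from e', show g • C = C from hg1]
    · rintro y ⟨hy, hyC⟩ z ⟨hz, hzC⟩
      obtain ⟨g, h1, h2, h3⟩ := h.on_line hC hy hz hyC hzC
      exact ⟨g, ⟨h1, h2⟩, h3⟩
  -- facts on a central element
  have central : ∀ w ∈ S, (∀ g ∈ S, g * w = w * g) → w ≠ 1 →
      (∀ x : P, w • x = x → x = C) ∧ ∀ m : L, w • m = m → m = l := by
    intro w hw hc h1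
    have hxl : ∀ x : P, w • x = x → x = C := by
      intro x hx
      by_contra hxC
      by_cases hxl : x ∈ l
      · refine hno w h1 ?_
        have hax : w ∈ axisGroup l := fun y hy => by
          by_cases hyC : y = C
          · rw [hyC]; exact (hfix w hw).1
          · obtain ⟨g, hg, rfl⟩ := trl x hxl hxC y hy hyC
            rw [smul_smul, ← hc g hg, mul_smul, hx]
        obtain ⟨D, hD⟩ := exists_centre hax
        exact ⟨D, l, hax, hD⟩
      · have hall : ∀ y : P, y ∉ l → w • y = y := fun y hy => by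
          obtain ⟨g, hg, rfl⟩ := (trA x hxl).1 y hy
          rw [smul_smul, ← hc g hg, mul_smul, hx]
        have hax : w ∈ axisGroup l := fun y hy => by
          obtain ⟨m, hm, hml, -⟩ := exists_through_ne y l l
          obtain ⟨u, hu, huy, -⟩ := exists_on_ne m y y
          obtain ⟨u', hu', hu'y, hu'u⟩ := exists_on_ne m y u
          have hul : ∀ z : P, z ∈ m → z ≠ y → z ∉ l := fun z hz hzy e' =>
            hzy (point_unique hml hz e' hm hy)
          exact fix_point_of_two w hml hm hy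
            (fix_line_of_two w hu'u hu' hu (hall u' (hul u' hu' hu'y)) (hall u (hul u hu huy)))
            (hfix w hw).2
        obtain ⟨D, hD⟩ := exists_centre hax
        exact hno w h1 ⟨D, l, hax, hD⟩
    refine ⟨hxl, fun m hm => ?_⟩
    have h1P : {x : P | w • x = x}.ncard = 1 := by
      rw [Set.ncard_eq_one]
      exact ⟨C, Set.ext fun x => ⟨fun hx => hxl x hx, fun hx => hx ▸ (hfix w hw).1⟩⟩
    rw [card_fixed_eq, Set.ncard_eq_one] at h1P
    obtain ⟨k, hk⟩ := h1P
    have e1 : m = k := (Set.ext_iff.1 hk m).1 hm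
    have e2 : l = k := (Set.ext_iff.1 hk l).1 (hfix w hw).2
    exact e1.trans e2.symm
  obtain ⟨X, hX⟩ := exists_off (P := P) l
  have h2a : 2 * a ≤ e :=
    (Nat.pow_dvd_pow_iff_le_right hp.one_lt).1 (Dvd.intro_left _ (trA X hX).2)
  haveI : Nontrivial S := Finite.one_lt_card_iff_nontrivial.1
    (by rw [hS]; exact Nat.one_lt_pow (by omega) hp.one_lt)
  haveI := (IsPGroup.of_card hS).center_nontrivial
  obtain ⟨⟨z, hzc⟩, hz1⟩ := exists_ne (1 : Subgroup.center S)
  obtain ⟨w, hwS, hwc, hw1⟩ : ∃ w ∈ S, (∀ g ∈ S, g * w = w * g) ∧ w ≠ 1 :=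
    ⟨z, z.2, fun g hg => congrArg Subtype.val (Subgroup.mem_center_iff.1 hzc ⟨g, hg⟩),
      fun e' => hz1 (Subtype.ext (Subtype.ext e'))⟩
  obtain ⟨hwP, hwL⟩ := central w hwS hwc hw1
  have hwC := (hfix w hwS).1
  have hwX : w • X ≠ X := fun e' => hX (hwP X e' ▸ hC)
  have hwXl : w • X ∉ l := fun e' => hX ((mem_of_fix w (hfix w hwS).2).1 e')
  obtain ⟨M, hMX, hMwX⟩ := exists_line (L := L) X (w • X)
  have hMl : M ≠ l := fun e' => hX (e' ▸ hMX)
  have hwM : w • M ≠ M := fun e' => hMl (hwL M e')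
  by_cases hww : w * w = 1
  · apply hwM
    refine line_unique hwX ((smul_mem_smul w).2 hMX) ?_ hMwX hMX
    have := (smul_mem_smul w).2 hMwX
    rwa [smul_smul, hww, one_smul] at this
  obtain ⟨hw2P, hw2L⟩ := central (w * w) (mul_mem hwS hwS)
    (fun g hg => by rw [← mul_assoc, hwc g hg, mul_assoc, hwc g hg, mul_assoc]) hww
  set Y := (w * w) • X with hY
  have hYw : Y = w • w • X := mul_smul w w X
  have hCM : C ∉ M := fun e' => hwM (line_unique
    (fun e'' => hwXl (e'' ▸ hC) : C ≠ w • X) (hwC ▸ (smul_mem_smul w).2 e')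
    ((smul_mem_smul w).2 hMX) e' hMwX)
  have hCwM : C ∉ w • M := fun e' => hCM (by rwa [← smul_mem_smul w, hwC])
  have hXC : X ≠ C := fun e' => hX (e' ▸ hC)
  have hYM : Y ∉ M := fun e' => hwM (line_unique
    (fun e'' => hwX (smul_left_cancel w e'').symm : w • X ≠ w • w • X)
    ((smul_mem_smul w).2 hMX) ((smul_mem_smul w).2 hMwX) hMwX (hYw ▸ e'))
  set U := S ⊓ stabilizer (Coll P L) X with hU
  have hXU : X ∈ fixP U := fun g hg => hg.2
  have hCU : C ∈ fixP U := fun g hg => (hfix g hg.1).1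
  have hcomm : ∀ {v : Coll P L}, (∀ g ∈ S, g * v = v * g) → ∀ x ∈ fixP U, v • x ∈ fixP U :=
    fun hv x hx g hg => by rw [smul_smul, hv g hg.1, mul_smul, hx g hg]
  have hwXU := hcomm hwc X hXU
  have hYU : Y ∈ fixP U := hYw ▸ hcomm hwc _ hwXU
  have hq : HasQuad L (fixP U) := by
    refine ⟨C, hCU, X, hXU, w • X, hwXU, Y, hYU, ?_, ?_, ?_, ?_⟩
    · exact (nc_of_notMem hwX.symm hMX hMwX hCM).swap23.swap12
    · intro k hkC hkX hkY
      have : (w * w) • k = k := line_unique (fun e' => hX ((mem_of_fix (w * w)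
          (hfix _ (mul_mem hwS hwS)).2).1 (show Y ∈ l from e' ▸ hC)) : C ≠ Y)
        ((hfix _ (mul_mem hwS hwS)).1 ▸ (smul_mem_smul (w * w)).2 hkC)
        ((smul_mem_smul (w * w)).2 hkX) hkC hkY
      exact hX (hw2L k this ▸ hkX)
    · exact (nc_of_notMem (fun e' => hwX (smul_left_cancel w (e'.trans hYw)).symm : w • X ≠ Y)
        ((smul_mem_smul w).2 hMX) (hYw ▸ (smul_mem_smul w).2 hMwX) hCwM).swap23.swap12
    · exact nc_of_notMem hwX.symm hMX hMwX hYM
  set k := fixOrder hq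
  have hlU : l ∈ fixL U := fun g hg => (hfix g hg.1).2
  have hUc := (trA X hX).2
  have stabEq : ∀ (H : Subgroup (Coll P L)), U ≤ H → Nat.card H * p ^ (2 * a) = p ^ e → U = H :=
    fun H hle hH => Subgroup.eq_of_le_of_card_ge hle (le_of_eq
      (Nat.eq_of_mul_eq_mul_right (pow_pos hp.pos _) (hH.trans hUc.symm)))
  set N := S ⊓ Subgroup.normalizer (U : Set (Coll P L)) with hN
  -- the orbit of `X` under `N`
  have hNX : orbit N X = {x : P | x ∈ fixP U ∧ x ∉ l} := by
    ext x
    constructor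
    · rintro ⟨⟨g, hgS, hgN⟩, rfl⟩
      exact ⟨normalizer_fixed hgN hXU, fun e' => hX ((mem_of_fix g (hfix g hgS).2).1 e')⟩
    · rintro ⟨hx, hxl⟩
      obtain ⟨g, hg, rfl⟩ := (trA X hX).1 x hxl
      refine ⟨⟨g, hg, ?_⟩, rfl⟩
      have hUx : U = S ⊓ stabilizer (Coll P L) (g • X) :=
        stabEq _ (fun u hu => ⟨hu.1, hx u hu⟩) (trA _ hxl).2
      refine Subgroup.mem_normalizer_iff.2 fun u => ?_
      conv_rhs => rw [hUx]
      simp only [hU, Subgroup.mem_inf, mem_stabilizer_iff, mul_smul, inv_smul_smul,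
        smul_left_cancel_iff]
      exact and_congr_left fun _ => ⟨fun hu => mul_mem (mul_mem hg hu) (inv_mem hg), fun hu => by
        simpa [mul_assoc] using mul_mem (mul_mem (inv_mem hg) hu) hg⟩
  have hNcard : Nat.card N = k ^ 2 * Nat.card U := by
    rw [card_eq_orbit_mul_stab (G := N) X, hNX, card_fixP_off hq hlU, ← card_inf_stab]
    rw [show N ⊓ stabilizer (Coll P L) X = U from le_antisymm (inf_le_inf_right _ inf_le_left)
      (le_inf (le_inf inf_le_left Subgroup.le_normalizer) inf_le_right)]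
  obtain ⟨D, ⟨hDU, hDl⟩, hDC⟩ : ∃ D, D ∈ {x : P | x ∈ fixP U ∧ x ∈ l} ∧ D ∉ ({C} : Set P) :=
    Set.exists_mem_notMem_of_ncard_lt_ncard (by
      rw [Set.ncard_singleton, card_fixP_on hq hlU]; have := two_le_fixOrder hq; omega)
  have hDC : D ≠ C := hDC
  obtain ⟨v, hvN, hvD, hvU⟩ : ∃ v ∈ N, v • D = D ∧ v ∉ U := by
    by_contra hc
    push Not at hc
    have h1 := card_eq_orbit_mul_stab (G := N) D
    rw [hNcard, ← card_inf_stab] at h1
    have h2 : Nat.card ↥(N ⊓ stabilizer (Coll P L) D) ≤ Nat.card U :=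
      Subgroup.card_le_of_le fun g hg => hc g hg.1 hg.2
    have h3 : (orbit N D).ncard ≤ k := by
      have : orbit N D ⊆ {x : P | x ∈ fixP U ∧ x ∈ l} \ {C} := by
        rintro _ ⟨⟨g, hgS, hgN⟩, rfl⟩
        exact ⟨⟨normalizer_fixed hgN hDU, (mem_of_fix g (hfix g hgS).2).2 hDl⟩,
          fun e' => hDC (smul_left_cancel g ((show g • D = C from e').trans (hfix g hgS).1.symm))⟩
      refine (Set.ncard_le_ncard this (Set.toFinite _)).trans (le_of_eq ?_)
      rw [Set.ncard_sdiff_singleton_of_mem (show C ∈ {x : P | x ∈ fixP U ∧ x ∈ l} from ⟨hCU, hC⟩),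
        card_fixP_on hq hlU]
      rfl
    have hk2 := two_le_fixOrder hq
    have : k ^ 2 * Nat.card U ≤ k * Nat.card U := h1 ▸ Nat.mul_le_mul h3 h2
    have := Nat.le_of_mul_le_mul_right this Nat.card_pos
    nlinarith
  -- a second fixed line
  letI := subplane hq
  set E := restrict U ⟨v, hvN.2⟩ with hE
  obtain ⟨m, hm, hml⟩ : ∃ m : FL U, E • m = m ∧ m.1 ≠ l := by
    by_contra hc
    push Not at hc
    have h1 : {m : FL U | E • m = m}.ncard ≤ 1 := by
      rw [Set.ncard_le_one (Set.toFinite _)]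
      exact fun m hm m' hm' => Subtype.ext ((hc m hm).trans (hc m' hm').symm)
    rw [← card_fixed_eq, Set.ncard_le_one (Set.toFinite _)] at h1
    exact hDC (congrArg Subtype.val (h1 ⟨D, hDU⟩ (Subtype.ext hvD) ⟨C, hCU⟩
      (Subtype.ext (hfix v hvN.1).1)))
  have hvm : v • m.1 = m.1 := congrArg Subtype.val hm
  by_cases hCm : C ∈ m.1
  · have hDm : D ∉ m.1 := fun e' => hml (line_unique hDC e' hCm hDl hC)
    set K := S ⊓ stabilizer (Coll P L) (D, m.1) with hK
    have hUK : U ≤ K := fun u hu => ⟨hu.1, by simp [hDU u hu, m.2 u hu]⟩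
    have hlt : Nat.card U < Nat.card K := by
      refine lt_of_le_of_ne (Subgroup.card_le_of_le hUK) fun e' => hvU ?_
      rw [Subgroup.eq_of_le_of_card_ge hUK e'.ge]
      exact ⟨hvN.1, by simp [hvD, hvm]⟩
    obtain ⟨j, -, hj⟩ := (Nat.dvd_prime_pow hp).1 (hS ▸ Subgroup.card_dvd_of_le (inf_le_left : K ≤ S))
    have hd : p ^ (2 * a + j) ∣ Nat.card (Coll P L) := by
      rw [pow_add, h.card_eq_antiflags hDm, hsq, mul_comm (_ + 1) (p ^ (2 * a)), mul_assoc]
      exact mul_dvd_mul_left _ (Dvd.dvd.mul_left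
        (hj ▸ Subgroup.card_dvd_of_le (inf_le_right : K ≤ _)) _)
    have hle : 2 * a + j ≤ e := by
      by_contra hc
      exact hmax ((pow_dvd_pow p (by omega)).trans hd)
    have := Nat.mul_lt_mul_of_pos_right hlt (pow_pos hp.pos (2 * a))
    rw [hUc, hj, ← pow_add] at this
    exact absurd this (not_lt.2 (Nat.pow_le_pow_right hp.pos (by omega)))
  · apply hvU
    rw [stabEq (S ⊓ stabilizer (Coll P L) m.1) (fun u hu => ⟨hu.1, m.2 u hu⟩) (trM m.1 hCm)]
    exact ⟨hvN.1, hvm⟩

end Cfsg.Lib.OW
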