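import Cfsg.Agent.OstromWagner.Persp

/-!
# Fixed subplanes
-/

set_option autoImplicit false
set_option linter.style.haveILetI false
set_option linter.unusedSectionVars false

namespace Cfsg.Lib.OW

open Configuration MulAction

universe u v

lemma eq_of_sq_add_eq {a b : ℕ} (h : a ^ 2 + a + 1 = b ^ 2 + b + 1) : a = b := by
  rcases lt_trichotomy a b with hlt | heq | hgt
  · nlinarith
  · exact heq
  · nlinarith

lemma normalizer_fixed {G α : Type*} [Group G] [MulAction G α] {K : Subgroup G} {e : G}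
    (he : e ∈ Subgroup.normalizer (K : Set G)) {x : α} (hx : ∀ g ∈ K, g • x = x) :
    ∀ g ∈ K, g • e • x = e • x := fun g hg => by
  have : e⁻¹ * g * e ∈ K := (Subgroup.mem_normalizer_iff''.1 he g).1 hg
  calc g • e • x = e • ((e⁻¹ * g * e) • x) := by simp [smul_smul, mul_assoc]
    _ = e • x := by rw [hx _ this]

variable {P : Type u} {L : Type v} [Membership P L]

/-- fixed points -/
abbrev FP (K : Subgroup (Coll P L)) : Type u := {p : P // p ∈ fixP K}

/-- fixed lines -/
abbrev FL (K : Subgroup (Coll P L)) : Type v := {l : L // l ∈ fixL K}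

instance instMemFix (K : Subgroup (Coll P L)) : Membership (FP K) (FL K) :=
  ⟨fun l p => p.1 ∈ l.1⟩

lemma mem_fix_iff {K : Subgroup (Coll P L)} {p : FP K} {l : FL K} : p ∈ l ↔ p.1 ∈ l.1 := Iff.rfl

lemma fixP_anti {K K' : Subgroup (Coll P L)} (h : K' ≤ K) : fixP K ⊆ fixP K' :=
  fun _ hx g hg => hx g (h hg)

lemma hasQuad_mono {s t : Set P} (h : s ⊆ t) (hs : HasQuad L s) : HasQuad L t := by
  obtain ⟨A, hA, B, hB, C, hC, D, hD, hq⟩ := hs
  exact ⟨A, h hA, B, h hB, C, h hC, D, h hD, hq⟩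

lemma fixP_zpowers (g : Coll P L) : fixP (Subgroup.zpowers g) = {p : P | g • p = p} := by
  ext p
  refine ⟨fun h => h g (Subgroup.mem_zpowers g), fun h k hk => ?_⟩
  have : Subgroup.zpowers g ≤ stabilizer (Coll P L) p :=
    Subgroup.zpowers_le.2 (mem_stabilizer_iff.2 h)
  exact mem_stabilizer_iff.1 (this hk)

/-- restriction of the normaliser to the fixed configuration -/
def restrict (K : Subgroup (Coll P L)) :
    Subgroup.normalizer (K : Set (Coll P L)) →* Coll (FP K) (FL K) where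
  toFun e :=
    ⟨({ toFun := fun p => ⟨(e : Coll P L) • p.1, normalizer_fixed e.2 p.2⟩
        invFun := fun p => ⟨((e⁻¹ : Subgroup.normalizer (K : Set (Coll P L))) : Coll P L) • p.1,
          normalizer_fixed (e⁻¹).2 p.2⟩
        left_inv := fun p => Subtype.ext (inv_smul_smul (e : Coll P L) p.1)
        right_inv := fun p => Subtype.ext (smul_inv_smul (e : Coll P L) p.1) },
      { toFun := fun l => ⟨(e : Coll P L) • l.1, normalizer_fixed e.2 l.2⟩
        invFun := fun l => ⟨((e⁻¹ : Subgroup.normalizer (K : Set (Coll P L))) : Coll P L) • l.1,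
          normalizer_fixed (e⁻¹).2 l.2⟩
        left_inv := fun l => Subtype.ext (inv_smul_smul (e : Coll P L) l.1)
        right_inv := fun l => Subtype.ext (smul_inv_smul (e : Coll P L) l.1) }),
      fun p l => (smul_mem_smul (e : Coll P L) : (e : Coll P L) • p.1 ∈ (e : Coll P L) • l.1 ↔ _)⟩
  map_one' := Subtype.ext (Prod.ext (Equiv.ext fun p => Subtype.ext (one_smul _ p.1))
    (Equiv.ext fun l => Subtype.ext (one_smul _ l.1)))
  map_mul' e f := Subtype.ext (Prod.ext
    (Equiv.ext fun p => Subtype.ext (mul_smul (e : Coll P L) (f : Coll P L) p.1))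
    (Equiv.ext fun l => Subtype.ext (mul_smul (e : Coll P L) (f : Coll P L) l.1)))

@[simp] lemma restrict_smul_P {K : Subgroup (Coll P L)}
    (e : Subgroup.normalizer (K : Set (Coll P L))) (p : FP K) :
    ((restrict K e) • p).1 = (e : Coll P L) • p.1 := rfl

@[simp] lemma restrict_smul_L {K : Subgroup (Coll P L)}
    (e : Subgroup.normalizer (K : Set (Coll P L))) (l : FL K) :
    ((restrict K e) • l).1 = (e : Coll P L) • l.1 := rfl

lemma restrict_eq_one {K : Subgroup (Coll P L)} (e : Subgroup.normalizer (K : Set (Coll P L)))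
    (he : (e : Coll P L) ∈ K) : restrict K e = 1 :=
  Subtype.ext (Prod.ext (Equiv.ext fun p => Subtype.ext (p.2 e he))
    (Equiv.ext fun l => Subtype.ext (l.2 e he)))

variable [ProjectivePlane P L]

/-- the fixed subplane -/
@[reducible] noncomputable def subplane {K : Subgroup (Coll P L)} (h : HasQuad L (fixP K)) :
    ProjectivePlane (FP K) (FL K) where
  exists_point l := by
    obtain ⟨A, hA, B, hB, C, hC, D, -, hq⟩ := h
    by_cases hAl : A ∈ l.1
    · by_cases hBl : B ∈ l.1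
      · exact ⟨⟨C, hC⟩, hq.abc l.1 hAl hBl⟩
      · exact ⟨⟨B, hB⟩, hBl⟩
    · exact ⟨⟨A, hA⟩, hAl⟩
  exists_line p := by
    obtain ⟨A, hA, B, hB, C, hC, D, -, hq⟩ := h
    obtain ⟨a, ha, ha'⟩ := Cfsg.Lib.OW.exists_line (L := L) A B
    obtain ⟨b, hb, hb'⟩ := Cfsg.Lib.OW.exists_line (L := L) B C
    obtain ⟨c, hc, hc'⟩ := Cfsg.Lib.OW.exists_line (L := L) A C
    by_cases hpa : p.1 ∈ a
    · by_cases hpb : p.1 ∈ b
      · refine ⟨⟨c, fixL_of_two hq.abc.ne13 hc hc' hA hC⟩, fun hpc => ?_⟩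
        have hab : a ≠ b := fun e => hq.abc a ha ha' (e ▸ hb')
        have hpB : p.1 = B := point_unique hab hpa hpb ha' hb
        exact hq.abc c hc (hpB ▸ hpc) hc'
      · exact ⟨⟨b, fixL_of_two hq.abc.ne23 hb hb' hB hC⟩, hpb⟩
    · exact ⟨⟨a, fixL_of_two hq.abc.ne12 ha ha' hA hB⟩, hpa⟩
  eq_or_eq h1 h2 h3 h4 :=
    (Nondegenerate.eq_or_eq (mem_fix_iff.1 h1) (mem_fix_iff.1 h2) (mem_fix_iff.1 h3)
      (mem_fix_iff.1 h4)).imp Subtype.ext Subtype.ext
  mkPoint {l m} hlm := ⟨HasPoints.mkPoint (fun e => hlm (Subtype.ext e)),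
    fixP_of_two (fun e => hlm (Subtype.ext e)) (HasPoints.mkPoint_ax _).1
      (HasPoints.mkPoint_ax _).2 l.2 m.2⟩
  mkPoint_ax {l m} hlm := HasPoints.mkPoint_ax (fun e => hlm (Subtype.ext e))
  mkLine {p q} hpq := ⟨HasLines.mkLine (fun e => hpq (Subtype.ext e)),
    fixL_of_two (fun e => hpq (Subtype.ext e)) (HasLines.mkLine_ax _).1
      (HasLines.mkLine_ax _).2 p.2 q.2⟩
  mkLine_ax {p q} hpq := HasLines.mkLine_ax (fun e => hpq (Subtype.ext e))
  exists_config := by
    obtain ⟨A, hA, B, hB, C, hC, D, hD, hq⟩ := h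
    obtain ⟨a, ha, ha'⟩ := Cfsg.Lib.OW.exists_line (L := L) A D
    obtain ⟨b, hb, hb'⟩ := Cfsg.Lib.OW.exists_line (L := L) B C
    obtain ⟨c, hc, hc'⟩ := Cfsg.Lib.OW.exists_line (L := L) B D
    exact ⟨⟨A, hA⟩, ⟨B, hB⟩, ⟨C, hC⟩, ⟨a, fixL_of_two hq.abd.ne13 ha ha' hA hD⟩,
      ⟨b, fixL_of_two hq.abc.ne23 hb hb' hB hC⟩, ⟨c, fixL_of_two hq.abd.ne23 hc hc' hB hD⟩,
      fun e => hq.abc b e hb hb', fun e => hq.abd c e hc hc', fun e => hq.abd a ha e ha',
      hb, hc, fun e => hq.acd a ha e ha', hb', fun e => hq.bcd c hc e hc'⟩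

/-- the order of the fixed subplane -/
noncomputable def fixOrder {K : Subgroup (Coll P L)} (h : HasQuad L (fixP K)) : ℕ :=
  @ProjectivePlane.order (FP K) (FL K) _ (subplane h)

variable [Finite P] [Finite L] {K : Subgroup (Coll P L)} (h : HasQuad L (fixP K))
include h

lemma two_le_fixOrder : 2 ≤ fixOrder h := by
  letI := subplane h
  exact two_le_order

lemma card_fixP : (fixP K).ncard = fixOrder h ^ 2 + fixOrder h + 1 := by
  letI := subplane h
  rw [← Nat.card_coe_set_eq]
  exact card_P (P := FP K) (L := FL K)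

lemma card_fixP_on {l : L} (hl : l ∈ fixL K) :
    {p : P | p ∈ fixP K ∧ p ∈ l}.ncard = fixOrder h + 1 := by
  letI := subplane h
  rw [show fixOrder h = ProjectivePlane.order (FP K) (FL K) from rfl,
    ← card_on (⟨l, hl⟩ : FL K), ← Set.ncard_image_of_injective _ Subtype.val_injective]
  congr 1
  ext p
  exact ⟨fun hp => ⟨⟨p, hp.1⟩, hp.2, rfl⟩, by rintro ⟨q, hq, rfl⟩; exact ⟨q.2, hq⟩⟩

lemma card_fixP_off {l : L} (hl : l ∈ fixL K) :
    {p : P | p ∈ fixP K ∧ p ∉ l}.ncard = fixOrder h ^ 2 := by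
  letI := subplane h
  rw [show fixOrder h = ProjectivePlane.order (FP K) (FL K) from rfl,
    ← card_off (⟨l, hl⟩ : FL K), ← Set.ncard_image_of_injective _ Subtype.val_injective]
  congr 1
  ext p
  exact ⟨fun hp => ⟨⟨p, hp.1⟩, hp.2, rfl⟩, by rintro ⟨q, hq, rfl⟩; exact ⟨q.2, hq⟩⟩

lemma exists_fixL : ∃ l : L, l ∈ fixL K := by
  obtain ⟨A, hA, B, hB, C, -, D, -, hq⟩ := h
  obtain ⟨a, ha, ha'⟩ := exists_line (L := L) A B
  exact ⟨a, fixL_of_two hq.abc.ne12 ha ha' hA hB⟩

lemma fixOrder_le : fixOrder h ≤ ProjectivePlane.order P L := by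
  obtain ⟨l, hl⟩ := exists_fixL h
  have h1 := card_fixP_on h hl
  have h2 : {p : P | p ∈ fixP K ∧ p ∈ l}.ncard ≤ {p : P | p ∈ l}.ncard :=
    Set.ncard_le_ncard (fun p hp => hp.2) (Set.toFinite _)
  rw [card_on] at h2
  omega

lemma fixOrder_lt (hK : K ≠ ⊥) : fixOrder h < ProjectivePlane.order P L := by
  refine lt_of_le_of_ne (fixOrder_le h) fun e => hK ?_
  have h1 := card_fixP h
  rw [e, ← card_P (P := P) (L := L)] at h1
  have := Set.eq_of_subset_of_ncard_le (Set.subset_univ (fixP K)) (by rw [Set.ncard_univ, h1]) (Set.toFinite _)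
  rw [Subgroup.eq_bot_iff_forall]
  intro g hg
  refine coll_ext fun p => ?_
  rw [one_smul]
  exact (show p ∈ fixP K from this ▸ Set.mem_univ p) g hg

lemma exists_outer_point (hK : K ≠ ⊥) :
    ∃ (l : L) (X : P), l ∈ fixL K ∧ X ∈ l ∧ X ∉ fixP K := by
  obtain ⟨l, hl⟩ := exists_fixL h
  obtain ⟨X, hX, hX'⟩ := Set.exists_mem_notMem_of_ncard_lt_ncard
    (s := {p : P | p ∈ fixP K ∧ p ∈ l}) (t := {p : P | p ∈ l})
    (by rw [card_fixP_on h hl, card_on]; have := fixOrder_lt h hK; omega)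
  exact ⟨l, X, hl, hX, fun e => hX' ⟨e, hX⟩⟩

lemma fixOrder_sq_le (hK : K ≠ ⊥) : fixOrder h ^ 2 ≤ ProjectivePlane.order P L := by
  classical
  obtain ⟨l, X, hl, hXl, hX⟩ := exists_outer_point h hK
  choose f hf using fun p : P => exists_line (L := L) X p
  rw [← card_fixP_off h hl]
  have ht : ({m : L | X ∈ m} \ {l}).ncard = ProjectivePlane.order P L := by
    rw [Set.ncard_sdiff_singleton_of_mem (show l ∈ {m : L | X ∈ m} from hXl), card_through]
    omega
  rw [← ht]
  refine Set.ncard_le_ncard_of_injOn f (fun p hp => ⟨(hf p).1, fun e => hp.2 ?_⟩) ?_ (Set.toFinite _)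
  · have e' : f p = l := e
    exact e' ▸ (hf p).2
  · rintro p ⟨hp, hpl⟩ q ⟨hq, hql⟩ e
    by_contra hne
    have hm := fixL_of_two hne (hf p).2 (e ▸ (hf q).2) hp hq
    exact hX (fixP_of_two (fun e' => hpl (by rw [← e']; exact (hf p).2)) (hf p).1 hXl hm hl)

omit h in
/-- Baer involutions -/
lemma baer {g : Coll P L} (hg : g * g = 1) (h1 : g ≠ 1)
    (h : HasQuad L (fixP (Subgroup.zpowers g))) :
    ProjectivePlane.order P L = fixOrder h ^ 2 := by
  classical
  have hK : Subgroup.zpowers g ≠ ⊥ := fun e => h1 (Subgroup.zpowers_eq_bot.1 e)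
  refine le_antisymm ?_ (fixOrder_sq_le h hK)
  obtain ⟨l, X, hl, hXl, hX⟩ := exists_outer_point h hK
  have : ∀ m : L, ∃ p : P, p ∈ m ∧ g • p = p := invol_line_fixed_point hg h1
  choose f hf using this
  have ht : ({m : L | X ∈ m} \ {l}).ncard = ProjectivePlane.order P L := by
    rw [Set.ncard_sdiff_singleton_of_mem (show l ∈ {m : L | X ∈ m} from hXl), card_through]
    omega
  have hX' : g • X ≠ X := fun e => hX (by rw [fixP_zpowers]; exact e)
  rw [← ht, ← card_fixP_off h hl]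
  refine Set.ncard_le_ncard_of_injOn f ?_ ?_ (Set.toFinite _)
  · rintro m ⟨hXm, hml⟩
    refine ⟨by rw [fixP_zpowers]; exact (hf m).2, fun e => hX' ?_⟩
    have := point_unique hml (hf m).1 e hXm hXl
    exact this ▸ (hf m).2
  · rintro m ⟨hXm, -⟩ m' ⟨hXm', -⟩ e
    exact line_unique (fun e' => hX' (e' ▸ (hf m).2) : X ≠ f m) hXm (hf m).1 hXm' (e ▸ (hf m').1)

omit h in
/-- The order is a `2`-power power of the order of the fixed subplane of a `2`-group. -/
theorem order_eq_pow {d : ℕ} : ∀ {D : Subgroup (Coll P L)}, Nat.card D = 2 ^ d →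
    ∀ h : HasQuad L (fixP D), ∃ i, ProjectivePlane.order P L = fixOrder h ^ 2 ^ i := by
  induction d with
  | zero =>
    intro D hD h
    refine ⟨0, ?_⟩
    have hb : D = ⊥ := Subgroup.card_eq_one.1 (by simpa using hD)
    have e : fixP D = Set.univ := Set.eq_univ_of_forall fun p g hg => by
      rw [hb, Subgroup.mem_bot] at hg; rw [hg, one_smul]
    have := card_fixP h
    rw [e, Set.ncard_univ, card_P (P := P) (L := L)] at this
    simpa using eq_of_sq_add_eq this
  | succ d ih =>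
    intro D hD h
    haveI : Fact (Nat.Prime 2) := ⟨Nat.prime_two⟩
    obtain ⟨D₀', hD₀'⟩ := Sylow.exists_subgroup_card_pow_prime 2 (n := d)
      (show 2 ^ d ∣ Nat.card D by rw [hD]; exact pow_dvd_pow 2 (Nat.le_succ d))
    set D₀ := D₀'.map D.subtype
    have hle : D₀ ≤ D := Subgroup.map_subtype_le _
    have hD₀ : Nat.card D₀ = 2 ^ d := by
      rw [Subgroup.card_map_of_injective D.subtype_injective, hD₀']
    have hidx : (D₀.subgroupOf D).index = 2 := by
      have := Subgroup.card_mul_index (D₀.subgroupOf D)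
      rw [Nat.card_congr (Subgroup.subgroupOfEquivOfLe hle).toEquiv, hD₀, hD, pow_succ] at this
      exact Nat.eq_of_mul_eq_mul_left (pow_pos two_pos d) this
    have hnorm : D ≤ Subgroup.normalizer (D₀ : Set (Coll P L)) :=
      Subgroup.normal_subgroupOf_iff_le_normalizer hle |>.1 (Subgroup.normal_of_index_eq_two hidx)
    obtain ⟨e, heD, heD₀⟩ : ∃ e ∈ D, e ∉ D₀ := by
      by_contra hc
      push Not at hc
      have := Subgroup.card_le_of_le (show D ≤ D₀ from hc)
      rw [hD, hD₀] at this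
      exact absurd this (not_le.2 (Nat.pow_lt_pow_right one_lt_two (Nat.lt_succ_self d)))
    have h₀ : HasQuad L (fixP D₀) := hasQuad_mono (fixP_anti hle) h
    obtain ⟨i, hi⟩ := ih hD₀ h₀
    letI := subplane h₀
    set E := restrict D₀ ⟨e, hnorm heD⟩ with hE
    have hEE : E * E = 1 := by
      rw [hE, ← map_mul]
      exact restrict_eq_one _ (Subgroup.mem_subgroupOf.1
        (Subgroup.mul_self_mem_of_index_two hidx ⟨e, heD⟩))
    have hfix : ∀ p : FP D₀, E • p = p ↔ p.1 ∈ fixP D := by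
      intro p
      constructor
      · intro hp g hg
        by_cases hg0 : g ∈ D₀
        · exact p.2 g hg0
        · have hmem := (Subgroup.mul_mem_iff_of_index_two hidx (a := ⟨e, heD⟩⁻¹) (b := ⟨g, hg⟩)).2
            (by simp [Subgroup.mem_subgroupOf, hg0, heD₀])
          have hmem' : e⁻¹ * g ∈ D₀ := by simpa [Subgroup.mem_subgroupOf] using hmem
          have h2 := congrArg (e • ·) (p.2 _ hmem')
          simp only [smul_smul, mul_inv_cancel_left] at h2
          exact h2.trans (congrArg Subtype.val hp)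
      · intro hp; exact Subtype.ext (hp e heD)
    have himg : (Subtype.val '' {p : FP D₀ | E • p = p}) = fixP D := by
      ext x
      constructor
      · rintro ⟨p, hp, rfl⟩; exact (hfix p).1 hp
      · intro hx; exact ⟨⟨x, fixP_anti hle hx⟩, (hfix _).2 hx, rfl⟩
    by_cases hE1 : E = 1
    · refine ⟨i, ?_⟩
      have : fixP D = fixP D₀ := by
        rw [← himg, hE1]
        ext x
        simp
      have h1 := card_fixP h
      rw [this, card_fixP h₀] at h1
      rw [← eq_of_sq_add_eq h1]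
      exact hi
    · have hq : HasQuad (FL D₀) (fixP (Subgroup.zpowers E)) := by
        obtain ⟨A, hA, B, hB, C, hC, D', hD', hq⟩ := h
        rw [fixP_zpowers]
        exact ⟨⟨A, fixP_anti hle hA⟩, (hfix _).2 hA, ⟨B, fixP_anti hle hB⟩, (hfix _).2 hB,
          ⟨C, fixP_anti hle hC⟩, (hfix _).2 hC, ⟨D', fixP_anti hle hD'⟩, (hfix _).2 hD',
          fun l => hq.abc l.1, fun l => hq.abd l.1, fun l => hq.acd l.1, fun l => hq.bcd l.1⟩
      have hb := baer hEE hE1 hq
      have h1 := card_fixP hq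
      rw [fixP_zpowers, ← Set.ncard_image_of_injective _ Subtype.val_injective, himg,
        card_fixP h] at h1
      refine ⟨i + 1, ?_⟩
      rw [hi, show fixOrder h₀ = ProjectivePlane.order (FP D₀) (FL D₀) from rfl, hb,
        eq_of_sq_add_eq h1, ← pow_mul, pow_succ']

end Cfsg.Lib.OW
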